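import Cfsg.Agent.Lib.Golay.Bsgs

/-!
# An element fixing the base of a checked chain is trivial
-/

set_option autoImplicit false

namespace CfsgLib.CoThreeRec

open CfsgLib.Golay CfsgLib.Golay.Bsgs

theorem eq_one_of_fix_bases {G : Type*} [Group G] [Finite G] {α : Type*} [MulAction G α]
    (O : Ops G α) : ∀ {fixed : List ℕ} {ls : List Lvl}, (∀ f ∈ fixed, O.ptOk f = true) →
      check O fixed ls = true →
      ∀ g ∈ grp O ls, (∀ l ∈ ls, g • O.pt l.base = O.pt l.base) → g = 1
  | _, [], _, _, g, hg, _ => by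
    simpa [grp, allGens] using hg
  | fixed, l :: ls, hfix, hc, g, hg, hb => by
    obtain ⟨-, -, -, -, hdec⟩ := Bsgs.spec O hfix hc
    simp only [check, Bool.and_eq_true, decide_eq_true_eq, List.all_eq_true, List.mem_range,
      beq_iff_eq] at hc
    obtain ⟨⟨⟨⟨⟨⟨⟨⟨hbase, hhead⟩, hreps⟩, hnd⟩, -⟩, -⟩, -⟩, -⟩, hrec⟩ := hc
    have hfix' : ∀ f ∈ fixed ++ [l.base], O.ptOk f = true := by
      intro f hf
      rcases List.mem_append.1 hf with hf | hf
      · exact hfix f hf
      · rw [List.mem_singleton.1 hf]; exact hbase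
    obtain ⟨hF, -⟩ := Bsgs.spec O hfix' hrec
    obtain ⟨r, hr, h, hh, rfl⟩ := hdec l ls rfl g hg
    have hfixh : h • O.pt l.base = O.pt l.base :=
      hF h hh _ (List.mem_append.2 (Or.inr (List.mem_singleton.2 rfl)))
    have hone : O.one ∈ l.reps := by
      cases hr' : l.reps with
      | nil => rw [hr'] at hhead; simp at hhead
      | cons a as => rw [hr'] at hhead; simp at hhead; simp [hhead]
    have himg : O.img r l.base = O.img O.one l.base := by
      refine O.pt_inj _ _ (O.pt_img r _ (hreps r hr) hbase).2 (O.pt_img _ _ O.ok_one hbase).2 ?_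
      rw [← (O.pt_img r _ (hreps r hr) hbase).1, ← (O.pt_img _ _ O.ok_one hbase).1, O.val_one,
        one_smul]
      have := hb l List.mem_cons_self
      rwa [mul_smul, hfixh] at this
    obtain rfl : r = O.one := List.inj_on_of_nodup_map hnd hr hone himg
    rw [O.val_one, one_mul] at hb ⊢
    exact eq_one_of_fix_bases O hfix' hrec h hh fun m hm => hb m (List.mem_cons_of_mem _ hm)

end CfsgLib.CoThreeRec
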