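import Cfsg.Agent.Lib.LeechPSU.Perm
import Cfsg.Agent.Lib.CoThreeRec.Data

/-!
# The double cover of the symplectic group of dimension six over two elements inside the model on 276 points

Words are products, read from the left; as permutations the rightmost letter acts first.
-/

set_option autoImplicit false
set_option maxRecDepth 100000

namespace CfsgLib.CoThreeRec

open CfsgLib.LeechPSU

/-- The inverse of a letter. -/
def flipLetter (l : ℕ) : ℕ := if l % 2 = 0 then l + 1 else l - 1

/-- The inverse of a word. -/
def invWord (w : List ℕ) : List ℕ := w.reverse.map flipLetter

/-- The value of a word under an assignment of the letters. -/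
def ev {M : Type*} [Monoid M] (f : ℕ → M) (w : List ℕ) : M := (w.map f).prod

/-- The image of a point under a word. -/
noncomputable def evalPt (w : List ℕ) (a : ℕ) : ℕ :=
  w.foldr (fun l x => fieldAt (codes.getD l 0) x) a

open scoped Classical in
/-- The permutation with a given code. -/
noncomputable def codePerm (c : ℕ) : Equiv.Perm (Fin 276) :=
  if h : ∃ σ : Equiv.Perm (Fin 276), IsCode c σ then h.choose else 1

/-- The permutation of a letter. -/
noncomputable def letter (l : ℕ) : Equiv.Perm (Fin 276) := codePerm (codes.getD l 0)

/-- The double cover. -/
noncomputable def Cm : Subgroup (Equiv.Perm (Fin 276)) := Subgroup.closure (Set.range fun l : Fin 4 => letter l)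

/-- A letter of the cover, in the cover. -/
noncomputable def xm (l : ℕ) : Cm :=
  if h : l < 4 then ⟨letter l, Subgroup.subset_closure ⟨⟨l, h⟩, rfl⟩⟩ else 1

/-- The central involution. -/
noncomputable def tm : Cm := ev xm tWord

/-- The neighbour. -/
noncomputable def nbr : Cm := ev xm xWord

/-- The involution of the second class. -/
noncomputable def sec : Cm := ev xm yWord

variable {M : Type*} [Group M]

/-- The value of a letter, given the cover and a further element. -/
noncomputable def gl (ι : Cm →* M) (n : M) (l : ℕ) : M :=
  if l < 4 then ι (xm l) else if l = 4 then n else n⁻¹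

/-- The defining relations hold. -/
def Amal (ι : Cm →* M) (n : M) : Prop := ∀ w ∈ rels, ev (gl ι n) w = 1

/-- The centraliser of the involution `t` is a copy of the double cover. -/
structure Coord {G : Type*} [Group G] (t : G) where
  /-- The identification. -/
  iota : Cm →* G
  inj : Function.Injective iota
  range_eq : iota.range = Subgroup.centralizer ({t} : Set G)
  map_t : iota tm = t

end CfsgLib.CoThreeRec
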