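import Cfsg.Agent.Lib.CoThreeRec.Walk

/-!
# Certificate data: identities at the representatives
-/

set_option autoImplicit false
set_option maxRecDepth 100000

namespace CfsgLib.CoThreeRec

/-- The uses of identities at base point 0, a part. -/
def certCover0Part0 : List (Hop) := [
  ⟨0, [], []⟩,
  ⟨0, [2], []⟩,
  ⟨0, [3], []⟩,
  ⟨0, [0, 2], []⟩,
  ⟨0, [2, 2], []⟩,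
  ⟨0, [0, 3], []⟩,
  ⟨0, [3, 3], []⟩,
  ⟨0, [2, 0, 2], []⟩,
  ⟨0, [3, 0, 2], []⟩,
  ⟨0, [0, 2, 2], []⟩,
  ⟨0, [1, 2, 2], []⟩,
  ⟨0, [2, 2, 2], []⟩,
  ⟨0, [2, 0, 3], []⟩,
  ⟨0, [3, 0, 3], []⟩,
  ⟨0, [0, 3, 3], []⟩,
  ⟨0, [1, 3, 3], []⟩,
  ⟨0, [3, 3, 3], []⟩,
  ⟨0, [0, 2, 0, 2], []⟩,
  ⟨0, [1, 2, 0, 2], []⟩,
  ⟨0, [2, 2, 0, 2], []⟩,
  ⟨0, [0, 3, 0, 2], []⟩,
  ⟨0, [1, 3, 0, 2], []⟩,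
  ⟨0, [3, 3, 0, 2], []⟩,
  ⟨0, [0, 0, 2, 2], []⟩,
  ⟨0, [2, 0, 2, 2], []⟩,
  ⟨0, [3, 0, 2, 2], []⟩,
  ⟨0, [1, 1, 2, 2], []⟩,
  ⟨0, [2, 1, 2, 2], []⟩,
  ⟨0, [3, 1, 2, 2], []⟩,
  ⟨0, [0, 2, 2, 2], []⟩,
  ⟨0, [1, 2, 2, 2], []⟩,
  ⟨0, [2, 2, 2, 2], []⟩,
  ⟨0, [0, 2, 0, 3], []⟩,
  ⟨0, [2, 2, 0, 3], []⟩,
  ⟨0, [0, 3, 0, 3], []⟩,
  ⟨0, [1, 3, 0, 3], []⟩,
  ⟨0, [3, 3, 0, 3], []⟩,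
  ⟨0, [0, 0, 3, 3], []⟩,
  ⟨0, [2, 0, 3, 3], []⟩,
  ⟨0, [3, 0, 3, 3], []⟩,
  ⟨0, [1, 1, 3, 3], []⟩,
  ⟨0, [2, 1, 3, 3], []⟩,
  ⟨0, [3, 1, 3, 3], []⟩,
  ⟨0, [0, 3, 3, 3], []⟩,
  ⟨0, [1, 3, 3, 3], []⟩,
  ⟨0, [3, 3, 3, 3], []⟩,
  ⟨0, [0, 0, 2, 0, 2], []⟩,
  ⟨0, [2, 0, 2, 0, 2], []⟩,
  ⟨0, [3, 0, 2, 0, 2], []⟩,
  ⟨0, [1, 1, 2, 0, 2], []⟩,
  ⟨0, [2, 1, 2, 0, 2], []⟩,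
  ⟨0, [3, 1, 2, 0, 2], []⟩,
  ⟨0, [0, 2, 2, 0, 2], []⟩,
  ⟨0, [1, 2, 2, 0, 2], []⟩,
  ⟨0, [2, 2, 2, 0, 2], []⟩,
  ⟨0, [0, 0, 3, 0, 2], []⟩,
  ⟨0, [2, 0, 3, 0, 2], []⟩,
  ⟨0, [3, 0, 3, 0, 2], []⟩,
  ⟨0, [1, 1, 3, 0, 2], []⟩,
  ⟨0, [2, 1, 3, 0, 2], []⟩,
  ⟨0, [3, 1, 3, 0, 2], []⟩,
  ⟨0, [0, 3, 3, 0, 2], []⟩,
  ⟨0, [1, 3, 3, 0, 2], []⟩,
  ⟨0, [3, 3, 3, 0, 2], []⟩,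
  ⟨0, [0, 0, 0, 2, 2], []⟩,
  ⟨0, [2, 0, 0, 2, 2], []⟩,
  ⟨0, [3, 0, 0, 2, 2], []⟩,
  ⟨0, [0, 2, 0, 2, 2], []⟩,
  ⟨0, [1, 2, 0, 2, 2], []⟩,
  ⟨0, [2, 2, 0, 2, 2], []⟩,
  ⟨0, [0, 3, 0, 2, 2], []⟩,
  ⟨0, [1, 3, 0, 2, 2], []⟩,
  ⟨0, [3, 3, 0, 2, 2], []⟩,
  ⟨0, [1, 1, 1, 2, 2], []⟩,
  ⟨0, [3, 1, 1, 2, 2], []⟩,
  ⟨0, [0, 2, 1, 2, 2], []⟩,
  ⟨0, [1, 2, 1, 2, 2], []⟩,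
  ⟨0, [2, 2, 1, 2, 2], []⟩,
  ⟨0, [0, 3, 1, 2, 2], []⟩,
  ⟨0, [1, 3, 1, 2, 2], []⟩,
  ⟨0, [3, 3, 1, 2, 2], []⟩,
  ⟨0, [0, 0, 2, 2, 2], []⟩,
  ⟨0, [2, 0, 2, 2, 2], []⟩,
  ⟨0, [3, 0, 2, 2, 2], []⟩,
  ⟨0, [1, 1, 2, 2, 2], []⟩,
  ⟨0, [2, 1, 2, 2, 2], []⟩,
  ⟨0, [0, 2, 2, 2, 2], []⟩,
  ⟨0, [1, 2, 2, 2, 2], []⟩,
  ⟨0, [2, 2, 2, 2, 2], []⟩,
  ⟨0, [2, 0, 2, 0, 3], []⟩,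
  ⟨0, [3, 0, 2, 0, 3], []⟩,
  ⟨0, [2, 2, 2, 0, 3], []⟩,
  ⟨0, [2, 0, 3, 0, 3], []⟩,
  ⟨0, [3, 0, 3, 0, 3], []⟩,
  ⟨0, [2, 1, 3, 0, 3], []⟩,
  ⟨0, [3, 1, 3, 0, 3], []⟩,
  ⟨0, [0, 3, 3, 0, 3], []⟩,
  ⟨0, [1, 3, 3, 0, 3], []⟩,
  ⟨0, [3, 3, 3, 0, 3], []⟩,
  ⟨0, [3, 0, 0, 3, 3], []⟩,
  ⟨0, [0, 2, 0, 3, 3], []⟩,
  ⟨0, [1, 2, 0, 3, 3], []⟩,
  ⟨0, [2, 2, 0, 3, 3], []⟩,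
  ⟨0, [0, 3, 0, 3, 3], []⟩,
  ⟨0, [1, 3, 0, 3, 3], []⟩,
  ⟨0, [3, 3, 0, 3, 3], []⟩,
  ⟨0, [3, 1, 1, 3, 3], []⟩,
  ⟨0, [0, 2, 1, 3, 3], []⟩,
  ⟨0, [2, 2, 1, 3, 3], []⟩,
  ⟨0, [0, 3, 1, 3, 3], []⟩,
  ⟨0, [1, 3, 1, 3, 3], []⟩,
  ⟨0, [3, 3, 1, 3, 3], []⟩,
  ⟨0, [0, 0, 3, 3, 3], []⟩,
  ⟨0, [2, 0, 3, 3, 3], []⟩,
  ⟨0, [3, 0, 3, 3, 3], []⟩,
  ⟨0, [1, 1, 3, 3, 3], []⟩,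
  ⟨0, [2, 1, 3, 3, 3], []⟩,
  ⟨0, [1, 3, 3, 3, 3], []⟩,
  ⟨0, [0, 0, 0, 2, 0, 2], []⟩,
  ⟨0, [2, 0, 0, 2, 0, 2], []⟩,
  ⟨0, [3, 0, 0, 2, 0, 2], []⟩,
  ⟨0, [0, 2, 0, 2, 0, 2], []⟩,
  ⟨0, [2, 2, 0, 2, 0, 2], []⟩,
  ⟨0, [0, 3, 0, 2, 0, 2], []⟩,
  ⟨0, [1, 3, 0, 2, 0, 2], []⟩,
  ⟨0, [3, 3, 0, 2, 0, 2], []⟩,
  ⟨0, [1, 1, 1, 2, 0, 2], []⟩,
  ⟨0, [2, 1, 1, 2, 0, 2], []⟩,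
  ⟨0, [3, 1, 1, 2, 0, 2], []⟩,
  ⟨0, [0, 2, 1, 2, 0, 2], []⟩,
  ⟨0, [1, 2, 1, 2, 0, 2], []⟩,
  ⟨0, [1, 3, 1, 2, 0, 2], []⟩,
  ⟨0, [3, 3, 1, 2, 0, 2], []⟩,
  ⟨0, [0, 0, 2, 2, 0, 2], []⟩,
  ⟨0, [2, 0, 2, 2, 0, 2], []⟩,
  ⟨0, [3, 0, 2, 2, 0, 2], []⟩,
  ⟨0, [1, 1, 2, 2, 0, 2], []⟩,
  ⟨0, [2, 1, 2, 2, 0, 2], []⟩,
  ⟨0, [3, 1, 2, 2, 0, 2], []⟩,
  ⟨0, [0, 2, 2, 2, 0, 2], []⟩,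
  ⟨0, [1, 2, 2, 2, 0, 2], []⟩,
  ⟨0, [2, 2, 2, 2, 0, 2], []⟩,
  ⟨0, [0, 0, 0, 3, 0, 2], []⟩,
  ⟨0, [2, 0, 0, 3, 0, 2], []⟩,
  ⟨0, [3, 0, 0, 3, 0, 2], []⟩,
  ⟨0, [0, 2, 0, 3, 0, 2], []⟩,
  ⟨0, [2, 2, 0, 3, 0, 2], []⟩,
  ⟨0, [0, 3, 0, 3, 0, 2], []⟩,
  ⟨0, [1, 3, 0, 3, 0, 2], []⟩,
  ⟨0, [3, 3, 0, 3, 0, 2], []⟩,
  ⟨0, [1, 1, 1, 3, 0, 2], []⟩,
  ⟨0, [2, 1, 1, 3, 0, 2], []⟩,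
  ⟨0, [3, 1, 1, 3, 0, 2], []⟩,
  ⟨0, [2, 2, 1, 3, 0, 2], []⟩,
  ⟨0, [0, 3, 1, 3, 0, 2], []⟩,
  ⟨0, [1, 3, 1, 3, 0, 2], []⟩,
  ⟨0, [3, 3, 1, 3, 0, 2], []⟩,
  ⟨0, [0, 0, 3, 3, 0, 2], []⟩,
  ⟨0, [2, 0, 3, 3, 0, 2], []⟩,
  ⟨0, [1, 1, 3, 3, 0, 2], []⟩,
  ⟨0, [2, 1, 3, 3, 0, 2], []⟩,
  ⟨0, [0, 3, 3, 3, 0, 2], []⟩,
  ⟨0, [3, 3, 3, 3, 0, 2], []⟩,
  ⟨0, [2, 0, 0, 0, 2, 2], []⟩,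
  ⟨0, [3, 0, 0, 0, 2, 2], []⟩,
  ⟨0, [0, 2, 0, 0, 2, 2], []⟩,
  ⟨0, [1, 2, 0, 0, 2, 2], []⟩,
  ⟨0, [2, 2, 0, 0, 2, 2], []⟩,
  ⟨0, [0, 0, 2, 0, 2, 2], []⟩,
  ⟨0, [2, 0, 2, 0, 2, 2], []⟩,
  ⟨0, [3, 0, 2, 0, 2, 2], []⟩,
  ⟨0, [1, 1, 2, 0, 2, 2], []⟩,
  ⟨0, [3, 1, 2, 0, 2, 2], []⟩,
  ⟨0, [1, 2, 2, 0, 2, 2], []⟩,
  ⟨0, [2, 2, 2, 0, 2, 2], []⟩,
  ⟨0, [0, 0, 3, 0, 2, 2], []⟩,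
  ⟨0, [2, 0, 3, 0, 2, 2], []⟩,
  ⟨0, [3, 0, 3, 0, 2, 2], []⟩,
  ⟨0, [1, 1, 3, 0, 2, 2], []⟩,
  ⟨0, [3, 1, 3, 0, 2, 2], []⟩,
  ⟨0, [0, 3, 3, 0, 2, 2], []⟩,
  ⟨0, [1, 3, 3, 0, 2, 2], []⟩,
  ⟨0, [3, 3, 3, 0, 2, 2], []⟩,
  ⟨0, [2, 1, 1, 1, 2, 2], []⟩,
  ⟨0, [3, 1, 1, 1, 2, 2], []⟩,
  ⟨0, [0, 0, 2, 1, 2, 2], []⟩,
  ⟨0, [2, 0, 2, 1, 2, 2], []⟩,
  ⟨0, [3, 0, 2, 1, 2, 2], []⟩,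
  ⟨0, [2, 1, 2, 1, 2, 2], []⟩,
  ⟨0, [3, 1, 2, 1, 2, 2], []⟩,
  ⟨0, [0, 2, 2, 1, 2, 2], []⟩,
  ⟨0, [1, 2, 2, 1, 2, 2], []⟩,
  ⟨0, [2, 2, 2, 1, 2, 2], []⟩,
  ⟨0, [0, 0, 3, 1, 2, 2], []⟩,
  ⟨0, [2, 0, 3, 1, 2, 2], []⟩,
  ⟨0, [3, 0, 3, 1, 2, 2], []⟩,
  ⟨0, [1, 1, 3, 1, 2, 2], []⟩,
  ⟨0, [2, 1, 3, 1, 2, 2], []⟩,
  ⟨0, [3, 1, 3, 1, 2, 2], []⟩,
  ⟨0, [0, 3, 3, 1, 2, 2], []⟩,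
  ⟨0, [0, 0, 0, 2, 2, 2], []⟩,
  ⟨0, [2, 0, 0, 2, 2, 2], []⟩,
  ⟨0, [3, 0, 0, 2, 2, 2], []⟩,
  ⟨0, [0, 2, 0, 2, 2, 2], []⟩,
  ⟨0, [1, 2, 0, 2, 2, 2], []⟩,
  ⟨0, [2, 2, 0, 2, 2, 2], []⟩,
  ⟨0, [1, 3, 0, 2, 2, 2], []⟩,
  ⟨0, [1, 1, 1, 2, 2, 2], []⟩,
  ⟨0, [2, 1, 1, 2, 2, 2], []⟩,
  ⟨0, [3, 1, 1, 2, 2, 2], []⟩,
  ⟨0, [0, 0, 2, 2, 2, 2], []⟩,
  ⟨0, [2, 0, 2, 2, 2, 2], []⟩,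
  ⟨0, [3, 0, 2, 2, 2, 2], []⟩,
  ⟨0, [1, 1, 2, 2, 2, 2], []⟩,
  ⟨0, [2, 1, 2, 2, 2, 2], []⟩,
  ⟨0, [3, 1, 2, 2, 2, 2], []⟩,
  ⟨0, [0, 2, 2, 2, 2, 2], []⟩,
  ⟨0, [1, 2, 2, 2, 2, 2], []⟩,
  ⟨0, [2, 2, 0, 2, 0, 3], []⟩,
  ⟨0, [0, 2, 2, 2, 0, 3], []⟩,
  ⟨0, [2, 2, 2, 2, 0, 3], []⟩,
  ⟨0, [0, 2, 0, 3, 0, 3], []⟩,
  ⟨0, [2, 2, 0, 3, 0, 3], []⟩,
  ⟨0, [0, 3, 0, 3, 0, 3], []⟩,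
  ⟨0, [1, 3, 0, 3, 0, 3], []⟩,
  ⟨0, [3, 3, 0, 3, 0, 3], []⟩,
  ⟨0, [0, 3, 1, 3, 0, 3], []⟩,
  ⟨0, [1, 3, 1, 3, 0, 3], []⟩,
  ⟨0, [3, 3, 1, 3, 0, 3], []⟩,
  ⟨0, [1, 1, 3, 3, 0, 3], []⟩,
  ⟨0, [2, 1, 3, 3, 0, 3], []⟩,
  ⟨0, [3, 1, 3, 3, 0, 3], []⟩,
  ⟨0, [0, 3, 3, 3, 0, 3], []⟩,
  ⟨0, [1, 3, 3, 3, 0, 3], []⟩,
  ⟨0, [3, 3, 3, 3, 0, 3], []⟩,
  ⟨0, [1, 3, 0, 0, 3, 3], []⟩,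
  ⟨0, [2, 1, 2, 0, 3, 3], []⟩,
  ⟨0, [3, 1, 2, 0, 3, 3], []⟩,
  ⟨0, [2, 2, 2, 0, 3, 3], []⟩,
  ⟨0, [0, 0, 3, 0, 3, 3], []⟩,
  ⟨0, [2, 0, 3, 0, 3, 3], []⟩,
  ⟨0, [3, 0, 3, 0, 3, 3], []⟩,
  ⟨0, [1, 1, 3, 0, 3, 3], []⟩,
  ⟨0, [2, 1, 3, 0, 3, 3], []⟩,
  ⟨0, [0, 3, 3, 0, 3, 3], []⟩,
  ⟨0, [1, 3, 3, 0, 3, 3], []⟩,
  ⟨0, [3, 3, 3, 0, 3, 3], []⟩,
  ⟨0, [1, 3, 1, 1, 3, 3], []⟩,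
  ⟨0, [3, 3, 1, 1, 3, 3], []⟩,
  ⟨0, [2, 0, 2, 1, 3, 3], []⟩,
  ⟨0, [3, 0, 2, 1, 3, 3], []⟩,
  ⟨0, [0, 2, 2, 1, 3, 3], []⟩,
  ⟨0, [1, 2, 2, 1, 3, 3], []⟩,
  ⟨0, [2, 2, 2, 1, 3, 3], []⟩,
  ⟨0, [2, 0, 3, 1, 3, 3], []⟩,
  ⟨0, [3, 0, 3, 1, 3, 3], []⟩,
  ⟨0, [3, 1, 3, 1, 3, 3], []⟩,
  ⟨0, [0, 3, 3, 1, 3, 3], []⟩,
  ⟨0, [1, 3, 3, 1, 3, 3], []⟩,
  ⟨0, [3, 3, 3, 1, 3, 3], []⟩,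
  ⟨0, [2, 0, 0, 3, 3, 3], []⟩,
  ⟨0, [3, 0, 0, 3, 3, 3], []⟩,
  ⟨0, [0, 2, 0, 3, 3, 3], []⟩,
  ⟨0, [1, 2, 0, 3, 3, 3], []⟩,
  ⟨0, [2, 2, 0, 3, 3, 3], []⟩,
  ⟨0, [3, 3, 0, 3, 3, 3], []⟩,
  ⟨0, [1, 1, 1, 3, 3, 3], []⟩,
  ⟨0, [3, 1, 1, 3, 3, 3], []⟩,
  ⟨0, [2, 2, 1, 3, 3, 3], []⟩,
  ⟨0, [1, 1, 3, 3, 3, 3], []⟩,
  ⟨0, [2, 1, 3, 3, 3, 3], []⟩,
  ⟨0, [3, 1, 3, 3, 3, 3], []⟩,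
  ⟨0, [1, 2, 0, 0, 2, 0, 2], []⟩,
  ⟨0, [2, 2, 0, 0, 2, 0, 2], []⟩,
  ⟨0, [2, 0, 2, 0, 2, 0, 2], []⟩,
  ⟨0, [3, 0, 2, 0, 2, 0, 2], []⟩,
  ⟨0, [0, 2, 2, 0, 2, 0, 2], []⟩,
  ⟨0, [2, 2, 2, 0, 2, 0, 2], []⟩,
  ⟨0, [0, 0, 3, 0, 2, 0, 2], []⟩,
  ⟨0, [3, 0, 3, 0, 2, 0, 2], []⟩,
  ⟨0, [1, 1, 3, 0, 2, 0, 2], []⟩,
  ⟨0, [0, 3, 3, 0, 2, 0, 2], []⟩,
  ⟨0, [1, 3, 3, 0, 2, 0, 2], []⟩,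
  ⟨0, [3, 3, 3, 0, 2, 0, 2], []⟩,
  ⟨0, [3, 1, 1, 1, 2, 0, 2], []⟩,
  ⟨0, [0, 2, 1, 1, 2, 0, 2], []⟩,
  ⟨0, [2, 2, 1, 1, 2, 0, 2], []⟩,
  ⟨0, [3, 3, 1, 1, 2, 0, 2], []⟩,
  ⟨0, [3, 1, 2, 1, 2, 0, 2], []⟩,
  ⟨0, [0, 3, 3, 1, 2, 0, 2], []⟩,
  ⟨0, [3, 3, 3, 1, 2, 0, 2], []⟩,
  ⟨0, [2, 0, 0, 2, 2, 0, 2], []⟩,
  ⟨0, [1, 3, 0, 2, 2, 0, 2], []⟩,
  ⟨0, [3, 3, 0, 2, 2, 0, 2], []⟩,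
  ⟨0, [2, 1, 1, 2, 2, 0, 2], []⟩,
  ⟨0, [3, 1, 1, 2, 2, 0, 2], []⟩,
  ⟨0, [0, 2, 1, 2, 2, 0, 2], []⟩,
  ⟨0, [1, 2, 1, 2, 2, 0, 2], []⟩,
  ⟨0, [0, 3, 1, 2, 2, 0, 2], []⟩,
  ⟨0, [3, 3, 1, 2, 2, 0, 2], []⟩]

/-- The uses of identities at base point 0, a part. -/
def certCover0Part1 : List (Hop) := [
  ⟨0, [0, 0, 2, 2, 2, 0, 2], []⟩,
  ⟨0, [2, 0, 2, 2, 2, 0, 2], []⟩,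
  ⟨0, [3, 0, 2, 2, 2, 0, 2], []⟩,
  ⟨0, [1, 1, 2, 2, 2, 0, 2], []⟩,
  ⟨0, [3, 1, 2, 2, 2, 0, 2], []⟩,
  ⟨0, [1, 2, 2, 2, 2, 0, 2], []⟩,
  ⟨0, [2, 2, 2, 2, 2, 0, 2], []⟩,
  ⟨0, [3, 0, 0, 0, 3, 0, 2], []⟩,
  ⟨0, [0, 3, 0, 0, 3, 0, 2], []⟩,
  ⟨0, [3, 3, 0, 0, 3, 0, 2], []⟩,
  ⟨0, [2, 2, 2, 0, 3, 0, 2], []⟩,
  ⟨0, [0, 0, 3, 0, 3, 0, 2], []⟩,
  ⟨0, [1, 1, 3, 0, 3, 0, 2], []⟩,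
  ⟨0, [3, 1, 3, 0, 3, 0, 2], []⟩,
  ⟨0, [1, 3, 3, 0, 3, 0, 2], []⟩,
  ⟨0, [3, 3, 3, 0, 3, 0, 2], []⟩,
  ⟨0, [3, 1, 1, 1, 3, 0, 2], []⟩,
  ⟨0, [1, 3, 1, 1, 3, 0, 2], []⟩,
  ⟨0, [3, 3, 1, 1, 3, 0, 2], []⟩,
  ⟨0, [1, 2, 2, 1, 3, 0, 2], []⟩,
  ⟨0, [2, 0, 3, 1, 3, 0, 2], []⟩,
  ⟨0, [2, 1, 3, 1, 3, 0, 2], []⟩,
  ⟨0, [3, 1, 3, 1, 3, 0, 2], []⟩,
  ⟨0, [0, 3, 3, 1, 3, 0, 2], []⟩,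
  ⟨0, [1, 3, 3, 1, 3, 0, 2], []⟩,
  ⟨0, [3, 0, 0, 3, 3, 0, 2], []⟩,
  ⟨0, [0, 2, 0, 3, 3, 0, 2], []⟩,
  ⟨0, [2, 1, 1, 3, 3, 0, 2], []⟩,
  ⟨0, [3, 1, 1, 3, 3, 0, 2], []⟩,
  ⟨0, [2, 2, 1, 3, 3, 0, 2], []⟩,
  ⟨0, [0, 0, 3, 3, 3, 0, 2], []⟩,
  ⟨0, [2, 0, 3, 3, 3, 0, 2], []⟩,
  ⟨0, [3, 0, 3, 3, 3, 0, 2], []⟩,
  ⟨0, [1, 3, 3, 3, 3, 0, 2], []⟩,
  ⟨0, [0, 2, 0, 0, 0, 2, 2], []⟩,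
  ⟨0, [2, 2, 0, 0, 0, 2, 2], []⟩,
  ⟨0, [3, 3, 0, 0, 0, 2, 2], []⟩,
  ⟨0, [0, 0, 2, 0, 0, 2, 2], []⟩,
  ⟨0, [1, 1, 2, 0, 0, 2, 2], []⟩,
  ⟨0, [2, 1, 2, 0, 0, 2, 2], []⟩,
  ⟨0, [0, 2, 2, 0, 0, 2, 2], []⟩,
  ⟨0, [1, 2, 2, 0, 0, 2, 2], []⟩,
  ⟨0, [2, 2, 2, 0, 0, 2, 2], []⟩,
  ⟨0, [0, 0, 0, 2, 0, 2, 2], []⟩,
  ⟨0, [2, 0, 0, 2, 0, 2, 2], []⟩,
  ⟨0, [3, 0, 0, 2, 0, 2, 2], []⟩,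
  ⟨0, [1, 1, 1, 2, 0, 2, 2], []⟩,
  ⟨0, [2, 1, 1, 2, 0, 2, 2], []⟩,
  ⟨0, [3, 1, 1, 2, 0, 2, 2], []⟩,
  ⟨0, [0, 3, 1, 2, 0, 2, 2], []⟩,
  ⟨0, [3, 3, 1, 2, 0, 2, 2], []⟩,
  ⟨0, [1, 1, 2, 2, 0, 2, 2], []⟩,
  ⟨0, [2, 1, 2, 2, 0, 2, 2], []⟩,
  ⟨0, [0, 0, 0, 3, 0, 2, 2], []⟩,
  ⟨0, [2, 0, 0, 3, 0, 2, 2], []⟩,
  ⟨0, [0, 2, 0, 3, 0, 2, 2], []⟩,
  ⟨0, [1, 2, 0, 3, 0, 2, 2], []⟩,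
  ⟨0, [1, 3, 0, 3, 0, 2, 2], []⟩,
  ⟨0, [3, 3, 0, 3, 0, 2, 2], []⟩,
  ⟨0, [1, 1, 1, 3, 0, 2, 2], []⟩,
  ⟨0, [2, 1, 1, 3, 0, 2, 2], []⟩,
  ⟨0, [0, 3, 1, 3, 0, 2, 2], []⟩,
  ⟨0, [1, 3, 1, 3, 0, 2, 2], []⟩,
  ⟨0, [3, 3, 1, 3, 0, 2, 2], []⟩,
  ⟨0, [0, 0, 3, 3, 0, 2, 2], []⟩,
  ⟨0, [3, 0, 3, 3, 0, 2, 2], []⟩,
  ⟨0, [1, 1, 3, 3, 0, 2, 2], []⟩,
  ⟨0, [2, 1, 3, 3, 0, 2, 2], []⟩,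
  ⟨0, [1, 3, 3, 3, 0, 2, 2], []⟩,
  ⟨0, [3, 3, 3, 3, 0, 2, 2], []⟩,
  ⟨0, [0, 3, 1, 1, 1, 2, 2], []⟩,
  ⟨0, [1, 3, 1, 1, 1, 2, 2], []⟩,
  ⟨0, [3, 0, 0, 2, 1, 2, 2], []⟩,
  ⟨0, [1, 2, 0, 2, 1, 2, 2], []⟩,
  ⟨0, [1, 3, 0, 2, 1, 2, 2], []⟩,
  ⟨0, [3, 3, 0, 2, 1, 2, 2], []⟩,
  ⟨0, [0, 2, 1, 2, 1, 2, 2], []⟩,
  ⟨0, [1, 2, 1, 2, 1, 2, 2], []⟩,
  ⟨0, [0, 3, 1, 2, 1, 2, 2], []⟩,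
  ⟨0, [1, 3, 1, 2, 1, 2, 2], []⟩,
  ⟨0, [3, 3, 1, 2, 1, 2, 2], []⟩,
  ⟨0, [0, 0, 2, 2, 1, 2, 2], []⟩,
  ⟨0, [2, 0, 2, 2, 1, 2, 2], []⟩,
  ⟨0, [2, 1, 2, 2, 1, 2, 2], []⟩,
  ⟨0, [0, 2, 2, 2, 1, 2, 2], []⟩,
  ⟨0, [1, 2, 2, 2, 1, 2, 2], []⟩,
  ⟨0, [2, 0, 0, 3, 1, 2, 2], []⟩,
  ⟨0, [2, 2, 0, 3, 1, 2, 2], []⟩,
  ⟨0, [2, 1, 1, 3, 1, 2, 2], []⟩,
  ⟨0, [2, 2, 1, 3, 1, 2, 2], []⟩,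
  ⟨0, [0, 3, 1, 3, 1, 2, 2], []⟩,
  ⟨0, [1, 3, 1, 3, 1, 2, 2], []⟩,
  ⟨0, [2, 0, 3, 3, 1, 2, 2], []⟩,
  ⟨0, [0, 2, 0, 0, 2, 2, 2], []⟩,
  ⟨0, [2, 2, 0, 0, 2, 2, 2], []⟩,
  ⟨0, [3, 3, 0, 0, 2, 2, 2], []⟩,
  ⟨0, [2, 0, 2, 0, 2, 2, 2], []⟩,
  ⟨0, [3, 0, 2, 0, 2, 2, 2], []⟩,
  ⟨0, [1, 1, 2, 0, 2, 2, 2], []⟩,
  ⟨0, [0, 2, 2, 0, 2, 2, 2], []⟩,
  ⟨0, [1, 2, 2, 0, 2, 2, 2], []⟩,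
  ⟨0, [2, 2, 2, 0, 2, 2, 2], []⟩,
  ⟨0, [1, 1, 3, 0, 2, 2, 2], []⟩,
  ⟨0, [3, 1, 3, 0, 2, 2, 2], []⟩,
  ⟨0, [2, 1, 1, 1, 2, 2, 2], []⟩,
  ⟨0, [3, 1, 1, 1, 2, 2, 2], []⟩,
  ⟨0, [0, 2, 1, 1, 2, 2, 2], []⟩,
  ⟨0, [2, 2, 1, 1, 2, 2, 2], []⟩,
  ⟨0, [0, 0, 0, 2, 2, 2, 2], []⟩,
  ⟨0, [2, 0, 0, 2, 2, 2, 2], []⟩,
  ⟨0, [0, 2, 0, 2, 2, 2, 2], []⟩,
  ⟨0, [2, 2, 0, 2, 2, 2, 2], []⟩,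
  ⟨0, [1, 3, 0, 2, 2, 2, 2], []⟩,
  ⟨0, [2, 1, 1, 2, 2, 2, 2], []⟩,
  ⟨0, [3, 1, 1, 2, 2, 2, 2], []⟩,
  ⟨0, [1, 2, 1, 2, 2, 2, 2], []⟩,
  ⟨0, [2, 2, 1, 2, 2, 2, 2], []⟩,
  ⟨0, [0, 3, 1, 2, 2, 2, 2], []⟩,
  ⟨0, [3, 3, 1, 2, 2, 2, 2], []⟩,
  ⟨0, [2, 0, 2, 2, 2, 2, 2], []⟩,
  ⟨0, [3, 0, 2, 2, 2, 2, 2], []⟩,
  ⟨0, [1, 1, 2, 2, 2, 2, 2], []⟩,
  ⟨0, [2, 1, 2, 2, 2, 2, 2], []⟩,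
  ⟨0, [1, 2, 2, 0, 2, 0, 3], []⟩,
  ⟨0, [0, 0, 2, 2, 2, 0, 3], []⟩,
  ⟨0, [2, 0, 2, 2, 2, 0, 3], []⟩,
  ⟨0, [0, 2, 2, 2, 2, 0, 3], []⟩,
  ⟨0, [1, 2, 2, 2, 2, 0, 3], []⟩,
  ⟨0, [2, 2, 2, 2, 2, 0, 3], []⟩,
  ⟨0, [0, 3, 3, 0, 3, 0, 3], []⟩,
  ⟨0, [1, 3, 3, 0, 3, 0, 3], []⟩,
  ⟨0, [2, 0, 3, 1, 3, 0, 3], []⟩,
  ⟨0, [2, 1, 3, 1, 3, 0, 3], []⟩,
  ⟨0, [3, 1, 3, 1, 3, 0, 3], []⟩,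
  ⟨0, [1, 3, 3, 1, 3, 0, 3], []⟩,
  ⟨0, [3, 1, 1, 3, 3, 0, 3], []⟩,
  ⟨0, [0, 2, 1, 3, 3, 0, 3], []⟩,
  ⟨0, [0, 3, 1, 3, 3, 0, 3], []⟩,
  ⟨0, [0, 0, 3, 3, 3, 0, 3], []⟩,
  ⟨0, [2, 0, 3, 3, 3, 0, 3], []⟩,
  ⟨0, [3, 0, 3, 3, 3, 0, 3], []⟩,
  ⟨0, [1, 1, 3, 3, 3, 0, 3], []⟩,
  ⟨0, [2, 1, 3, 3, 3, 0, 3], []⟩,
  ⟨0, [3, 1, 3, 3, 3, 0, 3], []⟩,
  ⟨0, [0, 2, 2, 2, 0, 3, 3], []⟩,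
  ⟨0, [2, 2, 2, 2, 0, 3, 3], []⟩,
  ⟨0, [2, 0, 0, 3, 0, 3, 3], []⟩,
  ⟨0, [3, 0, 0, 3, 0, 3, 3], []⟩,
  ⟨0, [0, 3, 0, 3, 0, 3, 3], []⟩,
  ⟨0, [1, 2, 1, 3, 0, 3, 3], []⟩,
  ⟨0, [2, 2, 1, 3, 0, 3, 3], []⟩,
  ⟨0, [0, 0, 3, 3, 0, 3, 3], []⟩,
  ⟨0, [3, 1, 3, 3, 0, 3, 3], []⟩,
  ⟨0, [0, 3, 3, 3, 0, 3, 3], []⟩,
  ⟨0, [1, 3, 3, 3, 0, 3, 3], []⟩,
  ⟨0, [3, 3, 3, 3, 0, 3, 3], []⟩,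
  ⟨0, [0, 3, 3, 1, 1, 3, 3], []⟩,
  ⟨0, [3, 3, 3, 1, 1, 3, 3], []⟩,
  ⟨0, [2, 2, 0, 2, 1, 3, 3], []⟩,
  ⟨0, [3, 3, 0, 2, 1, 3, 3], []⟩,
  ⟨0, [0, 2, 2, 2, 1, 3, 3], []⟩,
  ⟨0, [1, 2, 2, 2, 1, 3, 3], []⟩,
  ⟨0, [2, 2, 0, 3, 1, 3, 3], []⟩,
  ⟨0, [0, 3, 0, 3, 1, 3, 3], []⟩,
  ⟨0, [3, 3, 0, 3, 1, 3, 3], []⟩,
  ⟨0, [0, 0, 3, 3, 1, 3, 3], []⟩,
  ⟨0, [3, 0, 3, 3, 1, 3, 3], []⟩,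
  ⟨0, [3, 1, 3, 3, 1, 3, 3], []⟩,
  ⟨0, [0, 3, 3, 3, 1, 3, 3], []⟩,
  ⟨0, [1, 3, 3, 3, 1, 3, 3], []⟩,
  ⟨0, [3, 3, 3, 3, 1, 3, 3], []⟩,
  ⟨0, [1, 2, 0, 0, 3, 3, 3], []⟩,
  ⟨0, [2, 0, 2, 0, 3, 3, 3], []⟩,
  ⟨0, [2, 2, 2, 0, 3, 3, 3], []⟩,
  ⟨0, [3, 3, 3, 0, 3, 3, 3], []⟩,
  ⟨0, [3, 3, 1, 1, 3, 3, 3], []⟩,
  ⟨0, [0, 2, 2, 1, 3, 3, 3], []⟩,
  ⟨0, [2, 2, 2, 1, 3, 3, 3], []⟩,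
  ⟨0, [1, 1, 1, 3, 3, 3, 3], []⟩,
  ⟨0, [3, 1, 1, 3, 3, 3, 3], []⟩,
  ⟨0, [2, 2, 1, 3, 3, 3, 3], []⟩,
  ⟨0, [1, 3, 1, 3, 3, 3, 3], []⟩,
  ⟨0, [2, 1, 2, 0, 0, 2, 0, 2], []⟩,
  ⟨0, [0, 2, 2, 0, 0, 2, 0, 2], []⟩,
  ⟨0, [1, 2, 2, 0, 0, 2, 0, 2], []⟩,
  ⟨0, [2, 2, 0, 2, 0, 2, 0, 2], []⟩,
  ⟨0, [0, 3, 0, 2, 0, 2, 0, 2], []⟩,
  ⟨0, [0, 2, 2, 2, 0, 2, 0, 2], []⟩,
  ⟨0, [1, 2, 2, 2, 0, 2, 0, 2], []⟩,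
  ⟨0, [2, 2, 2, 2, 0, 2, 0, 2], []⟩,
  ⟨0, [0, 3, 0, 3, 0, 2, 0, 2], []⟩,
  ⟨0, [1, 3, 0, 3, 0, 2, 0, 2], []⟩,
  ⟨0, [0, 3, 3, 3, 0, 2, 0, 2], []⟩,
  ⟨0, [1, 3, 3, 3, 0, 2, 0, 2], []⟩,
  ⟨0, [1, 2, 2, 1, 1, 2, 0, 2], []⟩,
  ⟨0, [2, 2, 2, 1, 1, 2, 0, 2], []⟩,
  ⟨0, [0, 3, 1, 2, 1, 2, 0, 2], []⟩,
  ⟨0, [1, 3, 1, 2, 1, 2, 0, 2], []⟩,
  ⟨0, [0, 3, 3, 3, 1, 2, 0, 2], []⟩,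
  ⟨0, [1, 3, 3, 3, 1, 2, 0, 2], []⟩,
  ⟨0, [0, 2, 0, 0, 2, 2, 0, 2], []⟩,
  ⟨0, [1, 2, 0, 0, 2, 2, 0, 2], []⟩,
  ⟨0, [3, 3, 3, 0, 2, 2, 0, 2], []⟩,
  ⟨0, [0, 2, 1, 1, 2, 2, 0, 2], []⟩,
  ⟨0, [1, 2, 1, 1, 2, 2, 0, 2], []⟩,
  ⟨0, [1, 1, 2, 1, 2, 2, 0, 2], []⟩,
  ⟨0, [3, 1, 2, 1, 2, 2, 0, 2], []⟩,
  ⟨0, [2, 0, 3, 1, 2, 2, 0, 2], []⟩,
  ⟨0, [1, 2, 0, 2, 2, 2, 0, 2], []⟩,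
  ⟨0, [2, 2, 0, 2, 2, 2, 0, 2], []⟩,
  ⟨0, [0, 3, 0, 2, 2, 2, 0, 2], []⟩,
  ⟨0, [3, 3, 0, 2, 2, 2, 0, 2], []⟩,
  ⟨0, [2, 1, 1, 2, 2, 2, 0, 2], []⟩,
  ⟨0, [0, 3, 1, 2, 2, 2, 0, 2], []⟩,
  ⟨0, [1, 3, 1, 2, 2, 2, 0, 2], []⟩,
  ⟨0, [3, 3, 1, 2, 2, 2, 0, 2], []⟩,
  ⟨0, [0, 2, 2, 2, 2, 2, 0, 2], []⟩,
  ⟨0, [0, 2, 2, 2, 0, 3, 0, 2], []⟩,
  ⟨0, [2, 1, 1, 3, 0, 3, 0, 2], []⟩,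
  ⟨0, [3, 1, 1, 3, 0, 3, 0, 2], []⟩,
  ⟨0, [1, 1, 3, 3, 0, 3, 0, 2], []⟩,
  ⟨0, [3, 1, 3, 3, 0, 3, 0, 2], []⟩,
  ⟨0, [0, 3, 3, 3, 0, 3, 0, 2], []⟩,
  ⟨0, [1, 3, 1, 1, 1, 3, 0, 2], []⟩,
  ⟨0, [2, 1, 3, 1, 1, 3, 0, 2], []⟩,
  ⟨0, [0, 3, 3, 1, 1, 3, 0, 2], []⟩,
  ⟨0, [1, 3, 3, 1, 1, 3, 0, 2], []⟩,
  ⟨0, [2, 1, 2, 2, 1, 3, 0, 2], []⟩,
  ⟨0, [2, 2, 1, 3, 1, 3, 0, 2], []⟩,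
  ⟨0, [3, 3, 1, 3, 1, 3, 0, 2], []⟩,
  ⟨0, [0, 0, 3, 3, 1, 3, 0, 2], []⟩,
  ⟨0, [2, 1, 3, 3, 1, 3, 0, 2], []⟩,
  ⟨0, [1, 3, 0, 0, 3, 3, 0, 2], []⟩,
  ⟨0, [2, 0, 2, 0, 3, 3, 0, 2], []⟩,
  ⟨0, [0, 3, 1, 1, 3, 3, 0, 2], []⟩,
  ⟨0, [3, 3, 1, 1, 3, 3, 0, 2], []⟩,
  ⟨0, [0, 2, 2, 1, 3, 3, 0, 2], []⟩,
  ⟨0, [0, 0, 0, 3, 3, 3, 0, 2], []⟩,
  ⟨0, [1, 2, 0, 3, 3, 3, 0, 2], []⟩,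
  ⟨0, [0, 3, 0, 3, 3, 3, 0, 2], []⟩,
  ⟨0, [3, 3, 0, 3, 3, 3, 0, 2], []⟩,
  ⟨0, [1, 1, 3, 3, 3, 3, 0, 2], []⟩,
  ⟨0, [3, 0, 2, 0, 0, 0, 2, 2], []⟩,
  ⟨0, [0, 3, 3, 0, 0, 0, 2, 2], []⟩,
  ⟨0, [3, 3, 3, 0, 0, 0, 2, 2], []⟩,
  ⟨0, [2, 1, 1, 2, 0, 0, 2, 2], []⟩,
  ⟨0, [0, 2, 1, 2, 0, 0, 2, 2], []⟩,
  ⟨0, [2, 2, 1, 2, 0, 0, 2, 2], []⟩,
  ⟨0, [2, 0, 2, 2, 0, 0, 2, 2], []⟩,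
  ⟨0, [3, 1, 2, 2, 0, 0, 2, 2], []⟩,
  ⟨0, [0, 2, 2, 2, 0, 0, 2, 2], []⟩,
  ⟨0, [1, 2, 2, 2, 0, 0, 2, 2], []⟩,
  ⟨0, [2, 2, 2, 2, 0, 0, 2, 2], []⟩,
  ⟨0, [0, 2, 0, 0, 2, 0, 2, 2], []⟩,
  ⟨0, [2, 2, 1, 1, 2, 0, 2, 2], []⟩,
  ⟨0, [3, 3, 3, 1, 2, 0, 2, 2], []⟩,
  ⟨0, [0, 2, 0, 0, 3, 0, 2, 2], []⟩,
  ⟨0, [2, 2, 0, 0, 3, 0, 2, 2], []⟩,
  ⟨0, [3, 0, 2, 0, 3, 0, 2, 2], []⟩,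
  ⟨0, [1, 1, 3, 0, 3, 0, 2, 2], []⟩,
  ⟨0, [2, 1, 3, 0, 3, 0, 2, 2], []⟩,
  ⟨0, [1, 3, 3, 0, 3, 0, 2, 2], []⟩,
  ⟨0, [1, 3, 3, 1, 3, 0, 2, 2], []⟩,
  ⟨0, [0, 3, 3, 3, 3, 0, 2, 2], []⟩,
  ⟨0, [1, 3, 3, 3, 3, 0, 2, 2], []⟩,
  ⟨0, [1, 1, 3, 0, 2, 1, 2, 2], []⟩,
  ⟨0, [3, 1, 3, 0, 2, 1, 2, 2], []⟩,
  ⟨0, [0, 0, 3, 1, 2, 1, 2, 2], []⟩,
  ⟨0, [1, 1, 3, 1, 2, 1, 2, 2], []⟩,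
  ⟨0, [2, 0, 0, 2, 2, 1, 2, 2], []⟩,
  ⟨0, [2, 0, 2, 2, 2, 1, 2, 2], []⟩,
  ⟨0, [2, 1, 2, 2, 2, 1, 2, 2], []⟩,
  ⟨0, [3, 1, 2, 2, 2, 1, 2, 2], []⟩,
  ⟨0, [2, 2, 0, 0, 3, 1, 2, 2], []⟩,
  ⟨0, [1, 2, 1, 1, 3, 1, 2, 2], []⟩,
  ⟨0, [0, 0, 3, 1, 3, 1, 2, 2], []⟩,
  ⟨0, [2, 0, 3, 1, 3, 1, 2, 2], []⟩,
  ⟨0, [0, 0, 2, 0, 0, 2, 2, 2], []⟩,
  ⟨0, [3, 0, 2, 0, 0, 2, 2, 2], []⟩,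
  ⟨0, [2, 1, 1, 2, 0, 2, 2, 2], []⟩,
  ⟨0, [2, 0, 2, 2, 0, 2, 2, 2], []⟩,
  ⟨0, [3, 1, 2, 2, 0, 2, 2, 2], []⟩,
  ⟨0, [2, 2, 2, 2, 0, 2, 2, 2], []⟩,
  ⟨0, [3, 3, 1, 3, 0, 2, 2, 2], []⟩,
  ⟨0, [0, 2, 1, 1, 1, 2, 2, 2], []⟩,
  ⟨0, [2, 2, 2, 1, 1, 2, 2, 2], []⟩,
  ⟨0, [2, 0, 2, 0, 2, 2, 2, 2], []⟩,
  ⟨0, [0, 2, 1, 1, 2, 2, 2, 2], []⟩,
  ⟨0, [0, 2, 2, 1, 2, 2, 2, 2], []⟩,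
  ⟨0, [2, 0, 3, 1, 2, 2, 2, 2], []⟩,
  ⟨0, [0, 3, 3, 1, 2, 2, 2, 2], []⟩,
  ⟨0, [3, 3, 3, 1, 2, 2, 2, 2], []⟩,
  ⟨0, [0, 2, 1, 2, 2, 2, 2, 2], []⟩,
  ⟨0, [1, 2, 1, 2, 2, 2, 2, 2], []⟩,
  ⟨0, [2, 1, 2, 2, 0, 2, 0, 3], []⟩,
  ⟨0, [0, 2, 0, 2, 2, 2, 0, 3], []⟩,
  ⟨0, [1, 2, 0, 2, 2, 2, 0, 3], []⟩,
  ⟨0, [1, 1, 2, 2, 2, 2, 0, 3], []⟩,
  ⟨0, [0, 2, 2, 2, 2, 2, 0, 3], []⟩,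
  ⟨0, [2, 0, 2, 1, 3, 3, 0, 3], []⟩]

/-- The uses of identities at base point 0, a part. -/
def certCover0Part2 : List (Hop) := [
  ⟨0, [3, 0, 0, 3, 3, 3, 0, 3], []⟩,
  ⟨0, [0, 3, 1, 3, 3, 0, 3, 3], []⟩,
  ⟨0, [0, 0, 3, 3, 3, 0, 3, 3], []⟩,
  ⟨0, [2, 0, 3, 3, 3, 0, 3, 3], []⟩,
  ⟨0, [2, 1, 3, 3, 3, 0, 3, 3], []⟩,
  ⟨0, [0, 0, 2, 2, 2, 1, 3, 3], []⟩,
  ⟨0, [2, 0, 2, 2, 2, 1, 3, 3], []⟩,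
  ⟨0, [0, 3, 0, 3, 3, 1, 3, 3], []⟩,
  ⟨0, [1, 3, 1, 3, 3, 1, 3, 3], []⟩,
  ⟨0, [2, 1, 3, 3, 3, 1, 3, 3], []⟩,
  ⟨0, [1, 2, 0, 2, 0, 3, 3, 3], []⟩,
  ⟨0, [0, 3, 3, 3, 0, 3, 3, 3], []⟩,
  ⟨0, [3, 3, 3, 3, 0, 3, 3, 3], []⟩,
  ⟨0, [0, 2, 2, 2, 1, 3, 3, 3], []⟩,
  ⟨0, [1, 3, 1, 1, 3, 3, 3, 3], []⟩,
  ⟨0, [3, 3, 1, 1, 3, 3, 3, 3], []⟩,
  ⟨0, [1, 1, 3, 1, 3, 3, 3, 3], []⟩,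
  ⟨0, [3, 1, 2, 2, 2, 0, 2, 0, 2], []⟩,
  ⟨0, [3, 0, 3, 0, 3, 0, 2, 0, 2], []⟩,
  ⟨0, [2, 1, 3, 3, 3, 0, 2, 0, 2], []⟩,
  ⟨0, [1, 1, 3, 1, 2, 1, 2, 0, 2], []⟩,
  ⟨0, [3, 0, 3, 3, 3, 1, 2, 0, 2], []⟩,
  ⟨0, [3, 0, 3, 0, 2, 2, 2, 0, 2], []⟩,
  ⟨0, [1, 3, 3, 0, 2, 2, 2, 0, 2], []⟩,
  ⟨0, [1, 2, 2, 1, 3, 1, 3, 0, 2], []⟩,
  ⟨0, [1, 3, 3, 0, 3, 3, 3, 0, 2], []⟩,
  ⟨0, [3, 3, 3, 0, 3, 3, 3, 0, 2], []⟩,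
  ⟨0, [1, 2, 1, 1, 2, 0, 0, 2, 2], []⟩,
  ⟨0, [0, 3, 1, 2, 2, 0, 0, 2, 2], []⟩,
  ⟨0, [0, 2, 0, 3, 3, 3, 0, 3, 3], []⟩]

/-- The uses of identities at base point 0. -/
def certCover0 : List (Hop) := certCover0Part0 ++ certCover0Part1 ++ certCover0Part2

/-- The uses of identities at base point 1, a part. -/
def certCover1Part0 : List (Hop) := [
  ⟨6, [], []⟩,
  ⟨7, [36, 156], [85, 126]⟩,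
  ⟨7, [44, 107], [75, 141]⟩,
  ⟨7, [39, 160], [25, 136]⟩,
  ⟨1, [], []⟩,
  ⟨7, [45, 148], [17, 119]⟩,
  ⟨1, [46, 160], [58, 127]⟩,
  ⟨1, [85], [32, 142]⟩,
  ⟨1, [26, 154], [18, 124]⟩,
  ⟨1, [60, 143], [91, 106]⟩,
  ⟨1, [26, 78], []⟩,
  ⟨2, [], []⟩,
  ⟨7, [32, 81], [16, 100]⟩,
  ⟨1, [46, 84], [13, 106]⟩,
  ⟨1, [46, 159], [85, 127]⟩,
  ⟨1, [42, 120], [21, 127]⟩,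
  ⟨2, [52, 123], [93, 107]⟩,
  ⟨1, [64, 79], [13, 144]⟩,
  ⟨1, [43, 112], [26, 144]⟩,
  ⟨3, [], []⟩,
  ⟨1, [65, 161], [91, 139]⟩,
  ⟨1, [42, 147], [45, 122]⟩,
  ⟨3, [31, 88], [91, 125]⟩,
  ⟨1, [31, 98], [42, 106]⟩,
  ⟨2, [85], [63, 124]⟩,
  ⟨3, [37, 69], [86, 140]⟩,
  ⟨1, [22, 78], [13]⟩,
  ⟨2, [45, 148], [55, 123]⟩,
  ⟨3, [26, 154], [63, 106]⟩,
  ⟨2, [31, 98], [32, 116]⟩,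
  ⟨2, [26, 78], []⟩,
  ⟨1, [30, 130], [88, 101]⟩,
  ⟨7, [68, 85], [23, 116]⟩,
  ⟨1, [59, 141], [71, 124]⟩,
  ⟨1, [46, 83], [5, 106]⟩,
  ⟨1, [59, 87], [58, 124]⟩,
  ⟨2, [24, 88], [46, 128]⟩,
  ⟨1, [55, 70], [42, 130]⟩,
  ⟨1, [31], [83, 122]⟩,
  ⟨3, [48, 162], [71, 103]⟩,
  ⟨1, [43, 100], [63, 122]⟩,
  ⟨1, [34, 109], [45, 137]⟩,
  ⟨3, [62, 121], [15, 113]⟩,
  ⟨2, [22, 119], [5, 107]⟩,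
  ⟨2, [48, 138], [70, 132]⟩,
  ⟨1, [39, 120], [10, 113]⟩,
  ⟨1, [31, 138], [26, 144]⟩,
  ⟨3, [52, 123], [79, 121]⟩,
  ⟨2, [44, 69], [17, 113]⟩,
  ⟨1, [22, 119], [29, 139]⟩,
  ⟨3, [59, 105], [45, 144]⟩,
  ⟨2, [26, 154], [63, 106]⟩,
  ⟨3, [34, 109], [19, 102]⟩,
  ⟨3, [38, 111], [52, 143]⟩,
  ⟨1, [51, 77], [50, 144]⟩,
  ⟨1, [42, 70], [21, 122]⟩,
  ⟨1, [50, 158], [26, 122]⟩,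
  ⟨2, [50, 87], [67, 107]⟩,
  ⟨1, [57, 101], [26, 130]⟩,
  ⟨1, [138], [45, 130]⟩,
  ⟨2, [39, 90], [55, 140]⟩,
  ⟨3, [52, 138], [13, 115]⟩,
  ⟨3, [51, 75], [13, 132]⟩,
  ⟨1, [44, 77], [23, 127]⟩,
  ⟨1, [22, 109], [18, 139]⟩,
  ⟨2, [35, 98], [91, 106]⟩,
  ⟨7, [36, 83], [87, 119]⟩,
  ⟨2, [22, 70], [63, 116]⟩,
  ⟨2, [24, 129], [48, 107]⟩,
  ⟨1, [42, 119], [26, 100]⟩,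
  ⟨3, [32, 110], [90, 117]⟩,
  ⟨3, [23, 98], [71, 114]⟩,
  ⟨1, [31, 88], [6, 120]⟩,
  ⟨1, [57, 78], [13]⟩,
  ⟨7, [32, 99], [47, 129]⟩,
  ⟨2, [39, 80], [36, 99]⟩,
  ⟨2, [126], [13, 100]⟩,
  ⟨1, [46, 69], [90, 140]⟩,
  ⟨3, [23, 138], [93, 104]⟩,
  ⟨3, [64, 119], [28, 108]⟩,
  ⟨1, [55, 124], [37, 142]⟩,
  ⟨2, [30, 85], [47, 132]⟩,
  ⟨3, [36, 92], [66, 110]⟩,
  ⟨1, [55, 104], [18, 118]⟩,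
  ⟨2, [39, 75], [56, 102]⟩,
  ⟨3, [88], [52, 104]⟩,
  ⟨1, [58, 107], [98, 117]⟩,
  ⟨1, [61, 161], [88, 134]⟩,
  ⟨28, [25, 138], [88, 105]⟩,
  ⟨1, [59, 128], [20]⟩,
  ⟨1, [65, 153], [22, 137]⟩,
  ⟨2, [27, 124], [36, 101]⟩,
  ⟨1, [22, 145], [21, 106]⟩,
  ⟨3, [54, 94], [79, 105]⟩,
  ⟨1, [34, 106], [13, 124]⟩,
  ⟨3, [34, 116], [7, 99]⟩,
  ⟨2, [48, 142], [75, 121]⟩,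
  ⟨2, [48, 125], [48, 100]⟩,
  ⟨3, [43, 123], [13, 138]⟩,
  ⟨2, [45, 141], [10, 120]⟩,
  ⟨1, [60, 102], [18, 110]⟩,
  ⟨1, [46, 109], [21, 137]⟩,
  ⟨2, [66, 106], [19, 135]⟩,
  ⟨3, [46, 161], [62, 142]⟩,
  ⟨3, [52, 104], [78, 132]⟩,
  ⟨1, [32, 117], [48, 125]⟩,
  ⟨2, [50, 161], [21, 141]⟩,
  ⟨1, [35, 76], [21, 137]⟩,
  ⟨2, [59, 141], [58, 137]⟩,
  ⟨3, [47, 163], [78, 132]⟩,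
  ⟨3, [59, 135], [31, 102]⟩,
  ⟨1, [66, 152], [38, 122]⟩,
  ⟨2, [41, 131], [47, 143]⟩,
  ⟨2, [31], [63, 122]⟩,
  ⟨1, [64, 145], [21, 141]⟩,
  ⟨2, [31, 88], [60, 145]⟩,
  ⟨2, [27, 162], [87, 101]⟩,
  ⟨1, [44, 117], [10, 111]⟩,
  ⟨1, [26, 69], [32, 142]⟩,
  ⟨3, [26, 99], [31, 120]⟩,
  ⟨7, [39, 80], [96, 101]⟩,
  ⟨3, [48, 125], [45, 138]⟩,
  ⟨3, [31], [63, 112]⟩,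
  ⟨2, [55, 154], [63, 106]⟩,
  ⟨2, [62, 77], [49, 112]⟩,
  ⟨2, [31, 126], [18, 145]⟩,
  ⟨1, [43, 138], [26, 144]⟩,
  ⟨3, [35, 98], [63, 124]⟩,
  ⟨7, [40, 116], [10, 135]⟩,
  ⟨3, [23, 137], [73, 107]⟩,
  ⟨3, [31, 126], [45, 108]⟩,
  ⟨2, [42, 147], [45]⟩,
  ⟨1, [163], [91, 116]⟩,
  ⟨3, [25, 156], [78, 103]⟩,
  ⟨2, [34, 116], [24, 106]⟩,
  ⟨3, [22, 119], [96, 108]⟩,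
  ⟨3, [25, 79], [78, 103]⟩,
  ⟨2, [26, 134], [65, 103]⟩,
  ⟨3, [138], [10, 122]⟩,
  ⟨1, [52, 123], [36, 124]⟩,
  ⟨1, [27, 85], [28, 125]⟩,
  ⟨1, [25, 156], [32, 143]⟩,
  ⟨1, [42, 148], [45, 122]⟩,
  ⟨7, [56, 107], [28, 113]⟩,
  ⟨3, [43, 138], [79, 112]⟩,
  ⟨1, [82], [122]⟩,
  ⟨3, [39, 90], [79, 109]⟩,
  ⟨2, [33, 131], [36, 118]⟩,
  ⟨2, [25, 129], [71, 131]⟩,
  ⟨1, [44, 118], [51, 141]⟩,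
  ⟨1, [22, 70], [26, 130]⟩,
  ⟨7, [44, 118], [89, 107]⟩,
  ⟨3, [23], [45, 121]⟩,
  ⟨3, [25, 129], [41, 131]⟩,
  ⟨2, [59, 135], [52, 141]⟩,
  ⟨2, [48, 123], [68, 116]⟩,
  ⟨3, [27, 162], [41, 121]⟩,
  ⟨3, [48, 137], [91, 113]⟩,
  ⟨3, [61, 87], [93, 126]⟩,
  ⟨3, [45, 148], [73, 103]⟩,
  ⟨3, [54, 77], [83, 99]⟩,
  ⟨1, [51, 147], [86, 110]⟩,
  ⟨1, [24, 125], [61, 129]⟩,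
  ⟨2, [32, 81], [66, 142]⟩,
  ⟨3, [50, 82], [62, 120]⟩,
  ⟨2, [29, 133], [96, 115]⟩,
  ⟨2, [60, 140], [79, 127]⟩,
  ⟨1, [29, 133], [49, 129]⟩,
  ⟨2, [23, 98], [71, 143]⟩,
  ⟨2, [36, 156], [20, 105]⟩,
  ⟨3, [34, 106], [13, 134]⟩,
  ⟨2, [36, 92], [55, 134]⟩,
  ⟨3, [27, 104], [73, 142]⟩,
  ⟨1, [59, 135], [85, 135]⟩,
  ⟨3, [24, 125], [79, 109]⟩,
  ⟨3, [85], [28, 108]⟩,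
  ⟨3, [50, 158], [13, 144]⟩,
  ⟨1, [58, 151], [9, 108]⟩,
  ⟨3, [29, 153], [98, 114]⟩,
  ⟨1, [40, 69], [48, 139]⟩,
  ⟨1, [26, 84], [24, 124]⟩,
  ⟨1, [46, 161], [47, 137]⟩,
  ⟨7, [42, 70], [80, 117]⟩,
  ⟨2, [48, 137], [48, 103]⟩,
  ⟨3, [52, 111], [78, 143]⟩,
  ⟨2, [23, 125], [87, 133]⟩,
  ⟨2, [23, 137], [18, 112]⟩,
  ⟨1, [62, 82], [17, 132]⟩,
  ⟨2, [25, 138], [26, 117]⟩,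
  ⟨1, [41, 116], [54, 116]⟩,
  ⟨1, [42, 105], [73, 126]⟩,
  ⟨1, [26, 95], [73, 117]⟩,
  ⟨7, [85], [76, 108]⟩,
  ⟨3, [51, 158], [27, 115]⟩,
  ⟨3, [42, 70], [91, 112]⟩,
  ⟨2, [22, 78], [40, 133]⟩,
  ⟨3, [29, 109], [95, 128]⟩,
  ⟨3, [33, 135], [45, 111]⟩,
  ⟨2, [38, 162], [77, 138]⟩,
  ⟨1, [50, 82], [30, 144]⟩,
  ⟨2, [30, 123], [25, 112]⟩,
  ⟨1, [51, 110], [25, 140]⟩,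
  ⟨1, [26, 134], [58, 144]⟩,
  ⟨3, [65, 154], [90, 107]⟩,
  ⟨3, [41, 83], [85, 138]⟩,
  ⟨1, [32, 124], [9, 121]⟩,
  ⟨1, [89], [21, 136]⟩,
  ⟨2, [67, 81], [47, 132]⟩,
  ⟨1, [58, 124], [35, 126]⟩,
  ⟨1, [65, 154], [42, 106]⟩,
  ⟨1, [40, 129], [10, 123]⟩,
  ⟨1, [49, 80], [77, 121]⟩,
  ⟨1, [51, 73], [89, 119]⟩,
  ⟨1, [37, 123], [25, 140]⟩,
  ⟨1, [23, 88], [75, 141]⟩,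
  ⟨1, [27, 104], [53, 99]⟩,
  ⟨28, [36, 156], [36]⟩,
  ⟨28, [28, 134], [90, 133]⟩,
  ⟨3, [37, 132], [53, 117]⟩,
  ⟨2, [22, 145], [46, 115]⟩,
  ⟨3, [35, 89], [77, 129]⟩,
  ⟨1, [57, 98], [21, 106]⟩,
  ⟨2, [29, 157], [33, 128]⟩,
  ⟨3, [46, 83], [45, 106]⟩,
  ⟨3, [62, 153], [7, 101]⟩,
  ⟨2, [38, 88], [9, 116]⟩,
  ⟨3, [24, 98], [91, 123]⟩,
  ⟨3, [59, 87], [13, 124]⟩,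
  ⟨2, [27, 163], [75, 118]⟩,
  ⟨2, [127], [63, 110]⟩,
  ⟨2, [29, 129], [93, 123]⟩,
  ⟨2, [64, 119], [60, 138]⟩,
  ⟨3, [39, 80], [73, 141]⟩,
  ⟨3, [29, 133], [73, 131]⟩,
  ⟨1, [45, 113], [95, 118]⟩,
  ⟨2, [64, 133], [60, 145]⟩,
  ⟨2, [44, 107], [29, 118]⟩,
  ⟨3, [52], [61, 105]⟩,
  ⟨1, [66, 86], [69, 113]⟩,
  ⟨3, [50, 161], [62, 142]⟩,
  ⟨3, [61, 122], [45, 105]⟩,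
  ⟨1, [31, 126], [38, 106]⟩,
  ⟨3, [50, 87], [62, 142]⟩,
  ⟨3, [51, 110], [91, 143]⟩,
  ⟨1, [63, 140], [55, 102]⟩,
  ⟨1, [62, 77], [71, 110]⟩,
  ⟨1, [25, 129], [21, 130]⟩,
  ⟨2, [46, 161], [21, 141]⟩,
  ⟨1, [62, 158], [41, 134]⟩,
  ⟨2, [59, 128], [63, 130]⟩,
  ⟨3, [52, 124], [48, 103]⟩,
  ⟨2, [60, 94], [58, 137]⟩,
  ⟨2, [42, 141], [73, 135]⟩,
  ⟨1, [54, 153], [88, 99]⟩,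
  ⟨3, [36, 156], [79, 126]⟩,
  ⟨3, [63, 140], [56, 134]⟩,
  ⟨3, [25, 123], [12, 140]⟩,
  ⟨1, [39, 105], [77, 124]⟩,
  ⟨1, [32, 129], [11, 130]⟩,
  ⟨1, [45, 153], [71, 101]⟩,
  ⟨1, [46, 153], [21, 127]⟩,
  ⟨1, [62, 161], [25, 99]⟩,
  ⟨2, [34, 106], [67, 118]⟩,
  ⟨2, [27, 89], [68, 110]⟩,
  ⟨1, [33, 159], [8, 101]⟩,
  ⟨7, [30, 72], [27, 113]⟩,
  ⟨2, [62, 82], [82, 137]⟩,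
  ⟨1, [63, 127], [69, 129]⟩,
  ⟨1, [23, 77], [10, 100]⟩,
  ⟨1, [45, 74], [56, 116]⟩,
  ⟨3, [41, 123], [88, 141]⟩,
  ⟨1, [32, 81], [57, 134]⟩,
  ⟨3, [58, 124], [95, 104]⟩,
  ⟨2, [28, 97], [72, 139]⟩,
  ⟨1, [34, 113], [26, 108]⟩,
  ⟨2, [58, 107], [68, 117]⟩,
  ⟨3, [24, 129], [48, 126]⟩,
  ⟨1, [32], [34]⟩,
  ⟨2, [23, 88], [68, 132]⟩,
  ⟨1, [44, 107], [46, 138]⟩,
  ⟨2, [32, 93], [66, 99]⟩,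
  ⟨2, [50, 82], [18, 142]⟩,
  ⟨2, [23, 138], [15, 111]⟩,
  ⟨3, [22, 159], [31, 100]⟩,
  ⟨2, [25, 123], [71, 107]⟩,
  ⟨3, [22, 90], [66, 130]⟩,
  ⟨1, [28, 97], [9, 139]⟩,
  ⟨13, [], [62, 113]⟩,
  ⟨2, [57, 128], [5, 108]⟩,
  ⟨1, [43, 123], [13, 135]⟩,
  ⟨7, [57, 128], [65, 141]⟩,
  ⟨1, [28, 157], [75, 120]⟩,
  ⟨3, [48, 123], [12, 133]⟩,
  ⟨1, [50, 87], [72, 139]⟩,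
  ⟨1, [37, 132], [47]⟩,
  ⟨1, [57, 133], [5, 144]⟩,
  ⟨2, [163], [65, 103]⟩,
  ⟨2, [38, 123], [34, 122]⟩,
  ⟨3, [55, 70], [64, 110]⟩,
  ⟨3, [42, 147], [69, 144]⟩]

/-- The uses of identities at base point 1, a part. -/
def certCover1Part1 : List (Hop) := [
  ⟨1, [58, 81], [14, 142]⟩,
  ⟨1, [56, 105], [94, 99]⟩,
  ⟨28, [22, 71], [14, 128]⟩,
  ⟨1, [39, 75], [81, 102]⟩,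
  ⟨28, [42, 141], [74, 134]⟩,
  ⟨1, [48, 142], [29, 126]⟩,
  ⟨28, [58, 81], [41, 138]⟩,
  ⟨2, [24, 98], [48, 121]⟩,
  ⟨3, [64, 133], [91, 125]⟩,
  ⟨1, [45, 128], [98, 108]⟩,
  ⟨1, [25, 123], [56, 139]⟩,
  ⟨2, [24, 125], [68, 116]⟩,
  ⟨2, [52, 104], [46, 111]⟩,
  ⟨2, [41, 160], [96, 143]⟩,
  ⟨1, [32, 114], [88, 115]⟩,
  ⟨1, [36, 156], [72, 144]⟩,
  ⟨2, [43, 92], [63, 132]⟩,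
  ⟨3, [62, 77], [79, 118]⟩,
  ⟨2, [28, 78], [87, 118]⟩,
  ⟨3, [38, 162], [90, 143]⟩,
  ⟨2, [64, 132], [130]⟩,
  ⟨2, [51, 149], [82, 130]⟩,
  ⟨2, [41, 83], [18, 125]⟩,
  ⟨3, [25, 151], [15, 107]⟩,
  ⟨3, [41, 131], [27, 101]⟩,
  ⟨1, [45, 141], [86, 110]⟩,
  ⟨3, [22, 145], [59, 137]⟩,
  ⟨1, [60, 100], [130]⟩,
  ⟨1, [36, 105], [92, 110]⟩,
  ⟨1, [61, 84], [82, 125]⟩,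
  ⟨1, [33, 135], [86, 110]⟩,
  ⟨2, [58, 69], [50, 120]⟩,
  ⟨28, [23, 138], [49, 112]⟩,
  ⟨1, [47, 163], [84, 136]⟩,
  ⟨2, [45, 80], [36, 99]⟩,
  ⟨2, [57, 78], [26, 119]⟩,
  ⟨3, [26, 139], [12, 102]⟩,
  ⟨2, [44, 118], [43, 116]⟩,
  ⟨2, [27, 104], [96, 115]⟩,
  ⟨3, [60, 113], [73, 136]⟩,
  ⟨1, [28, 78], [68, 113]⟩,
  ⟨1, [48, 163], [70, 145]⟩,
  ⟨1, [58, 121], [27, 107]⟩,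
  ⟨2, [26, 69], [63, 124]⟩,
  ⟨1, [57, 128], [42, 111]⟩,
  ⟨1, [59, 70], [13]⟩,
  ⟨2, [52], [46, 139]⟩,
  ⟨1, [57, 91], [100]⟩,
  ⟨1, [64, 144], [42, 106]⟩,
  ⟨3, [26, 134], [13, 123]⟩,
  ⟨1, [53, 74], [95, 107]⟩,
  ⟨1, [65, 128], [29, 114]⟩,
  ⟨3, [57, 78], [19, 145]⟩,
  ⟨3, [25, 138], [93, 104]⟩,
  ⟨1, [60, 157], [21, 144]⟩,
  ⟨3, [23, 125], [7, 130]⟩,
  ⟨3, [42, 148], [73, 144]⟩,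
  ⟨1, [63, 71], [40, 144]⟩,
  ⟨28, [32, 81], [61, 100]⟩,
  ⟨3, [26, 69], [28, 108]⟩,
  ⟨1, [35, 99], [45, 144]⟩,
  ⟨1, [29, 100], [33, 139]⟩,
  ⟨1, [54, 85], [84]⟩,
  ⟨1, [41, 102], [75, 101]⟩,
  ⟨1, [124], [24, 124]⟩,
  ⟨3, [43, 100], [6, 112]⟩,
  ⟨1, [126], [24, 124]⟩,
  ⟨3, [28, 134], [9, 101]⟩,
  ⟨7, [22, 148], [61, 113]⟩,
  ⟨28, [163], [98, 126]⟩,
  ⟨3, [44, 107], [85, 113]⟩,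
  ⟨3, [23, 88], [48, 132]⟩,
  ⟨1, [50, 153], [79, 127]⟩,
  ⟨2, [40, 116], [15, 122]⟩,
  ⟨1, [39, 136], [46, 133]⟩,
  ⟨1, [44, 69], [56, 139]⟩,
  ⟨2, [52, 124], [26, 117]⟩,
  ⟨2, [62, 153], [26, 102]⟩,
  ⟨1, [23, 95], [54, 116]⟩,
  ⟨1, [40, 144], [57, 138]⟩,
  ⟨28, [39, 80], [32, 115]⟩,
  ⟨1, [42, 71], [67, 115]⟩,
  ⟨1, [22, 159], [69, 128]⟩,
  ⟨1, [64, 119], [88, 103]⟩,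
  ⟨7, [25, 129], [13, 132]⟩,
  ⟨7, [26, 134], [59, 108]⟩,
  ⟨1, [46, 90], [85, 144]⟩,
  ⟨1, [60, 80], [29, 144]⟩,
  ⟨1, [42, 141], [29, 108]⟩,
  ⟨1, [55, 128], [52, 120]⟩,
  ⟨2, [46, 153], [41, 121]⟩,
  ⟨2, [38, 111], [11, 101]⟩,
  ⟨3, [61, 156], [96, 117]⟩,
  ⟨1, [27, 138], [35, 140]⟩,
  ⟨1, [63, 148], [18, 135]⟩,
  ⟨2, [43, 100], [85, 144]⟩,
  ⟨2, [28, 83], [95, 135]⟩,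
  ⟨2, [22, 159], [71, 114]⟩,
  ⟨3, [29, 144], [42, 137]⟩,
  ⟨1, [27, 162], [55, 128]⟩,
  ⟨1, [23, 137], [94, 109]⟩,
  ⟨1, [29, 129], [15, 110]⟩,
  ⟨1, [43, 159], [29, 129]⟩,
  ⟨7, [55, 143], [6, 106]⟩,
  ⟨3, [40, 116], [32, 118]⟩,
  ⟨1, [65, 113], [18, 118]⟩,
  ⟨1, [27, 124], [88, 101]⟩,
  ⟨1, [54, 154], [63, 125]⟩,
  ⟨1, [32, 99], [25, 126]⟩,
  ⟨28, [31, 88], [14, 119]⟩,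
  ⟨1, [62, 80], [50, 140]⟩,
  ⟨3, [30, 81], [9, 145]⟩,
  ⟨1, [23, 125], [86, 119]⟩,
  ⟨28, [26, 69], [74, 140]⟩,
  ⟨2, [43, 163], [58, 144]⟩,
  ⟨1, [39, 103], [6, 131]⟩,
  ⟨1, [51, 90], [91, 105]⟩,
  ⟨1, [45, 75], [89, 119]⟩,
  ⟨28, [39, 160], [65, 110]⟩,
  ⟨1, [53, 96], [77, 100]⟩,
  ⟨28, [], [25, 138]⟩,
  ⟨28, [36, 83], [88, 112]⟩,
  ⟨1, [23, 98], [28, 119]⟩,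
  ⟨3, [38, 123], [66, 100]⟩,
  ⟨2, [22, 90], [44, 125]⟩,
  ⟨1, [54, 77], [77, 105]⟩,
  ⟨3, [45, 85], [55, 112]⟩,
  ⟨3, [37, 124], [25, 115]⟩,
  ⟨1, [38, 103], [30, 135]⟩,
  ⟨2, [35, 89], [79, 114]⟩,
  ⟨2, [58, 121], [89, 117]⟩,
  ⟨3, [33, 131], [15, 138]⟩,
  ⟨3, [54, 153], [52, 118]⟩,
  ⟨1, [34, 116], [26, 122]⟩,
  ⟨2, [27, 138], [75, 131]⟩,
  ⟨3, [31, 98], [45, 133]⟩,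
  ⟨2, [29, 153], [9]⟩,
  ⟨2, [50, 158], [5, 102]⟩,
  ⟨3, [48, 142], [45, 109]⟩,
  ⟨1, [51, 158], [88, 135]⟩,
  ⟨1, [45, 148], [65, 100]⟩,
  ⟨3, [163], [13, 116]⟩,
  ⟨1, [37, 69], [35, 100]⟩,
  ⟨1, [37, 155], [86, 114]⟩,
  ⟨1, [54, 94], [88, 135]⟩,
  ⟨1, [38, 162], [74, 111]⟩,
  ⟨1, [42, 88], [91, 130]⟩,
  ⟨1, [30, 146], [33, 125]⟩,
  ⟨1, [26, 131], [47]⟩,
  ⟨3, [50, 109], [73, 127]⟩,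
  ⟨2, [32, 99], [82, 135]⟩,
  ⟨1, [61, 120], [82, 102]⟩,
  ⟨1, [48, 125], [50, 132]⟩,
  ⟨1, [27, 103], [83, 108]⟩,
  ⟨1, [33, 145], [58, 130]⟩,
  ⟨1, [27, 111], [84, 141]⟩,
  ⟨1, [36, 147], [23, 117]⟩,
  ⟨1, [38, 123], [27, 105]⟩,
  ⟨1, [22, 71], [32, 134]⟩,
  ⟨1, [88], [4, 112]⟩,
  ⟨1, [27, 89], [35, 133]⟩,
  ⟨1, [24, 88], [98, 111]⟩,
  ⟨1, [25, 125], [49, 127]⟩,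
  ⟨3, [26, 84], [10, 106]⟩,
  ⟨1, [62, 121], [15, 125]⟩,
  ⟨1, [37, 154], [6, 112]⟩,
  ⟨1, [28, 109], [98, 108]⟩,
  ⟨1, [47, 73], [88]⟩,
  ⟨1, [28, 134], [16, 128]⟩,
  ⟨1, [23, 104], [9, 101]⟩,
  ⟨3, [27, 163], [83, 113]⟩,
  ⟨1, [35, 89], [29, 110]⟩,
  ⟨3, [47, 115], [31, 106]⟩,
  ⟨28, [32, 99], [95, 110]⟩,
  ⟨7, [23, 88], [76, 136]⟩,
  ⟨1, [25, 138], [91, 117]⟩,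
  ⟨1, [41, 160], [56, 135]⟩,
  ⟨28, [22, 119], [47, 131]⟩,
  ⟨1, [44, 153], [56, 116]⟩,
  ⟨28, [23, 125], [88, 105]⟩,
  ⟨1, [44, 100], [42, 135]⟩,
  ⟨1, [38, 111], [92, 117]⟩,
  ⟨1, [44, 94], [48, 108]⟩,
  ⟨2, [54, 77], [88, 131]⟩,
  ⟨2, [28, 134], [35, 112]⟩,
  ⟨3, [22, 78], [83, 120]⟩,
  ⟨2, [28, 92], [87, 145]⟩,
  ⟨1, [24, 98], [20, 102]⟩,
  ⟨1, [30, 123], [80]⟩,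
  ⟨1, [25, 149], [21, 104]⟩,
  ⟨1, [29, 135], [95, 133]⟩,
  ⟨1, [56, 122], [57, 133]⟩,
  ⟨3, [30, 123], [78, 140]⟩,
  ⟨3, [42, 71], [58, 113]⟩,
  ⟨1, [41, 69], [20, 130]⟩,
  ⟨28, [47, 163], [65, 104]⟩,
  ⟨2, [54, 94], [69, 121]⟩,
  ⟨2, [28, 131], [33, 134]⟩,
  ⟨7, [22, 71], [98, 102]⟩,
  ⟨7, [35, 99], [36, 144]⟩,
  ⟨1, [67, 149], [28, 125]⟩,
  ⟨1, [41, 83], [36, 124]⟩,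
  ⟨7, [42, 141], [47, 132]⟩,
  ⟨1, [67, 142], [97, 130]⟩,
  ⟨1, [58, 156], [87, 112]⟩,
  ⟨2, [28, 159], [40, 128]⟩,
  ⟨1, [56, 80], [32, 107]⟩,
  ⟨1, [46, 142], [96, 144]⟩,
  ⟨1, [24, 107], [33, 133]⟩,
  ⟨28, [22, 90], [20, 123]⟩,
  ⟨28, [27, 89], [97, 137]⟩,
  ⟨1, [63, 83], [69, 141]⟩,
  ⟨1, [63, 135], [13, 123]⟩,
  ⟨28, [32, 93], [28, 118]⟩,
  ⟨28, [54, 77], [28, 102]⟩,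
  ⟨7, [31, 88], [94, 123]⟩,
  ⟨28, [65, 153], [41, 128]⟩,
  ⟨1, [23, 138], [69, 120]⟩,
  ⟨1, [22, 161], [91, 139]⟩,
  ⟨1, [41, 103], [10, 103]⟩,
  ⟨1, [62, 153], [35, 121]⟩,
  ⟨1, [61, 122], [38, 101]⟩,
  ⟨1, [52, 104], [12, 102]⟩,
  ⟨2, [31, 138], [63, 132]⟩,
  ⟨3, [42, 141], [28, 106]⟩,
  ⟨2, [44, 132], [66, 115]⟩,
  ⟨2, [53, 153], [36, 135]⟩,
  ⟨1, [48, 121], [67, 127]⟩,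
  ⟨1, [30, 79], [49, 99]⟩,
  ⟨1, [39, 147], [53, 119]⟩,
  ⟨3, [55, 141], [83, 132]⟩,
  ⟨1, [63, 84], [17, 111]⟩,
  ⟨1, [33, 91], [65, 137]⟩,
  ⟨1, [66, 96], [81, 127]⟩,
  ⟨1, [37, 127], [65, 137]⟩,
  ⟨28, [40, 116], [89, 114]⟩,
  ⟨1, [48, 123], [9, 106]⟩,
  ⟨1, [53, 105], [86, 110]⟩,
  ⟨2, [55, 141], [39, 136]⟩,
  ⟨28, [54, 153], [42]⟩,
  ⟨7, [43, 138], [24, 136]⟩,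
  ⟨1, [28, 131], [33, 129]⟩,
  ⟨3, [50, 153], [71, 145]⟩,
  ⟨3, [39, 103], [96, 114]⟩,
  ⟨2, [58, 81], [14, 114]⟩,
  ⟨1, [33, 131], [86, 99]⟩,
  ⟨3, [35, 125], [7, 106]⟩,
  ⟨1, [37, 133], [54, 138]⟩,
  ⟨1, [36, 92], [6, 125]⟩,
  ⟨28, [43, 100], [78, 120]⟩,
  ⟨1, [68, 72], [59, 141]⟩,
  ⟨1, [24, 129], [78, 131]⟩,
  ⟨28, [29, 92], [44, 105]⟩,
  ⟨1, [135], [13, 100]⟩,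
  ⟨7, [47, 111], [35, 139]⟩,
  ⟨28, [24, 125], [68, 101]⟩,
  ⟨1, [26, 146], [58, 144]⟩,
  ⟨7, [22, 119], [39, 113]⟩,
  ⟨1, [27, 94], [89, 120]⟩,
  ⟨1, [56, 107], [22, 139]⟩,
  ⟨2, [35, 125], [30, 144]⟩,
  ⟨28, [44, 132], [18, 145]⟩,
  ⟨1, [48, 124], [75, 101]⟩,
  ⟨28, [59, 128], [97, 105]⟩,
  ⟨28, [26, 134], [98, 126]⟩,
  ⟨1, [63, 147], [46, 133]⟩,
  ⟨28, [25, 123], [65, 119]⟩,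
  ⟨1, [32, 110], [17, 132]⟩,
  ⟨1, [49, 110], [89, 111]⟩,
  ⟨7, [25, 138], [59, 106]⟩,
  ⟨28, [27, 163], [90, 111]⟩,
  ⟨28, [23, 137], [74, 112]⟩,
  ⟨7, [23, 125], [5, 102]⟩,
  ⟨7, [58, 81], [43, 103]⟩,
  ⟨1, [57, 102], [58, 144]⟩,
  ⟨2, [50, 153], [41, 121]⟩,
  ⟨1, [36, 129], [24, 130]⟩,
  ⟨1, [39, 108], [10, 128]⟩,
  ⟨1, [23, 76], [28, 104]⟩,
  ⟨1, [37, 119], [80, 121]⟩,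
  ⟨1, [29, 109], [22, 113]⟩,
  ⟨1, [25, 110], [57, 107]⟩,
  ⟨1, [25, 151], [14, 110]⟩,
  ⟨28, [31, 98], [86, 140]⟩,
  ⟨3, [46, 153], [90, 107]⟩,
  ⟨28, [25, 129], [43, 124]⟩,
  ⟨2, [38, 81], [19, 132]⟩,
  ⟨28, [35, 89], [36, 101]⟩,
  ⟨1, [62, 105], [116]⟩,
  ⟨1, [38, 146], [92, 110]⟩,
  ⟨28, [30, 123], [29, 138]⟩,
  ⟨1, [45, 111], [30, 134]⟩,
  ⟨1, [67, 81], [75, 136]⟩,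
  ⟨1, [56, 137], [38, 114]⟩,
  ⟨1, [61, 92], [90, 110]⟩,
  ⟨1, [27, 163], [38, 129]⟩,
  ⟨1, [52, 138], [47, 119]⟩,
  ⟨3, [27, 89], [30, 102]⟩,
  ⟨1, [49, 127], [12, 145]⟩,
  ⟨1, [51, 149], [69, 100]⟩]

/-- The uses of identities at base point 1, a part. -/
def certCover1Part2 : List (Hop) := [
  ⟨1, [63, 136], [86, 136]⟩,
  ⟨1, [67, 162], [77, 145]⟩,
  ⟨1, [58, 75], [18, 106]⟩,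
  ⟨28, [31], [32, 100]⟩,
  ⟨28, [49, 146], [18, 134]⟩,
  ⟨1, [56, 119], [56, 111]⟩,
  ⟨1, [44, 161], [18, 121]⟩,
  ⟨1, [49, 72], [56, 125]⟩,
  ⟨1, [33, 144], [25, 144]⟩,
  ⟨1, [51, 78], [45, 113]⟩,
  ⟨3, [50, 79], [51, 126]⟩,
  ⟨7, [29, 133], [41, 132]⟩,
  ⟨28, [45, 148], [98, 142]⟩,
  ⟨28, [29, 109], [69, 128]⟩,
  ⟨28, [36, 92], [75, 108]⟩,
  ⟨28, [85], [77, 103]⟩,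
  ⟨1, [45, 108], [70, 123]⟩,
  ⟨28, [57, 128], [23, 115]⟩,
  ⟨1, [58, 116], [12, 136]⟩,
  ⟨1, [44, 154], [23, 105]⟩,
  ⟨2, [58, 75], [89, 105]⟩,
  ⟨7, [30, 123], [42, 145]⟩,
  ⟨7, [58, 107], [80, 104]⟩,
  ⟨1, [36, 83], [69, 141]⟩,
  ⟨1, [41, 85], [8, 105]⟩,
  ⟨7, [], [64, 142]⟩,
  ⟨7, [28, 131], [81, 116]⟩,
  ⟨1, [29, 153], [49, 129]⟩,
  ⟨28, [68, 85], [8, 109]⟩,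
  ⟨28, [35, 125], [95, 110]⟩]

/-- The uses of identities at base point 1. -/
def certCover1 : List (Hop) := certCover1Part0 ++ certCover1Part1 ++ certCover1Part2

/-- The uses of identities at base point 2, a part. -/
def certCover2Part0 : List (Hop) := [
  ⟨8, [], []⟩,
  ⟨21, [7], [19, 109]⟩,
  ⟨38, [177], [37, 101]⟩,
  ⟨69, [], [90, 111]⟩,
  ⟨55, [172], [80, 141]⟩,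
  ⟨68, [6], [85, 99]⟩,
  ⟨100, [8], [44, 127]⟩,
  ⟨4, [], []⟩,
  ⟨106, [188], [25, 144]⟩,
  ⟨4, [196], [24, 116]⟩,
  ⟨4, [235], [62, 121]⟩,
  ⟨22, [178], [48, 134]⟩,
  ⟨21, [183], [75, 103]⟩,
  ⟨100, [170], [86, 106]⟩,
  ⟨83, [166], [92, 123]⟩,
  ⟨62, [171], [93, 112]⟩,
  ⟨114, [178], [58, 122]⟩,
  ⟨4, [6], [73, 145]⟩,
  ⟨4, [229], [45, 128]⟩,
  ⟨39, [244], [66, 129]⟩,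
  ⟨92, [208], [67, 143]⟩,
  ⟨114, [], [88, 140]⟩,
  ⟨4, [192], [6, 131]⟩,
  ⟨4, [250], [29, 139]⟩,
  ⟨62, [210], [95, 123]⟩,
  ⟨39, [7], [35, 102]⟩,
  ⟨4, [171], [29, 139]⟩,
  ⟨67, [169], [62, 145]⟩,
  ⟨92, [204], [77, 122]⟩,
  ⟨67, [170], [56, 124]⟩,
  ⟨39, [240], [11, 122]⟩,
  ⟨39, [230], [62, 130]⟩,
  ⟨55, [175], [103]⟩,
  ⟨55, [176], [23, 106]⟩,
  ⟨83, [191], [53, 113]⟩,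
  ⟨62, [205], [48, 139]⟩,
  ⟨4, [253], [16, 142]⟩,
  ⟨115, [], [26, 122]⟩,
  ⟨4, [205], [91, 130]⟩,
  ⟨83, [170], [78, 126]⟩,
  ⟨115, [168], [85, 106]⟩,
  ⟨55, [165], [5, 139]⟩,
  ⟨4, [209], [33, 121]⟩,
  ⟨22, [164], [52, 122]⟩,
  ⟨114, [214], [5, 145]⟩,
  ⟨22, [7], [67, 145]⟩,
  ⟨55, [185], [93, 104]⟩,
  ⟨114, [183], [9, 117]⟩,
  ⟨39, [248], [37, 99]⟩,
  ⟨55, [196], [43, 144]⟩,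
  ⟨92, [178], [54, 120]⟩,
  ⟨39, [200], [68, 123]⟩,
  ⟨39, [207], [26, 102]⟩,
  ⟨100, [165], [87, 99]⟩,
  ⟨83, [6], [68, 134]⟩,
  ⟨67, [], [76, 133]⟩,
  ⟨55, [181], [27, 129]⟩,
  ⟨4, [195], [84, 112]⟩,
  ⟨67, [165], [10, 133]⟩,
  ⟨4, [193], [32, 137]⟩,
  ⟨4, [164], [69, 108]⟩,
  ⟨22, [165], [54, 132]⟩,
  ⟨83, [185], [33, 141]⟩,
  ⟨62, [177], [94, 125]⟩,
  ⟨4, [246], [62, 121]⟩,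
  ⟨39, [], [93, 139]⟩,
  ⟨69, [171], [67, 118]⟩,
  ⟨92, [217], [18, 117]⟩,
  ⟨4, [202], [19, 116]⟩,
  ⟨39, [182], [21, 113]⟩,
  ⟨62, [191], [6, 126]⟩,
  ⟨4, [198], [97, 128]⟩,
  ⟨69, [196], [29, 112]⟩,
  ⟨4, [233], [24, 116]⟩,
  ⟨55, [166], [19, 145]⟩,
  ⟨4, [228], [95, 121]⟩,
  ⟨92, [7], [56, 99]⟩,
  ⟨92, [177], [63, 124]⟩,
  ⟨62, [166], [44, 111]⟩,
  ⟨4, [185], [62, 116]⟩,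
  ⟨39, [224], [27, 137]⟩,
  ⟨114, [198], [57, 104]⟩,
  ⟨22, [214], [22, 139]⟩,
  ⟨4, [165], [13, 115]⟩,
  ⟨114, [194], [57, 104]⟩,
  ⟨83, [186], [6, 143]⟩,
  ⟨83, [195], [48, 142]⟩,
  ⟨92, [6], [61, 116]⟩,
  ⟨55, [171], [6, 114]⟩,
  ⟨4, [187], [94, 120]⟩,
  ⟨106, [165], [144]⟩,
  ⟨38, [170], [73, 102]⟩,
  ⟨4, [180], [79, 112]⟩,
  ⟨4, [178], [81, 118]⟩,
  ⟨55, [188], [21, 102]⟩,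
  ⟨83, [169], [87, 130]⟩,
  ⟨83, [213], [81, 141]⟩,
  ⟨39, [180], [72, 104]⟩,
  ⟨83, [178], [9, 99]⟩,
  ⟨114, [6], [79, 117]⟩,
  ⟨39, [196], [75, 103]⟩,
  ⟨39, [235], [9, 118]⟩,
  ⟨22, [174], [5, 116]⟩,
  ⟨22, [196], [46, 117]⟩,
  ⟨83, [198], [92, 118]⟩,
  ⟨21, [174], [33, 110]⟩,
  ⟨4, [242], [74, 144]⟩,
  ⟨39, [246], [98, 117]⟩,
  ⟨39, [187], [22, 106]⟩,
  ⟨22, [188], [56, 135]⟩,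
  ⟨83, [196], [19, 127]⟩,
  ⟨114, [248], [19, 111]⟩,
  ⟨38, [178], [81, 107]⟩,
  ⟨83, [180], [81, 142]⟩,
  ⟨39, [242], [34, 105]⟩,
  ⟨38, [174], [28, 109]⟩,
  ⟨22, [209], [96, 119]⟩,
  ⟨67, [168], [18, 108]⟩,
  ⟨4, [226], [45, 128]⟩,
  ⟨68, [7], [58, 110]⟩,
  ⟨21, [180], [71, 104]⟩,
  ⟨68, [178], [37, 138]⟩,
  ⟨83, [176], [58, 130]⟩,
  ⟨22, [218], [11, 130]⟩,
  ⟨62, [6], [12, 132]⟩,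
  ⟨22, [211], [8, 117]⟩,
  ⟨4, [219], [73, 145]⟩,
  ⟨22, [176], [60, 136]⟩,
  ⟨21, [], [24, 114]⟩,
  ⟨62, [212], [9, 114]⟩,
  ⟨4, [218], [44, 113]⟩,
  ⟨4, [181], [59, 124]⟩,
  ⟨69, [174], [74, 115]⟩,
  ⟨114, [244], [25, 120]⟩,
  ⟨115, [170], [27, 101]⟩,
  ⟨39, [191], [92, 115]⟩,
  ⟨114, [216], [25, 120]⟩,
  ⟨4, [215], [30, 114]⟩,
  ⟨114, [166], [91, 112]⟩,
  ⟨4, [197], [24, 130]⟩,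
  ⟨55, [170], [73]⟩,
  ⟨62, [170], [38, 116]⟩,
  ⟨114, [187], [88, 140]⟩,
  ⟨68, [165], [75, 105]⟩,
  ⟨83, [8], [74, 117]⟩,
  ⟨39, [245], [85, 110]⟩,
  ⟨39, [216], [81, 133]⟩,
  ⟨22, [169], [50, 142]⟩,
  ⟨114, [247], [10, 106]⟩,
  ⟨83, [7], [67, 137]⟩,
  ⟨92, [197], [67, 143]⟩,
  ⟨38, [208], [6, 115]⟩,
  ⟨4, [204], [44, 129]⟩,
  ⟨68, [173], [71]⟩,
  ⟨83, [193], [19, 109]⟩,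
  ⟨39, [205], [66, 121]⟩,
  ⟨4, [237], [40, 108]⟩,
  ⟨106, [8], [37, 131]⟩,
  ⟨92, [186], [94, 112]⟩,
  ⟨106, [7], [66, 138]⟩,
  ⟨39, [222], [19, 126]⟩,
  ⟨8, [164], [25, 132]⟩,
  ⟨39, [215], [79]⟩,
  ⟨83, [187], [26, 108]⟩,
  ⟨39, [217], [86, 120]⟩,
  ⟨39, [208], [21, 108]⟩,
  ⟨67, [175], [61, 104]⟩,
  ⟨114, [181], [59, 133]⟩,
  ⟨38, [172], [46, 124]⟩,
  ⟨22, [186], [87, 120]⟩,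
  ⟨39, [227], [43, 134]⟩,
  ⟨38, [182], [57, 142]⟩,
  ⟨83, [190], [84, 142]⟩,
  ⟨4, [213], [135]⟩,
  ⟨83, [194], [64, 103]⟩,
  ⟨100, [171], [34, 123]⟩,
  ⟨39, [183], [43, 144]⟩,
  ⟨21, [169], [72]⟩,
  ⟨100, [169], [34, 128]⟩,
  ⟨114, [177], [66, 129]⟩,
  ⟨4, [201], [44, 128]⟩,
  ⟨4, [176], [92, 99]⟩,
  ⟨68, [182], [80, 135]⟩,
  ⟨114, [203], [56, 132]⟩,
  ⟨92, [209], [22, 139]⟩,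
  ⟨39, [238], [52, 113]⟩,
  ⟨62, [228], [11, 139]⟩,
  ⟨92, [187], [9, 110]⟩,
  ⟨39, [177], [16, 135]⟩,
  ⟨21, [181], [46, 138]⟩,
  ⟨115, [171], [29, 140]⟩,
  ⟨100, [164], [98, 145]⟩,
  ⟨22, [177], [24, 128]⟩,
  ⟨68, [], [94, 144]⟩,
  ⟨68, [164], [19, 122]⟩,
  ⟨62, [182], [95, 140]⟩,
  ⟨68, [187], [94, 144]⟩,
  ⟨100, [182], [72, 128]⟩,
  ⟨4, [221], [18, 137]⟩,
  ⟨55, [6], [96, 125]⟩,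
  ⟨39, [234], [11, 122]⟩,
  ⟨92, [184], [74, 124]⟩,
  ⟨4, [206], [80, 126]⟩,
  ⟨106, [164], []⟩,
  ⟨4, [231], [66, 145]⟩,
  ⟨92, [202], [17, 106]⟩,
  ⟨69, [178], [11, 131]⟩,
  ⟨67, [8], [56, 124]⟩,
  ⟨83, [210], [65, 145]⟩,
  ⟨39, [168], [125]⟩,
  ⟨4, [225], [29, 125]⟩,
  ⟨24, [6], [77, 101]⟩,
  ⟨114, [230], [60, 120]⟩,
  ⟨4, [190], [29, 125]⟩,
  ⟨4, [200], [50, 101]⟩,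
  ⟨4, [248], [8, 145]⟩,
  ⟨39, [172], [57, 100]⟩,
  ⟨4, [183], [66, 130]⟩,
  ⟨39, [189], [49, 125]⟩,
  ⟨114, [182], [13, 112]⟩,
  ⟨4, [172], [34, 128]⟩,
  ⟨39, [233], [87, 128]⟩,
  ⟨38, [8], [14, 124]⟩,
  ⟨114, [7], [75, 138]⟩,
  ⟨39, [241], [43, 135]⟩,
  ⟨4, [174], [21, 139]⟩,
  ⟨114, [217], [9, 101]⟩,
  ⟨39, [255], [55, 123]⟩,
  ⟨62, [184], [59, 100]⟩,
  ⟨115, [8], [91, 139]⟩,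
  ⟨38, [211], [98]⟩,
  ⟨22, [184], [4, 131]⟩,
  ⟨62, [183], [33, 101]⟩,
  ⟨4, [203], [55, 143]⟩,
  ⟨38, [217], [15, 130]⟩,
  ⟨39, [171], [24, 111]⟩,
  ⟨83, [], [49, 142]⟩,
  ⟨92, [192], [63, 137]⟩,
  ⟨4, [8], [29, 140]⟩,
  ⟨68, [184], [92, 117]⟩,
  ⟨100, [168], [30, 116]⟩,
  ⟨69, [169], [18, 141]⟩,
  ⟨68, [211], [92, 117]⟩,
  ⟨68, [174], [59, 106]⟩,
  ⟨83, [207], [4, 123]⟩,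
  ⟨106, [172], [24, 118]⟩,
  ⟨83, [164], [58, 143]⟩,
  ⟨114, [168], [56, 140]⟩,
  ⟨92, [], [28, 99]⟩,
  ⟨67, [186], [81, 119]⟩,
  ⟨39, [220], [41, 142]⟩,
  ⟨39, [197], [38, 124]⟩,
  ⟨67, [7], [76, 122]⟩,
  ⟨62, [178], [42, 122]⟩,
  ⟨83, [172], [96, 100]⟩,
  ⟨22, [190], [22, 105]⟩,
  ⟨92, [170], [32, 125]⟩,
  ⟨68, [176], [9, 119]⟩,
  ⟨21, [172], [75, 120]⟩,
  ⟨114, [215], [45, 123]⟩,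
  ⟨39, [254], [83, 120]⟩,
  ⟨92, [171], [43, 127]⟩,
  ⟨38, [184], [20, 138]⟩,
  ⟨62, [211], [73, 127]⟩,
  ⟨39, [223], [97, 144]⟩,
  ⟨16, [], [43, 121]⟩,
  ⟨22, [253], [52, 122]⟩,
  ⟨83, [183], [24, 120]⟩,
  ⟨4, [214], [64, 115]⟩,
  ⟨8, [8], [8, 127]⟩,
  ⟨4, [232], [49, 117]⟩,
  ⟨62, [192], [18, 138]⟩,
  ⟨22, [6], [9, 121]⟩,
  ⟨4, [249], [85, 116]⟩,
  ⟨39, [239], [99]⟩,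
  ⟨114, [165], [88, 99]⟩,
  ⟨92, [176], [82, 131]⟩,
  ⟨83, [181], [6, 136]⟩,
  ⟨67, [167], [17, 135]⟩,
  ⟨83, [189], [22, 131]⟩,
  ⟨67, [179], [17, 135]⟩,
  ⟨38, [167], [60, 130]⟩,
  ⟨62, [181], [40, 135]⟩,
  ⟨83, [167], [93, 139]⟩,
  ⟨62, [168], [56, 116]⟩,
  ⟨100, [172], [9]⟩,
  ⟨39, [165], [71, 106]⟩,
  ⟨24, [7], [84, 144]⟩,
  ⟨114, [206], [65, 134]⟩,
  ⟨4, [188], [80, 123]⟩,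
  ⟨38, [], [48, 120]⟩,
  ⟨4, [179], [45, 107]⟩,
  ⟨68, [175], [96, 99]⟩,
  ⟨69, [164], [95, 113]⟩,
  ⟨39, [225], [26, 100]⟩,
  ⟨39, [201], [33, 131]⟩,
  ⟨4, [173], [15, 145]⟩,
  ⟨115, [167], [77, 99]⟩,
  ⟨106, [183], [28, 117]⟩,
  ⟨92, [194], [31, 109]⟩]

/-- The uses of identities at base point 2, a part. -/
def certCover2Part1 : List (Hop) := [
  ⟨83, [188], [80, 118]⟩,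
  ⟨114, [176], [59, 110]⟩,
  ⟨69, [217], [99]⟩,
  ⟨83, [165], [80, 118]⟩,
  ⟨4, [220], [15, 118]⟩,
  ⟨39, [179], [133]⟩,
  ⟨21, [179], [20, 109]⟩,
  ⟨114, [204], [39, 122]⟩,
  ⟨22, [206], [98, 126]⟩,
  ⟨22, [222], [90, 106]⟩,
  ⟨92, [215], [25, 121]⟩,
  ⟨115, [176], [124]⟩,
  ⟨115, [174], [9]⟩,
  ⟨62, [221], [21, 142]⟩,
  ⟨21, [164], [10, 107]⟩,
  ⟨83, [243], [6, 119]⟩,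
  ⟨114, [219], [45, 115]⟩,
  ⟨39, [166], [55, 113]⟩,
  ⟨114, [243], [88, 109]⟩,
  ⟨22, [219], [34, 132]⟩,
  ⟨83, [200], [68, 119]⟩,
  ⟨22, [173], [28, 113]⟩,
  ⟨92, [220], [81, 138]⟩,
  ⟨22, [230], [69, 121]⟩,
  ⟨92, [172], [24, 110]⟩,
  ⟨22, [244], [18, 110]⟩,
  ⟨114, [175], [39, 127]⟩,
  ⟨4, [199], [62, 141]⟩,
  ⟨21, [186], [32, 144]⟩,
  ⟨62, [209], [98, 118]⟩,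
  ⟨67, [211], [5, 128]⟩,
  ⟨62, [165], [35, 144]⟩,
  ⟨39, [232], [70, 139]⟩,
  ⟨83, [206], [25, 139]⟩,
  ⟨38, [165], [89, 120]⟩,
  ⟨114, [218], [4, 127]⟩,
  ⟨22, [179], [22, 107]⟩,
  ⟨83, [171], [15, 125]⟩,
  ⟨83, [177], [35, 104]⟩,
  ⟨4, [247], [6]⟩,
  ⟨4, [177], [86, 145]⟩,
  ⟨55, [164], [33, 104]⟩,
  ⟨92, [206], [88, 130]⟩,
  ⟨4, [210], [19, 116]⟩,
  ⟨100, [167], [44, 135]⟩,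
  ⟨69, [173], [14, 103]⟩,
  ⟨92, [183], [18, 117]⟩,
  ⟨114, [180], [23]⟩,
  ⟨39, [195], [49, 140]⟩,
  ⟨62, [217], [33]⟩,
  ⟨24, [164], [5, 140]⟩,
  ⟨39, [251], [83, 145]⟩,
  ⟨22, [199], [42, 103]⟩,
  ⟨4, [194], [97, 128]⟩,
  ⟨62, [], [78, 137]⟩,
  ⟨22, [182], [54, 138]⟩,
  ⟨92, [198], [53, 117]⟩,
  ⟨100, [184], [65, 113]⟩,
  ⟨4, [189], [76, 105]⟩,
  ⟨62, [227], [38, 140]⟩,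
  ⟨106, [6], [9, 108]⟩,
  ⟨68, [167], [89, 135]⟩,
  ⟨21, [185], [31, 120]⟩,
  ⟨92, [211], [35, 136]⟩,
  ⟨39, [173], [58, 141]⟩,
  ⟨106, [174], [81, 133]⟩,
  ⟨39, [236], [58, 141]⟩,
  ⟨83, [203], [45, 117]⟩,
  ⟨8, [7], [19, 109]⟩,
  ⟨39, [178], [86, 107]⟩,
  ⟨22, [167], [56, 131]⟩,
  ⟨92, [8], [18, 130]⟩,
  ⟨39, [164], [52, 118]⟩,
  ⟨62, [174], [27, 108]⟩,
  ⟨22, [166], [63, 132]⟩,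
  ⟨55, [167], [47, 112]⟩,
  ⟨22, [185], [25, 137]⟩,
  ⟨62, [173], [27, 114]⟩,
  ⟨62, [208], [33, 113]⟩,
  ⟨67, [182], [25, 110]⟩,
  ⟨4, [212], [61, 104]⟩,
  ⟨114, [171], [46, 112]⟩,
  ⟨39, [253], [9, 127]⟩,
  ⟨69, [165], [59, 115]⟩,
  ⟨21, [177], [94, 144]⟩,
  ⟨21, [200], [94, 135]⟩,
  ⟨83, [216], [20, 103]⟩,
  ⟨62, [187], [34, 106]⟩,
  ⟨67, [6], [5, 104]⟩,
  ⟨67, [174], [75, 123]⟩,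
  ⟨22, [181], [45, 139]⟩,
  ⟨62, [164], [90, 114]⟩,
  ⟨39, [212], [54, 120]⟩,
  ⟨55, [179], [24, 117]⟩,
  ⟨100, [7], [85, 142]⟩,
  ⟨38, [188], [83, 141]⟩,
  ⟨92, [216], [22, 99]⟩,
  ⟨115, [166], [76, 101]⟩,
  ⟨92, [225], [14, 107]⟩,
  ⟨69, [179], [4, 104]⟩,
  ⟨39, [228], [60, 106]⟩,
  ⟨83, [214], [59, 103]⟩,
  ⟨4, [243], [7, 104]⟩,
  ⟨38, [171], [50, 143]⟩,
  ⟨68, [197], [64, 133]⟩,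
  ⟨39, [252], [32, 99]⟩,
  ⟨69, [170], [83, 141]⟩,
  ⟨83, [173], [9, 118]⟩,
  ⟨92, [219], [61, 116]⟩,
  ⟨4, [175], [90, 141]⟩,
  ⟨106, [168], [49, 123]⟩,
  ⟨106, [166], [80, 109]⟩,
  ⟨55, [168], [46, 129]⟩,
  ⟨4, [166], [67, 117]⟩,
  ⟨62, [188], [88, 111]⟩,
  ⟨92, [181], [15, 112]⟩,
  ⟨62, [223], [27, 126]⟩,
  ⟨114, [179], [90, 102]⟩,
  ⟨21, [8], [82, 126]⟩,
  ⟨21, [211], [24, 100]⟩,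
  ⟨39, [237], [29, 133]⟩,
  ⟨21, [170], [15, 115]⟩,
  ⟨69, [190], [8, 105]⟩,
  ⟨83, [232], [25, 119]⟩,
  ⟨62, [224], [96, 117]⟩,
  ⟨62, [204], [70, 143]⟩,
  ⟨4, [169], [25, 112]⟩,
  ⟨106, [189], [87, 103]⟩,
  ⟨39, [6], [59, 111]⟩,
  ⟨22, [203], [74, 127]⟩,
  ⟨62, [253], [70, 136]⟩,
  ⟨92, [169], [11, 125]⟩,
  ⟨39, [175], [66, 134]⟩,
  ⟨39, [221], [24, 114]⟩,
  ⟨39, [213], [48, 118]⟩,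
  ⟨92, [199], [47, 130]⟩,
  ⟨39, [193], [20, 104]⟩,
  ⟨38, [179], [12, 144]⟩,
  ⟨68, [186], [38, 134]⟩,
  ⟨92, [182], [30, 142]⟩,
  ⟨38, [7], [15, 104]⟩,
  ⟨68, [169], [38, 134]⟩,
  ⟨39, [170], [79, 124]⟩,
  ⟨115, [177], [96, 138]⟩,
  ⟨114, [174], [14, 138]⟩,
  ⟨69, [167], [19, 136]⟩,
  ⟨4, [239], [31, 135]⟩,
  ⟨114, [208], [21, 105]⟩,
  ⟨39, [199], [26, 100]⟩,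
  ⟨114, [212], [75, 121]⟩,
  ⟨38, [186], [20, 100]⟩,
  ⟨38, [183], [10, 126]⟩,
  ⟨55, [169], [51, 102]⟩,
  ⟨4, [252], [28, 111]⟩,
  ⟨39, [206], [91, 142]⟩,
  ⟨4, [240], [55, 140]⟩,
  ⟨24, [8], [89, 103]⟩,
  ⟨39, [202], [38, 139]⟩,
  ⟨115, [180], [81, 141]⟩,
  ⟨39, [174], [66, 133]⟩,
  ⟨39, [211], [68, 103]⟩,
  ⟨69, [203], [57, 137]⟩,
  ⟨92, [168], [77, 129]⟩,
  ⟨100, [6], [65, 141]⟩,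
  ⟨114, [197], [46, 116]⟩,
  ⟨115, [6], [74, 112]⟩,
  ⟨39, [167], [71, 133]⟩,
  ⟨83, [168], [83, 133]⟩,
  ⟨39, [210], [6, 130]⟩,
  ⟨69, [182], [37, 126]⟩,
  ⟨62, [7], [85, 137]⟩,
  ⟨69, [6], [63, 142]⟩,
  ⟨68, [166], [93, 114]⟩,
  ⟨69, [183], [39, 108]⟩,
  ⟨22, [193], [77, 130]⟩,
  ⟨114, [167], [55, 135]⟩,
  ⟨92, [229], [83, 117]⟩,
  ⟨39, [204], [46, 134]⟩,
  ⟨62, [248], [28, 119]⟩,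
  ⟨4, [227], [35, 127]⟩,
  ⟨4, [230], [97, 126]⟩,
  ⟨4, [234], [68, 126]⟩,
  ⟨4, [167], [14, 117]⟩,
  ⟨4, [236], [86, 129]⟩,
  ⟨115, [164], [77, 116]⟩,
  ⟨100, [], [36, 134]⟩,
  ⟨22, [172], [76, 130]⟩,
  ⟨4, [208], [22]⟩,
  ⟨55, [8], [45, 144]⟩,
  ⟨114, [235], [9, 145]⟩,
  ⟨24, [167], [23, 105]⟩,
  ⟨22, [191], [13, 133]⟩,
  ⟨22, [170], [17, 108]⟩,
  ⟨92, [179], [90, 114]⟩,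
  ⟨62, [179], [52, 100]⟩,
  ⟨55, [], [45, 126]⟩,
  ⟨92, [175], [14, 117]⟩,
  ⟨4, [184], [54, 127]⟩,
  ⟨32, [], [55, 142]⟩,
  ⟨24, [], [9, 119]⟩,
  ⟨62, [185], [65, 109]⟩,
  ⟨114, [196], [34, 116]⟩,
  ⟨68, [168], [48, 103]⟩,
  ⟨92, [188], [55, 104]⟩,
  ⟨83, [236], [85, 113]⟩,
  ⟨92, [207], [83, 124]⟩,
  ⟨8, [167], [97, 110]⟩,
  ⟨39, [176], [52, 117]⟩,
  ⟨4, [170], [79, 103]⟩,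
  ⟨4, [255], [21, 136]⟩,
  ⟨39, [194], [9, 125]⟩,
  ⟨39, [188], [69, 134]⟩,
  ⟨100, [183], [50, 120]⟩,
  ⟨21, [6], [25, 128]⟩,
  ⟨69, [166], [58, 127]⟩,
  ⟨22, [208], [47, 145]⟩,
  ⟨39, [218], [10, 136]⟩,
  ⟨39, [181], [9, 113]⟩,
  ⟨39, [214], [32, 139]⟩,
  ⟨22, [183], [7, 125]⟩,
  ⟨106, [], [11, 132]⟩,
  ⟨114, [164], [25, 141]⟩,
  ⟨39, [249], [43, 132]⟩,
  ⟨39, [250], [72, 116]⟩,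
  ⟨68, [183], [63, 142]⟩,
  ⟨92, [189], [56, 135]⟩,
  ⟨4, [211], [95, 139]⟩,
  ⟨39, [190], [95, 101]⟩,
  ⟨39, [226], [65, 133]⟩,
  ⟨22, [217], [42, 129]⟩,
  ⟨106, [167], [51, 102]⟩,
  ⟨4, [223], [89, 131]⟩,
  ⟨106, [171], [45, 126]⟩,
  ⟨4, [182], [27, 135]⟩,
  ⟨92, [193], [28, 136]⟩,
  ⟨39, [247], [25]⟩,
  ⟨55, [186], [37, 103]⟩,
  ⟨22, [189], [58, 127]⟩,
  ⟨38, [6], [27, 130]⟩,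
  ⟨69, [7], [85, 115]⟩,
  ⟨21, [191], [76, 110]⟩,
  ⟨69, [8], [75, 136]⟩,
  ⟨83, [179], [19, 125]⟩,
  ⟨68, [185], [41, 124]⟩,
  ⟨114, [169], [22, 124]⟩,
  ⟨39, [229], [23, 135]⟩,
  ⟨4, [186], [44, 117]⟩,
  ⟨4, [254], [33, 102]⟩,
  ⟨83, [174], [84, 114]⟩,
  ⟨4, [7], [46, 126]⟩,
  ⟨4, [224], [6, 139]⟩,
  ⟨39, [219], [31, 128]⟩,
  ⟨21, [167], [70, 103]⟩,
  ⟨92, [248], [58, 112]⟩,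
  ⟨55, [7], [4, 128]⟩,
  ⟨4, [207], [93, 119]⟩,
  ⟨106, [186], [74, 136]⟩,
  ⟨22, [240], [96, 127]⟩,
  ⟨62, [197], [55, 125]⟩,
  ⟨38, [189], [88, 100]⟩,
  ⟨38, [199], [31, 101]⟩,
  ⟨21, [196], [19, 104]⟩,
  ⟨4, [238], [47, 141]⟩,
  ⟨39, [169], [32, 133]⟩,
  ⟨4, [222], [36, 126]⟩,
  ⟨100, [181], [31, 121]⟩,
  ⟨21, [176], [64, 115]⟩,
  ⟨68, [170], [73, 110]⟩,
  ⟨68, [8], [73, 110]⟩,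
  ⟨69, [177], [12, 111]⟩,
  ⟨39, [198], [41, 113]⟩,
  ⟨39, [203], [59, 124]⟩,
  ⟨22, [171], [21, 129]⟩,
  ⟨55, [183], [96, 126]⟩,
  ⟨83, [175], [91, 131]⟩,
  ⟨115, [7], [35, 112]⟩,
  ⟨62, [196], [72, 138]⟩,
  ⟨92, [251], [83, 130]⟩,
  ⟨4, [251], [27, 99]⟩,
  ⟨39, [8], [83, 118]⟩,
  ⟨83, [182], [31, 127]⟩,
  ⟨62, [190], [53, 106]⟩,
  ⟨8, [6], [12, 103]⟩,
  ⟨39, [209], [60, 101]⟩,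
  ⟨92, [167], [61, 109]⟩,
  ⟨39, [192], [16, 119]⟩,
  ⟨22, [210], [65, 139]⟩,
  ⟨4, [216], [74, 132]⟩,
  ⟨4, [245], [78, 110]⟩,
  ⟨67, [181], [27, 128]⟩,
  ⟨4, [217], [29, 106]⟩,
  ⟨92, [165], [74, 127]⟩,
  ⟨114, [190], [71, 137]⟩,
  ⟨114, [170], [53, 141]⟩,
  ⟨114, [8], [62, 107]⟩,
  ⟨39, [184], [58]⟩,
  ⟨69, [181], [54, 128]⟩,
  ⟨62, [175], [59, 109]⟩,
  ⟨92, [174], [31, 143]⟩,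
  ⟨83, [202], [79, 108]⟩]

/-- The uses of identities at base point 2, a part. -/
def certCover2Part2 : List (Hop) := [
  ⟨115, [165], [8, 116]⟩,
  ⟨62, [169], [23, 106]⟩,
  ⟨92, [164], [117]⟩,
  ⟨39, [231], [67, 99]⟩,
  ⟨55, [213], [13, 99]⟩,
  ⟨62, [233], [92, 134]⟩,
  ⟨115, [169], [75, 143]⟩,
  ⟨62, [8], [8, 118]⟩,
  ⟨39, [243], [10, 124]⟩,
  ⟨62, [203], [81, 123]⟩,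
  ⟨22, [8], [63, 133]⟩,
  ⟨69, [208], [92, 143]⟩,
  ⟨4, [191], [66, 126]⟩,
  ⟨39, [186], [29, 119]⟩,
  ⟨55, [180], [25, 113]⟩,
  ⟨4, [244], [69, 145]⟩,
  ⟨62, [186], [39, 139]⟩,
  ⟨39, [185], [65, 106]⟩,
  ⟨114, [195], [86, 114]⟩,
  ⟨4, [168], [24, 112]⟩,
  ⟨38, [164], [41, 136]⟩,
  ⟨22, [], [31, 104]⟩,
  ⟨21, [166], [43, 112]⟩,
  ⟨62, [167], [8, 105]⟩,
  ⟨114, [201], [18, 142]⟩,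
  ⟨22, [200], [18, 107]⟩,
  ⟨22, [180], [61]⟩,
  ⟨114, [173], [30, 114]⟩,
  ⟨21, [165], [86, 144]⟩,
  ⟨4, [241], [84, 138]⟩]

/-- The uses of identities at base point 2. -/
def certCover2 : List (Hop) := certCover2Part0 ++ certCover2Part1 ++ certCover2Part2

/-- The uses of identities at base point 3, a part. -/
def certCover3Part0 : List (Hop) := [
  ⟨10, [], []⟩,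
  ⟨71, [258], [11, 132]⟩,
  ⟨35, [], [89, 135]⟩,
  ⟨31, [9], [52, 145]⟩,
  ⟨89, [274], [46, 108]⟩,
  ⟨71, [], [65, 114]⟩,
  ⟨41, [286], [21, 133]⟩,
  ⟨87, [270], [86, 129]⟩,
  ⟨40, [282], [77, 138]⟩,
  ⟨102, [275], [8, 101]⟩,
  ⟨43, [275], [8, 125]⟩,
  ⟨72, [], [79, 142]⟩,
  ⟨35, [258], [82, 138]⟩,
  ⟨41, [263], [62, 111]⟩,
  ⟨87, [], [68, 121]⟩,
  ⟨50, [258], [82, 142]⟩,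
  ⟨45, [9], [64, 129]⟩,
  ⟨102, [277], [17, 135]⟩,
  ⟨43, [9], [17, 127]⟩,
  ⟨46, [270], [50, 99]⟩,
  ⟨89, [11], [47, 102]⟩,
  ⟨63, [9], [95, 105]⟩,
  ⟨85, [272], [66, 107]⟩,
  ⟨63, [263], [10, 103]⟩,
  ⟨45, [284], [31, 113]⟩,
  ⟨93, [259], [92, 102]⟩,
  ⟨63, [265], [25, 134]⟩,
  ⟨90, [282], [27, 119]⟩,
  ⟨46, [276], [72, 141]⟩,
  ⟨90, [274], [8, 99]⟩,
  ⟨45, [276], [76, 130]⟩,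
  ⟨50, [261], [30, 101]⟩,
  ⟨18, [9], [7, 112]⟩,
  ⟨89, [259], [125]⟩,
  ⟨87, [257], [54, 143]⟩,
  ⟨50, [271], [43, 130]⟩,
  ⟨49, [259], [46, 123]⟩,
  ⟨41, [282], [17, 129]⟩,
  ⟨41, [262], [21, 138]⟩,
  ⟨46, [275], [31, 125]⟩,
  ⟨41, [267], [17, 129]⟩,
  ⟨41, [10], [83, 121]⟩,
  ⟨85, [], [72, 104]⟩,
  ⟨45, [], [61, 138]⟩,
  ⟨45, [279], [13, 132]⟩,
  ⟨48, [265], [82, 100]⟩,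
  ⟨50, [257], [17]⟩,
  ⟨113, [], [33, 116]⟩,
  ⟨5, [], []⟩,
  ⟨50, [278], [43, 139]⟩,
  ⟨46, [264], [96, 134]⟩,
  ⟨49, [10], [75, 118]⟩,
  ⟨46, [277], [68, 102]⟩,
  ⟨93, [9], [39, 119]⟩,
  ⟨89, [260], [23, 125]⟩,
  ⟨40, [263], [51, 135]⟩,
  ⟨40, [281], [58, 104]⟩,
  ⟨54, [270], [76, 105]⟩,
  ⟨40, [286], [51, 135]⟩,
  ⟨40, [262], [39, 132]⟩,
  ⟨49, [278], [27, 123]⟩,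
  ⟨103, [269], [10, 103]⟩,
  ⟨93, [276], [65, 142]⟩,
  ⟨50, [268], [53, 120]⟩,
  ⟨43, [265], [8, 125]⟩,
  ⟨45, [256], [30, 129]⟩,
  ⟨35, [260], [22, 126]⟩,
  ⟨72, [11], [49, 135]⟩,
  ⟨54, [10], [56, 125]⟩,
  ⟨48, [270], [50, 145]⟩,
  ⟨46, [285], [47, 99]⟩,
  ⟨103, [9], [43, 118]⟩,
  ⟨82, [284], [46, 100]⟩,
  ⟨102, [265], [8, 101]⟩,
  ⟨71, [260], [51, 145]⟩,
  ⟨90, [272], [35, 135]⟩,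
  ⟨45, [266], [16, 106]⟩,
  ⟨102, [282], [66, 116]⟩,
  ⟨60, [256], [82, 115]⟩,
  ⟨85, [261], [48, 133]⟩,
  ⟨48, [279], [88, 144]⟩,
  ⟨54, [263], [52, 132]⟩,
  ⟨60, [], [21, 127]⟩,
  ⟨41, [277], [49, 101]⟩,
  ⟨54, [265], [49, 107]⟩,
  ⟨101, [260], [56, 110]⟩,
  ⟨43, [287], [39, 115]⟩,
  ⟨48, [266], [95, 115]⟩,
  ⟨105, [269], [72, 129]⟩,
  ⟨87, [258], [29, 128]⟩,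
  ⟨40, [267], [40, 105]⟩,
  ⟨91, [258], [30, 129]⟩,
  ⟨41, [268], [5, 113]⟩,
  ⟨93, [268], [35, 132]⟩,
  ⟨41, [281], [32, 123]⟩,
  ⟨101, [271], [28, 114]⟩,
  ⟨45, [285], [31, 141]⟩,
  ⟨45, [273], [73, 128]⟩,
  ⟨85, [278], [59, 112]⟩,
  ⟨91, [281], [34, 135]⟩,
  ⟨48, [272], [87, 127]⟩,
  ⟨82, [278], [81, 131]⟩,
  ⟨72, [260], [32]⟩,
  ⟨46, [269], [29, 121]⟩,
  ⟨46, [256], [38, 105]⟩,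
  ⟨40, [], [81, 105]⟩,
  ⟨54, [11], [95, 134]⟩,
  ⟨82, [273], [65, 114]⟩,
  ⟨45, [283], [66, 138]⟩,
  ⟨103, [261], [65, 140]⟩,
  ⟨93, [11], [48, 122]⟩,
  ⟨43, [266], [11, 139]⟩,
  ⟨49, [256], [25, 135]⟩,
  ⟨45, [286], [26, 113]⟩,
  ⟨48, [285], [68, 134]⟩,
  ⟨49, [270], [79, 111]⟩,
  ⟨91, [261], [37, 137]⟩,
  ⟨40, [285], [91, 127]⟩,
  ⟨43, [277], [17, 127]⟩,
  ⟨101, [274], [34, 131]⟩,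
  ⟨31, [10], [28, 113]⟩,
  ⟨101, [258], [31, 126]⟩,
  ⟨101, [268], [91, 106]⟩,
  ⟨91, [272], [13, 107]⟩,
  ⟨98, [11], [22, 109]⟩,
  ⟨45, [261], [71, 136]⟩,
  ⟨102, [9], [17, 135]⟩,
  ⟨60, [9], [98, 108]⟩,
  ⟨18, [10], [47, 118]⟩,
  ⟨60, [258], [38, 138]⟩,
  ⟨85, [269], [59, 114]⟩,
  ⟨90, [], [45, 121]⟩,
  ⟨82, [270], [60, 120]⟩,
  ⟨103, [257], [97, 110]⟩,
  ⟨45, [10], [44, 118]⟩,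
  ⟨56, [258], [24, 120]⟩,
  ⟨103, [286], [4, 118]⟩,
  ⟨91, [262], [59, 105]⟩,
  ⟨46, [266], [91, 132]⟩,
  ⟨87, [9], [43, 128]⟩,
  ⟨40, [11], [84, 126]⟩,
  ⟨40, [278], [30, 118]⟩,
  ⟨63, [10], [65, 138]⟩,
  ⟨31, [263], [52, 129]⟩,
  ⟨46, [265], [33, 122]⟩,
  ⟨82, [260], [63, 141]⟩,
  ⟨46, [279], [75, 113]⟩,
  ⟨90, [262], [75, 104]⟩,
  ⟨49, [263], [75, 142]⟩,
  ⟨102, [257], [73, 142]⟩,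
  ⟨89, [276], [75]⟩,
  ⟨18, [263], [90, 114]⟩,
  ⟨93, [257], [86, 138]⟩,
  ⟨101, [259], [21, 131]⟩,
  ⟨45, [257], [86, 104]⟩,
  ⟨45, [278], [41, 101]⟩,
  ⟨103, [262], [22, 123]⟩,
  ⟨85, [286], [19, 110]⟩,
  ⟨85, [10], [84, 142]⟩,
  ⟨85, [257], [59, 113]⟩,
  ⟨93, [282], [69, 141]⟩,
  ⟨102, [], [91, 107]⟩,
  ⟨48, [276], [56, 111]⟩,
  ⟨79, [], [23, 140]⟩,
  ⟨56, [9], [96, 145]⟩,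
  ⟨45, [275], [15, 114]⟩,
  ⟨49, [], [38, 118]⟩,
  ⟨50, [11], [75, 118]⟩,
  ⟨45, [260], [73, 132]⟩,
  ⟨90, [268], [6, 107]⟩,
  ⟨46, [9], [33, 134]⟩,
  ⟨45, [271], [73, 132]⟩,
  ⟨85, [265], [19, 131]⟩,
  ⟨40, [268], [77, 144]⟩,
  ⟨46, [283], [96, 117]⟩,
  ⟨103, [276], [29, 121]⟩,
  ⟨56, [261], [11, 118]⟩,
  ⟨41, [269], [58, 143]⟩,
  ⟨103, [256], [72, 136]⟩,
  ⟨43, [274], [37, 124]⟩,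
  ⟨40, [277], [70, 132]⟩,
  ⟨40, [275], [84, 99]⟩,
  ⟨71, [261], [59, 138]⟩,
  ⟨45, [270], [86, 134]⟩,
  ⟨103, [11], [15, 136]⟩,
  ⟨49, [268], [75, 137]⟩,
  ⟨90, [10], [62, 114]⟩,
  ⟨89, [10], [94, 100]⟩,
  ⟨5, [258], [52, 109]⟩,
  ⟨40, [261], [28, 106]⟩,
  ⟨48, [284], [85, 101]⟩,
  ⟨82, [], [116]⟩,
  ⟨18, [258], [59, 111]⟩,
  ⟨46, [11], [24, 136]⟩,
  ⟨93, [261], [86, 142]⟩,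
  ⟨98, [10], [81, 118]⟩,
  ⟨46, [280], [24, 136]⟩,
  ⟨56, [10], [94, 123]⟩,
  ⟨90, [269], [19, 135]⟩,
  ⟨40, [10], [69, 143]⟩,
  ⟨45, [264], [76, 130]⟩,
  ⟨63, [259], [40, 102]⟩,
  ⟨41, [265], [8, 118]⟩,
  ⟨46, [271], [68, 108]⟩,
  ⟨103, [268], [66, 142]⟩,
  ⟨48, [282], [76, 134]⟩,
  ⟨82, [279], [81, 106]⟩,
  ⟨90, [270], [86, 140]⟩,
  ⟨43, [284], [15, 101]⟩,
  ⟨89, [256], [47, 127]⟩,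
  ⟨40, [279], [23, 116]⟩,
  ⟨43, [], [87, 104]⟩,
  ⟨50, [282], [64, 114]⟩,
  ⟨40, [270], [23, 116]⟩,
  ⟨40, [260], [89, 100]⟩,
  ⟨63, [256], [87, 127]⟩,
  ⟨44, [262], [49, 104]⟩,
  ⟨44, [266], [71, 132]⟩,
  ⟨46, [258], [42, 138]⟩,
  ⟨91, [280], [30, 104]⟩,
  ⟨101, [265], [95, 145]⟩,
  ⟨48, [], [75, 106]⟩,
  ⟨91, [279], [65, 104]⟩,
  ⟨46, [274], [96, 111]⟩,
  ⟨46, [259], [96, 104]⟩,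
  ⟨90, [261], [24, 118]⟩,
  ⟨113, [10], [87, 108]⟩,
  ⟨56, [], [37]⟩,
  ⟨54, [271], [50, 110]⟩,
  ⟨45, [281], [9, 131]⟩,
  ⟨54, [], [78, 103]⟩,
  ⟨45, [269], [66, 99]⟩,
  ⟨46, [263], [64, 100]⟩,
  ⟨93, [271], [41, 104]⟩,
  ⟨50, [256], [96, 145]⟩,
  ⟨5, [11], [38, 117]⟩,
  ⟨79, [10], [4, 122]⟩,
  ⟨103, [280], [6, 115]⟩,
  ⟨43, [283], [39, 138]⟩,
  ⟨93, [265], [46, 121]⟩,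
  ⟨93, [270], [65, 135]⟩,
  ⟨43, [281], [36]⟩,
  ⟨93, [], [76, 128]⟩,
  ⟨85, [268], [82, 112]⟩,
  ⟨102, [285], [53, 132]⟩,
  ⟨48, [268], [52, 142]⟩,
  ⟨41, [287], [57, 145]⟩,
  ⟨49, [282], [39, 144]⟩,
  ⟨89, [278], [98, 143]⟩,
  ⟨90, [9], [37, 117]⟩,
  ⟨93, [274], [81, 110]⟩,
  ⟨45, [265], [70, 100]⟩,
  ⟨49, [261], [10, 129]⟩,
  ⟨43, [264], [7, 102]⟩,
  ⟨101, [257], [28, 129]⟩,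
  ⟨101, [11], [42, 117]⟩,
  ⟨103, [10], [9, 107]⟩,
  ⟨89, [9], [62, 124]⟩,
  ⟨41, [], [90, 119]⟩,
  ⟨82, [256], [56, 142]⟩,
  ⟨89, [261], [15, 144]⟩,
  ⟨102, [266], [7, 113]⟩,
  ⟨54, [259], [60, 131]⟩,
  ⟨54, [260], [20, 128]⟩,
  ⟨50, [9], [60, 103]⟩,
  ⟨31, [], [88]⟩,
  ⟨45, [272], [61, 138]⟩,
  ⟨87, [261], [84, 103]⟩,
  ⟨43, [270], [73, 132]⟩,
  ⟨102, [272], [97, 112]⟩,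
  ⟨93, [260], [31, 115]⟩,
  ⟨87, [256], [50]⟩,
  ⟨101, [278], [78, 141]⟩,
  ⟨91, [268], [42, 135]⟩,
  ⟨87, [260], [35, 111]⟩,
  ⟨49, [274], [88, 110]⟩,
  ⟨47, [271], [55, 114]⟩,
  ⟨89, [271], [86, 122]⟩,
  ⟨5, [260], [58, 135]⟩,
  ⟨87, [263], [66, 109]⟩,
  ⟨5, [9], [8, 132]⟩,
  ⟨49, [9], [53, 118]⟩,
  ⟨90, [281], [97, 101]⟩,
  ⟨93, [10], [31, 144]⟩,
  ⟨45, [258], [73, 108]⟩,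
  ⟨103, [278], [70, 127]⟩,
  ⟨89, [265], [58, 120]⟩,
  ⟨76, [], [5, 128]⟩,
  ⟨54, [256], [98, 108]⟩,
  ⟨41, [9], [62, 123]⟩,
  ⟨18, [257], [63, 103]⟩,
  ⟨102, [256], [39, 136]⟩,
  ⟨101, [282], [66, 130]⟩,
  ⟨82, [258], [90, 145]⟩,
  ⟨87, [268], [79, 113]⟩,
  ⟨87, [271], [98, 128]⟩,
  ⟨91, [271], [60, 133]⟩,
  ⟨98, [], [55, 119]⟩,
  ⟨46, [268], [57, 142]⟩,
  ⟨47, [268], [40, 135]⟩]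

/-- The uses of identities at base point 3, a part. -/
def certCover3Part1 : List (Hop) := [
  ⟨41, [284], [35, 100]⟩,
  ⟨50, [274], [74, 116]⟩,
  ⟨44, [256], [85, 101]⟩,
  ⟨41, [258], [35, 100]⟩,
  ⟨104, [260], [35, 140]⟩,
  ⟨48, [261], [78, 140]⟩,
  ⟨44, [272], [97, 144]⟩,
  ⟨45, [277], [33, 118]⟩,
  ⟨46, [261], [96, 128]⟩,
  ⟨48, [283], [91, 125]⟩,
  ⟨102, [258], [7, 125]⟩,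
  ⟨54, [278], [50, 143]⟩,
  ⟨54, [264], [96, 100]⟩,
  ⟨90, [11], [32, 138]⟩,
  ⟨40, [272], [62, 122]⟩,
  ⟨82, [281], [25, 123]⟩,
  ⟨91, [10], [72, 105]⟩,
  ⟨46, [287], [75, 128]⟩,
  ⟨54, [257], [76, 143]⟩,
  ⟨101, [10], [4, 144]⟩,
  ⟨45, [263], [18, 119]⟩,
  ⟨91, [269], [94, 142]⟩,
  ⟨45, [274], [48, 120]⟩,
  ⟨60, [263], [96, 129]⟩,
  ⟨85, [11], [13, 106]⟩,
  ⟨82, [282], [82, 135]⟩,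
  ⟨46, [282], [63, 122]⟩,
  ⟨40, [265], [92, 141]⟩,
  ⟨41, [261], [92, 101]⟩,
  ⟨87, [10], [13, 121]⟩,
  ⟨40, [257], [97, 128]⟩,
  ⟨45, [259], [36, 132]⟩,
  ⟨44, [273], [25, 128]⟩,
  ⟨82, [10], [24, 123]⟩,
  ⟨91, [277], [52, 99]⟩,
  ⟨91, [11], [97, 103]⟩,
  ⟨46, [], [14, 141]⟩,
  ⟨90, [259], [83, 110]⟩,
  ⟨90, [284], [78, 109]⟩,
  ⟨101, [], [61, 124]⟩,
  ⟨63, [257], [75, 121]⟩,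
  ⟨41, [280], [19, 137]⟩,
  ⟨41, [273], [4, 118]⟩,
  ⟨54, [9], [21, 115]⟩,
  ⟨82, [272], [42, 131]⟩,
  ⟨102, [262], [4, 129]⟩,
  ⟨72, [9], [87, 119]⟩,
  ⟨43, [282], [49, 118]⟩,
  ⟨48, [257], [93, 130]⟩,
  ⟨46, [286], [64, 103]⟩,
  ⟨43, [261], [5, 140]⟩,
  ⟨82, [271], [88, 124]⟩,
  ⟨60, [11], [36, 122]⟩,
  ⟨103, [271], [28, 122]⟩,
  ⟨43, [286], [49, 127]⟩,
  ⟨101, [276], [80, 100]⟩,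
  ⟨47, [261], [57, 127]⟩,
  ⟨82, [269], [64, 119]⟩,
  ⟨64, [259], [97, 128]⟩,
  ⟨46, [257], [47, 99]⟩,
  ⟨48, [260], [93, 130]⟩,
  ⟨89, [270], [24]⟩,
  ⟨41, [272], [26, 119]⟩,
  ⟨63, [], [12, 105]⟩,
  ⟨48, [273], [65, 137]⟩,
  ⟨46, [262], [88, 142]⟩,
  ⟨48, [278], [65, 137]⟩,
  ⟨85, [276], [68, 114]⟩,
  ⟨18, [], [72, 114]⟩,
  ⟨44, [263], [49, 129]⟩,
  ⟨46, [272], [48, 104]⟩,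
  ⟨103, [281], [44, 109]⟩,
  ⟨43, [268], [70, 142]⟩,
  ⟨90, [280], [61, 116]⟩,
  ⟨48, [256], [94, 133]⟩,
  ⟨50, [276], [92, 137]⟩,
  ⟨91, [], [61, 123]⟩,
  ⟨98, [260], [52, 117]⟩,
  ⟨43, [257], [85, 136]⟩,
  ⟨82, [263], [7, 111]⟩,
  ⟨64, [274], [94, 119]⟩,
  ⟨43, [267], [88, 128]⟩,
  ⟨43, [262], [7, 133]⟩,
  ⟨43, [10], [60, 123]⟩,
  ⟨18, [11], [59, 139]⟩,
  ⟨31, [11], [86, 112]⟩,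
  ⟨102, [286], [49, 135]⟩,
  ⟨43, [263], [68, 127]⟩,
  ⟨82, [257], [65, 143]⟩,
  ⟨82, [285], [58, 121]⟩,
  ⟨72, [256], [34, 121]⟩,
  ⟨54, [262], [85, 120]⟩,
  ⟨46, [284], [74, 115]⟩,
  ⟨50, [263], [58, 123]⟩,
  ⟨41, [257], [8, 140]⟩,
  ⟨91, [9], [61, 116]⟩,
  ⟨91, [267], [51, 104]⟩,
  ⟨45, [280], [26, 99]⟩,
  ⟨85, [280], [85, 114]⟩,
  ⟨82, [259], [26, 136]⟩,
  ⟨102, [11], [83, 119]⟩,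
  ⟨43, [259], [25, 144]⟩,
  ⟨41, [275], [5, 143]⟩,
  ⟨35, [261], [74, 120]⟩,
  ⟨46, [10], [71, 103]⟩,
  ⟨63, [268], [10, 117]⟩,
  ⟨43, [280], [7, 105]⟩,
  ⟨82, [280], [84, 113]⟩,
  ⟨48, [274], [95, 115]⟩,
  ⟨104, [261], [35, 138]⟩,
  ⟨40, [266], [17, 125]⟩,
  ⟨47, [280], [87, 123]⟩,
  ⟨41, [11], [37, 120]⟩,
  ⟨64, [282], [84, 99]⟩,
  ⟨45, [287], [66, 101]⟩,
  ⟨41, [276], [39]⟩,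
  ⟨43, [278], [86, 113]⟩,
  ⟨40, [284], [13, 139]⟩,
  ⟨64, [261], [94, 111]⟩,
  ⟨40, [269], [27, 131]⟩,
  ⟨105, [11], [19, 100]⟩,
  ⟨64, [256], [49, 117]⟩,
  ⟨102, [260], [98, 137]⟩,
  ⟨85, [256], [84, 145]⟩,
  ⟨98, [262], [34, 122]⟩,
  ⟨43, [276], [87, 145]⟩,
  ⟨101, [261], [54, 142]⟩,
  ⟨47, [10], [58, 140]⟩,
  ⟨48, [9], [8, 119]⟩,
  ⟨72, [258], [7, 113]⟩,
  ⟨54, [268], [83]⟩,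
  ⟨85, [281], [12, 139]⟩,
  ⟨93, [258], [76, 103]⟩,
  ⟨102, [10], [57, 123]⟩,
  ⟨49, [271], [13, 123]⟩,
  ⟨47, [], [56, 125]⟩,
  ⟨49, [11], [8, 142]⟩,
  ⟨49, [265], [129]⟩,
  ⟨85, [9], [20, 132]⟩,
  ⟨48, [267], [27, 118]⟩,
  ⟨63, [278], [38, 143]⟩,
  ⟨85, [271], [66, 143]⟩,
  ⟨82, [264], [54, 117]⟩,
  ⟨48, [259], [7, 102]⟩,
  ⟨50, [10], [132]⟩,
  ⟨82, [287], [78, 115]⟩,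
  ⟨40, [9], [75, 109]⟩,
  ⟨63, [11], [66, 131]⟩,
  ⟨50, [270], [40, 125]⟩,
  ⟨46, [267], [75, 130]⟩,
  ⟨45, [262], [64, 115]⟩,
  ⟨50, [265], [65, 139]⟩,
  ⟨89, [258], [16, 133]⟩,
  ⟨43, [279], [54, 142]⟩,
  ⟨82, [268], [43, 103]⟩,
  ⟨41, [260], [86, 114]⟩,
  ⟨43, [269], [5, 121]⟩,
  ⟨48, [286], [60, 119]⟩,
  ⟨48, [258], [50, 126]⟩,
  ⟨102, [281], [92, 103]⟩,
  ⟨43, [271], [90, 145]⟩,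
  ⟨82, [277], [13, 109]⟩,
  ⟨102, [284], [13, 117]⟩,
  ⟨56, [11], [24, 104]⟩,
  ⟨63, [270], [41, 140]⟩,
  ⟨48, [287], [31, 102]⟩,
  ⟨48, [269], [27, 137]⟩,
  ⟨41, [259], [73, 132]⟩,
  ⟨48, [263], [77, 103]⟩,
  ⟨102, [271], [96, 127]⟩,
  ⟨101, [9], [7, 120]⟩,
  ⟨102, [268], [82, 121]⟩,
  ⟨46, [281], [50, 143]⟩,
  ⟨44, [275], [92, 107]⟩,
  ⟨35, [11], [76, 101]⟩,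
  ⟨40, [258], [39, 100]⟩,
  ⟨63, [258], [9, 108]⟩,
  ⟨44, [264], [89, 100]⟩,
  ⟨50, [259], [92, 145]⟩,
  ⟨64, [278], [71, 130]⟩,
  ⟨40, [283], [98, 126]⟩,
  ⟨41, [271], [19, 100]⟩,
  ⟨102, [283], [46, 119]⟩,
  ⟨91, [260], [68, 133]⟩,
  ⟨98, [269], [43, 111]⟩,
  ⟨103, [265], [18, 132]⟩,
  ⟨90, [271], [71, 121]⟩,
  ⟨87, [259], [38, 103]⟩,
  ⟨40, [280], [76, 128]⟩,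
  ⟨102, [278], [19, 142]⟩,
  ⟨43, [272], [83, 118]⟩,
  ⟨82, [267], [53, 107]⟩,
  ⟨103, [], [46, 100]⟩,
  ⟨46, [273], [53, 127]⟩,
  ⟨48, [10], [86, 139]⟩,
  ⟨105, [], [25, 145]⟩,
  ⟨45, [267], [96, 136]⟩,
  ⟨49, [258], [91, 100]⟩,
  ⟨35, [267], [20, 143]⟩,
  ⟨71, [267], [17, 126]⟩,
  ⟨87, [11], [26, 118]⟩,
  ⟨40, [259], [49, 116]⟩,
  ⟨31, [257], [17, 121]⟩,
  ⟨102, [259], [77, 145]⟩,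
  ⟨82, [11], [32, 118]⟩,
  ⟨91, [266], [59, 103]⟩,
  ⟨102, [269], [20, 118]⟩,
  ⟨50, [], [47, 108]⟩,
  ⟨43, [256], [72, 118]⟩,
  ⟨44, [267], [39, 128]⟩,
  ⟨105, [262], [29, 143]⟩,
  ⟨89, [], [91, 126]⟩,
  ⟨82, [261], [42, 116]⟩,
  ⟨64, [265], [62, 123]⟩,
  ⟨64, [270], [62, 116]⟩,
  ⟨31, [258], [59, 112]⟩,
  ⟨64, [257], [28, 112]⟩,
  ⟨102, [280], [28, 140]⟩,
  ⟨63, [262], [10, 109]⟩,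
  ⟨82, [274], [92, 113]⟩,
  ⟨48, [262], [37, 131]⟩,
  ⟨40, [287], [89, 125]⟩,
  ⟨48, [264], [39, 139]⟩,
  ⟨5, [256], [89, 138]⟩,
  ⟨85, [262], [76, 110]⟩,
  ⟨45, [282], [33, 135]⟩,
  ⟨49, [276], [68, 99]⟩,
  ⟨87, [262], [70, 115]⟩,
  ⟨63, [271], [37]⟩,
  ⟨82, [266], [73, 130]⟩,
  ⟨46, [260], [38, 117]⟩,
  ⟨40, [256], [78, 131]⟩,
  ⟨40, [274], [45, 111]⟩,
  ⟨102, [279], [98, 129]⟩,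
  ⟨102, [274], [86, 132]⟩,
  ⟨44, [259], [24, 101]⟩,
  ⟨89, [282], [10, 106]⟩,
  ⟨48, [275], [11]⟩,
  ⟨45, [268], [70, 99]⟩,
  ⟨64, [9], [19, 125]⟩,
  ⟨35, [9], [62, 137]⟩,
  ⟨43, [11], [43, 99]⟩,
  ⟨93, [278], [50, 112]⟩,
  ⟨93, [256], [40, 125]⟩,
  ⟨49, [257], [85, 106]⟩,
  ⟨63, [260], [27, 130]⟩,
  ⟨101, [256], [97, 122]⟩,
  ⟨41, [270], [91, 102]⟩,
  ⟨89, [268], [31, 139]⟩,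
  ⟨104, [], [4, 135]⟩,
  ⟨102, [270], [27, 144]⟩,
  ⟨48, [277], [14, 140]⟩,
  ⟨44, [], [66, 130]⟩,
  ⟨102, [267], [19, 104]⟩,
  ⟨18, [256], [20, 109]⟩,
  ⟨64, [10], [35, 126]⟩,
  ⟨48, [271], [25, 125]⟩,
  ⟨71, [10], [31, 141]⟩,
  ⟨43, [285], [79]⟩,
  ⟨63, [264], [66, 129]⟩,
  ⟨54, [258], [38, 100]⟩,
  ⟨44, [9], [28, 106]⟩,
  ⟨40, [271], [70, 113]⟩,
  ⟨44, [258], [95, 144]⟩,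
  ⟨104, [262], [74, 102]⟩,
  ⟨41, [285], [19, 106]⟩,
  ⟨44, [269], [60, 135]⟩,
  ⟨87, [267], [30, 124]⟩,
  ⟨87, [274], [93, 137]⟩,
  ⟨35, [262], [40, 110]⟩,
  ⟨105, [10], [46, 119]⟩,
  ⟨44, [257], [42, 115]⟩,
  ⟨18, [259], [69, 104]⟩,
  ⟨71, [262], [97, 100]⟩,
  ⟨102, [263], [29, 134]⟩,
  ⟨45, [11], [44, 121]⟩,
  ⟨48, [280], [62, 120]⟩,
  ⟨41, [264], [7, 137]⟩,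
  ⟨41, [256], [69, 120]⟩,
  ⟨82, [276], [77, 120]⟩,
  ⟨89, [257], [97, 138]⟩,
  ⟨87, [265], [50, 105]⟩,
  ⟨102, [261], [77, 104]⟩,
  ⟨64, [271], [40, 105]⟩,
  ⟨46, [278], [18, 105]⟩,
  ⟨64, [260], [69, 143]⟩,
  ⟨90, [256], [86, 105]⟩,
  ⟨64, [11], [71, 103]⟩,
  ⟨41, [283], [72, 128]⟩,
  ⟨82, [286], [51, 131]⟩,
  ⟨44, [10], [51, 100]⟩,
  ⟨102, [287], [129]⟩,
  ⟨82, [283], [83, 106]⟩,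
  ⟨102, [264], [24, 137]⟩,
  ⟨102, [276], [81, 114]⟩,
  ⟨43, [260], [11, 133]⟩,
  ⟨82, [9], [57, 125]⟩,
  ⟨101, [270], [85, 120]⟩,
  ⟨41, [278], [78, 103]⟩,
  ⟨43, [258], [52, 118]⟩]

/-- The uses of identities at base point 3, a part. -/
def certCover3Part2 : List (Hop) := [
  ⟨41, [266], [54, 104]⟩,
  ⟨40, [276], [5, 125]⟩,
  ⟨63, [261], [35, 140]⟩,
  ⟨105, [260], [74, 128]⟩,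
  ⟨104, [11], [82, 136]⟩,
  ⟨48, [11], [27, 133]⟩,
  ⟨41, [274], [31, 125]⟩,
  ⟨40, [273], [91, 145]⟩,
  ⟨82, [262], [54, 134]⟩,
  ⟨43, [273], [23, 135]⟩,
  ⟨103, [272], [30, 101]⟩,
  ⟨31, [256], [94, 111]⟩,
  ⟨44, [11], [27, 111]⟩,
  ⟨44, [260], [89, 130]⟩,
  ⟨104, [10], [14, 142]⟩,
  ⟨64, [276], [89, 136]⟩,
  ⟨40, [264], [61]⟩,
  ⟨64, [268], [74, 123]⟩,
  ⟨102, [273], [9, 109]⟩,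
  ⟨41, [279], [40, 110]⟩,
  ⟨54, [261], [87, 109]⟩,
  ⟨31, [259], [84, 114]⟩,
  ⟨71, [9], [59, 134]⟩,
  ⟨48, [281], [79, 109]⟩,
  ⟨82, [265], [11, 127]⟩,
  ⟨35, [10], [75, 145]⟩,
  ⟨71, [11], [28, 135]⟩,
  ⟨82, [275], [38, 102]⟩,
  ⟨64, [], [77, 123]⟩,
  ⟨64, [258], [80, 134]⟩]

/-- The uses of identities at base point 3. -/
def certCover3 : List (Hop) := certCover3Part0 ++ certCover3Part1 ++ certCover3Part2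

/-- The uses of identities at base point 4, a part. -/
def certCover4Part0 : List (Hop) := [
  ⟨11, [], []⟩,
  ⟨73, [296, 309], [91, 102]⟩,
  ⟨19, [293, 318], [85, 145]⟩,
  ⟨73, [299, 308], [85, 125]⟩,
  ⟨81, [294, 312], [34, 104]⟩,
  ⟨34, [13], [65, 127]⟩,
  ⟨81, [289, 306], [17, 145]⟩,
  ⟨81, [299, 308], [56, 104]⟩,
  ⟨109, [301, 309], [18, 140]⟩,
  ⟨81, [291, 310], [19, 101]⟩,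
  ⟨81, [288, 319], [10, 133]⟩,
  ⟨34, [295, 309], [69, 134]⟩,
  ⟨36, [289], [91, 119]⟩,
  ⟨81, [297, 317], [20, 127]⟩,
  ⟨34, [291, 309], [88, 122]⟩,
  ⟨73, [12], [51, 99]⟩,
  ⟨81, [299, 315], [34, 129]⟩,
  ⟨81, [296, 309], [65, 113]⟩,
  ⟨81, [301, 313], [53, 130]⟩,
  ⟨19, [289, 310], [89, 129]⟩,
  ⟨34, [13, 310], [6, 108]⟩,
  ⟨73, [297, 316], [10, 121]⟩,
  ⟨73, [301, 309], [59, 117]⟩,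
  ⟨81, [295, 311], [49, 135]⟩,
  ⟨80, [297, 317], [48, 123]⟩,
  ⟨19, [288, 311], [56, 141]⟩,
  ⟨81, [294, 308], [49, 135]⟩,
  ⟨81, [302, 311], [6, 125]⟩,
  ⟨80, [300, 306], [93, 121]⟩,
  ⟨117, [288, 318], [8, 129]⟩,
  ⟨117, [12], [10, 119]⟩,
  ⟨36, [317], [51, 105]⟩,
  ⟨36, [], [16, 100]⟩,
  ⟨81, [295, 315], [95, 116]⟩,
  ⟨34, [288, 309], [6, 110]⟩,
  ⟨73, [], [10, 100]⟩,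
  ⟨34, [292], [21, 117]⟩,
  ⟨109, [], [19, 113]⟩,
  ⟨36, [291, 314], [16, 101]⟩,
  ⟨81, [297, 308], [59, 137]⟩,
  ⟨109, [12], [19, 113]⟩,
  ⟨19, [293, 303], [32, 101]⟩,
  ⟨73, [301, 318], [85, 131]⟩,
  ⟨34, [299, 306], [22, 130]⟩,
  ⟨34, [288, 317], [27, 111]⟩,
  ⟨81, [297, 313], [119]⟩,
  ⟨81, [296], [69, 134]⟩,
  ⟨19, [295, 312], [37, 129]⟩,
  ⟨36, [291, 305], [14, 124]⟩,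
  ⟨81, [298], [69, 134]⟩,
  ⟨80, [288, 309], [14, 127]⟩,
  ⟨36, [310], [46, 116]⟩,
  ⟨81, [294, 316], [81, 132]⟩,
  ⟨73, [302, 317], [89, 130]⟩,
  ⟨81, [291], [35, 105]⟩,
  ⟨81, [295, 318], [34, 107]⟩,
  ⟨36, [13, 316], [45, 119]⟩,
  ⟨34, [13, 309], [27, 107]⟩,
  ⟨81, [294, 315], [34, 107]⟩,
  ⟨19, [291, 306], [90, 102]⟩,
  ⟨34, [289, 316], [39, 128]⟩,
  ⟨11, [295, 312], [37, 133]⟩,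
  ⟨80, [12], [98, 120]⟩,
  ⟨19, [288, 303], [79, 99]⟩,
  ⟨81, [291, 319], [10, 133]⟩,
  ⟨36, [294, 303], [21, 100]⟩,
  ⟨34, [], [79, 137]⟩,
  ⟨36, [290, 310], [87]⟩,
  ⟨81, [302, 303], [81, 110]⟩,
  ⟨19, [13, 307], [68, 132]⟩,
  ⟨73, [13, 315], [74, 104]⟩,
  ⟨73, [290, 310], [87, 119]⟩,
  ⟨34, [304], [46, 142]⟩,
  ⟨81, [289, 303], [77, 132]⟩,
  ⟨19, [288, 319], [17, 123]⟩,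
  ⟨34, [290, 318], [54, 133]⟩,
  ⟨34, [12, 319], [80, 140]⟩,
  ⟨36, [316], [63, 137]⟩,
  ⟨19, [293, 309], [91, 101]⟩,
  ⟨81, [13, 311], [39, 112]⟩,
  ⟨19, [293, 304], [30, 108]⟩,
  ⟨81, [296, 318], [89, 116]⟩,
  ⟨73, [12, 314], [45, 117]⟩,
  ⟨73, [292, 304], [57, 130]⟩,
  ⟨81, [298, 318], [89, 116]⟩,
  ⟨80, [301, 309], [11, 131]⟩,
  ⟨36, [291, 317], [31, 99]⟩,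
  ⟨81, [302, 312], [9, 119]⟩,
  ⟨117, [299, 319], [15, 141]⟩,
  ⟨81, [302, 318], [47, 100]⟩,
  ⟨109, [293, 316], [34, 109]⟩,
  ⟨81, [302, 317], [24, 138]⟩,
  ⟨36, [288, 314], [84, 121]⟩,
  ⟨73, [295, 311], [24, 122]⟩,
  ⟨19, [297, 303], [83, 107]⟩,
  ⟨80, [300, 316], [31, 126]⟩,
  ⟨34, [292, 316], [14, 142]⟩,
  ⟨36, [306], [40, 105]⟩,
  ⟨73, [294], [50, 102]⟩,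
  ⟨80, [302], [5, 141]⟩,
  ⟨36, [293, 312], [68, 136]⟩,
  ⟨19, [294, 315], [83, 117]⟩,
  ⟨34, [294, 306], [10, 116]⟩,
  ⟨73, [288, 314], [14, 145]⟩,
  ⟨73, [315], [87, 126]⟩,
  ⟨81, [296, 315], [77, 101]⟩,
  ⟨34, [313], [55, 117]⟩,
  ⟨19, [295, 318], [22, 100]⟩,
  ⟨36, [295, 306], [60, 132]⟩,
  ⟨11, [294, 309], [87, 129]⟩,
  ⟨80, [], [34, 122]⟩,
  ⟨73, [288, 303], [44, 100]⟩,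
  ⟨36, [12, 304], [30, 107]⟩,
  ⟨57, [291, 314], [56, 116]⟩,
  ⟨34, [292, 313], [55, 107]⟩,
  ⟨36, [304], [30, 107]⟩,
  ⟨36, [288, 311], [42, 120]⟩,
  ⟨81, [293, 316], [68, 110]⟩,
  ⟨81, [301, 304], [53, 130]⟩,
  ⟨81, [291, 306], [21, 114]⟩,
  ⟨19, [294, 312], [5, 104]⟩,
  ⟨80, [13, 310], [16, 122]⟩,
  ⟨19, [294], [59, 103]⟩,
  ⟨57, [289, 316], [80, 119]⟩,
  ⟨80, [288, 314], [52, 104]⟩,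
  ⟨34, [293, 306], [53, 104]⟩,
  ⟨81, [298, 309], [65, 113]⟩,
  ⟨73, [302], [70, 122]⟩,
  ⟨34, [289], [83, 108]⟩,
  ⟨19, [297, 309], [54, 126]⟩,
  ⟨81, [290, 311], [16, 144]⟩,
  ⟨34, [13, 318], [82, 140]⟩,
  ⟨73, [295, 313], [35, 141]⟩,
  ⟨19, [297, 307], [25, 109]⟩,
  ⟨109, [290, 310], [71, 105]⟩,
  ⟨81, [288, 304], [75, 106]⟩,
  ⟨19, [293, 307], [25, 109]⟩,
  ⟨34, [289, 309], [47, 140]⟩,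
  ⟨73, [298, 314], [13, 140]⟩,
  ⟨81, [291, 318], [12, 105]⟩,
  ⟨19, [294, 313], [75, 128]⟩,
  ⟨109, [295, 305], [130]⟩,
  ⟨73, [293, 316], [10, 121]⟩,
  ⟨36, [13], [10, 100]⟩,
  ⟨81, [293, 308], [84, 106]⟩,
  ⟨36, [292], [90, 128]⟩,
  ⟨19, [292, 313], [95, 138]⟩,
  ⟨57, [294, 309], [23, 143]⟩,
  ⟨80, [289, 316], [36, 108]⟩,
  ⟨34, [295, 319], [44, 115]⟩,
  ⟨34, [290, 310], [6, 108]⟩,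
  ⟨73, [296], [79, 108]⟩,
  ⟨73, [289, 314], [48, 139]⟩,
  ⟨81, [288, 306], [40, 131]⟩,
  ⟨34, [289, 313], [108]⟩,
  ⟨36, [12, 306], [74, 129]⟩,
  ⟨80, [300, 314], [57, 127]⟩,
  ⟨19, [293, 313], [37, 137]⟩,
  ⟨19, [290, 310], [59, 118]⟩,
  ⟨19, [297, 313], [37, 137]⟩,
  ⟨117, [291], [69, 109]⟩,
  ⟨34, [295, 318], [66, 130]⟩,
  ⟨34, [295, 308], [68, 133]⟩,
  ⟨36, [291, 309], [68, 124]⟩,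
  ⟨19, [12, 316], [52, 112]⟩,
  ⟨81, [299, 309], [23, 112]⟩,
  ⟨34, [291, 314], [25, 131]⟩,
  ⟨81, [304], [54]⟩,
  ⟨80, [295, 311], [46, 137]⟩,
  ⟨57, [295, 312], [84, 115]⟩,
  ⟨81, [295], [14, 139]⟩,
  ⟨80, [302, 307], [49, 119]⟩,
  ⟨73, [292, 318], [24, 99]⟩,
  ⟨19, [288, 306], [75, 133]⟩,
  ⟨73, [12, 315], [72]⟩,
  ⟨81, [12, 311], [19, 144]⟩,
  ⟨19, [316], [94, 130]⟩,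
  ⟨81, [], [95, 132]⟩,
  ⟨81, [311], [19, 144]⟩,
  ⟨73, [291, 303], [81, 119]⟩,
  ⟨34, [12, 310], [79, 127]⟩,
  ⟨73, [288, 318], [27, 114]⟩,
  ⟨36, [13, 303], [8, 119]⟩,
  ⟨34, [291, 317], [82, 104]⟩,
  ⟨109, [13, 316], [33, 123]⟩,
  ⟨36, [12, 310], [75, 144]⟩,
  ⟨109, [293, 309], [44, 144]⟩,
  ⟨36, [297, 317], [9]⟩,
  ⟨36, [288, 305], [52, 144]⟩,
  ⟨81, [302, 304], [11, 128]⟩,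
  ⟨81, [300, 316], [98, 115]⟩,
  ⟨81, [299, 310], [86, 108]⟩,
  ⟨36, [293, 318], [94]⟩,
  ⟨80, [301, 303], [43, 100]⟩,
  ⟨73, [290, 314], [93, 142]⟩,
  ⟨34, [293, 312], [29, 101]⟩,
  ⟨80, [310], [60]⟩,
  ⟨73, [298, 304], [74, 99]⟩,
  ⟨80, [13, 318], [40, 136]⟩,
  ⟨36, [290, 316], [56, 135]⟩,
  ⟨117, [], [10, 119]⟩,
  ⟨109, [297, 308], [50, 124]⟩,
  ⟨34, [295, 304], [60, 122]⟩,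
  ⟨80, [289, 310], [43, 128]⟩,
  ⟨80, [294], [77, 115]⟩,
  ⟨19, [311], [41, 140]⟩,
  ⟨73, [294, 310], [51, 141]⟩,
  ⟨117, [291, 318], [8, 129]⟩,
  ⟨81, [301, 318], [7]⟩,
  ⟨81, [293, 303], [80, 111]⟩,
  ⟨81, [294, 306], [50, 130]⟩,
  ⟨73, [294, 309], [96, 118]⟩,
  ⟨81, [12, 304], [79, 137]⟩,
  ⟨81, [295, 309], [50, 130]⟩,
  ⟨36, [288, 308], [98, 144]⟩,
  ⟨81, [298, 311], [11, 125]⟩,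
  ⟨109, [294, 315], [40]⟩,
  ⟨81, [292, 313], [79, 115]⟩,
  ⟨117, [292], [6, 119]⟩,
  ⟨36, [291], [28, 99]⟩,
  ⟨73, [302, 311], [28, 121]⟩,
  ⟨36, [13, 315], [32, 116]⟩,
  ⟨81, [299], [35, 138]⟩,
  ⟨73, [302, 303], [16, 109]⟩,
  ⟨19, [291, 315], [27, 137]⟩,
  ⟨80, [290, 318], [91, 118]⟩,
  ⟨19, [294, 309], [37, 99]⟩,
  ⟨81, [291, 304], [14, 137]⟩,
  ⟨36, [297, 309], [45, 132]⟩,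
  ⟨109, [13, 310], [20, 115]⟩,
  ⟨36, [312], [139]⟩,
  ⟨34, [294, 304], [60, 140]⟩,
  ⟨11, [316], [40, 132]⟩,
  ⟨80, [289], [98, 145]⟩,
  ⟨19, [289, 311], [66, 111]⟩,
  ⟨81, [296, 312], [55, 136]⟩,
  ⟨36, [288, 309], [29, 106]⟩,
  ⟨109, [288, 317], [72, 136]⟩,
  ⟨34, [12, 306], [29, 129]⟩,
  ⟨19, [288, 317], [97, 136]⟩,
  ⟨73, [298, 318], [76, 102]⟩,
  ⟨81, [290, 319], [32]⟩,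
  ⟨19, [291, 317], [97, 136]⟩,
  ⟨19, [290, 319], [38, 115]⟩,
  ⟨34, [13, 312], [51, 108]⟩,
  ⟨109, [290, 311], [30, 119]⟩,
  ⟨81, [288, 315], [17, 130]⟩,
  ⟨80, [292], [20, 106]⟩,
  ⟨36, [299, 306], [24, 113]⟩,
  ⟨81, [299, 313], [85, 122]⟩,
  ⟨19, [291, 311], [57, 107]⟩,
  ⟨81, [302], [54]⟩,
  ⟨34, [288, 314], [53, 121]⟩,
  ⟨81, [290, 315], [50, 124]⟩,
  ⟨19, [295, 304], [92, 141]⟩,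
  ⟨11, [289, 316], [26, 125]⟩,
  ⟨19, [290, 316], [85, 110]⟩,
  ⟨36, [292, 316], [50, 128]⟩,
  ⟨81, [315], [38, 99]⟩,
  ⟨19, [297, 305], [89, 133]⟩,
  ⟨81, [297, 303], [30, 123]⟩,
  ⟨34, [289, 306], [18, 99]⟩,
  ⟨36, [297, 305], [15, 111]⟩,
  ⟨36, [293, 309], [63, 112]⟩,
  ⟨36, [13, 307], [45, 129]⟩,
  ⟨34, [288, 319], [80, 140]⟩,
  ⟨34, [297, 317], [48, 130]⟩,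
  ⟨36, [293, 306], [97, 109]⟩,
  ⟨34, [291], [29, 136]⟩,
  ⟨34, [294, 315], [44, 133]⟩,
  ⟨80, [294, 310], [111]⟩,
  ⟨109, [300, 316], [74, 119]⟩,
  ⟨19, [310], [70, 118]⟩,
  ⟨34, [288, 306], [48, 131]⟩,
  ⟨109, [289], [29, 129]⟩,
  ⟨36, [295, 304], [48, 120]⟩,
  ⟨73, [300, 306], [84, 125]⟩,
  ⟨81, [13, 318], [69, 102]⟩,
  ⟨34, [288, 308], [45, 116]⟩,
  ⟨36, [294, 304], [30, 107]⟩,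
  ⟨34, [293, 310], [58, 116]⟩,
  ⟨34, [290, 316], [79, 102]⟩,
  ⟨109, [13, 314], [43, 113]⟩,
  ⟨19, [289, 312], [9, 131]⟩,
  ⟨80, [298, 314], [36, 99]⟩,
  ⟨117, [294, 313], [22, 127]⟩,
  ⟨19, [288, 304], [58, 120]⟩,
  ⟨57, [], [28, 115]⟩,
  ⟨34, [294, 309], [40, 141]⟩,
  ⟨73, [289], [41, 102]⟩,
  ⟨19, [293, 316], [42, 103]⟩,
  ⟨73, [12, 318], [96, 107]⟩,
  ⟨80, [290, 310], [49, 122]⟩,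
  ⟨34, [12, 304], [14, 142]⟩,
  ⟨19, [289, 308], [69, 143]⟩,
  ⟨109, [292, 304], [44, 143]⟩,
  ⟨81, [296, 314], [12, 117]⟩,
  ⟨36, [292, 313], [77, 105]⟩,
  ⟨109, [289, 316], [55, 143]⟩,
  ⟨80, [13], [26, 125]⟩]

/-- The uses of identities at base point 4, a part. -/
def certCover4Part1 : List (Hop) := [
  ⟨73, [291, 304], [92, 135]⟩,
  ⟨34, [294, 303], [11, 99]⟩,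
  ⟨81, [291, 311], [21, 144]⟩,
  ⟨73, [288, 304], [92, 135]⟩,
  ⟨81, [13, 312], [34, 130]⟩,
  ⟨81, [288, 303], [8, 112]⟩,
  ⟨81, [295, 304], [87, 107]⟩,
  ⟨81, [302, 307], [24, 145]⟩,
  ⟨73, [291, 314], [22, 113]⟩,
  ⟨81, [318], [58, 110]⟩,
  ⟨81, [300, 310], [39, 127]⟩,
  ⟨36, [295, 308], [49]⟩,
  ⟨36, [13, 306], [89, 122]⟩,
  ⟨36, [297, 303], [38, 125]⟩,
  ⟨81, [298, 315], [33, 138]⟩,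
  ⟨36, [295, 312], [98, 111]⟩,
  ⟨80, [299, 309], [52, 107]⟩,
  ⟨19, [288, 315], [40, 108]⟩,
  ⟨34, [295, 312], [11, 117]⟩,
  ⟨19, [12, 310], [56, 134]⟩,
  ⟨57, [288, 314], [17, 111]⟩,
  ⟨36, [291, 311], [125]⟩,
  ⟨34, [293, 315], [91, 109]⟩,
  ⟨73, [314], [82, 145]⟩,
  ⟨109, [294, 309], [65, 130]⟩,
  ⟨109, [292, 318], [22, 142]⟩,
  ⟨11, [288, 314], [51, 106]⟩,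
  ⟨73, [291, 318], [56, 115]⟩,
  ⟨81, [12], [64, 133]⟩,
  ⟨109, [315], [29, 112]⟩,
  ⟨81, [297, 316], [87, 117]⟩,
  ⟨34, [317], [48, 125]⟩,
  ⟨81, [12, 314], [76, 101]⟩,
  ⟨36, [294, 309], [14, 144]⟩,
  ⟨80, [294, 309], [52, 141]⟩,
  ⟨36, [302], [49, 142]⟩,
  ⟨73, [302, 305], [87, 105]⟩,
  ⟨36, [295, 319], [7, 133]⟩,
  ⟨36, [13, 312], [39, 143]⟩,
  ⟨73, [299, 313], [12, 142]⟩,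
  ⟨81, [296, 311], [6, 128]⟩,
  ⟨36, [289, 318], [6, 117]⟩,
  ⟨109, [299, 319], [24, 138]⟩,
  ⟨81, [299, 311], [81, 110]⟩,
  ⟨81, [302, 308], [65, 112]⟩,
  ⟨81, [12, 306], [31, 131]⟩,
  ⟨36, [13, 310], [87]⟩,
  ⟨19, [294, 316], [87, 138]⟩,
  ⟨34, [289, 310], [58, 108]⟩,
  ⟨11, [12, 316], [40, 115]⟩,
  ⟨73, [295, 305], [47, 118]⟩,
  ⟨36, [289, 316], [130]⟩,
  ⟨73, [300, 316], [56, 118]⟩,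
  ⟨73, [13, 310], [87, 119]⟩,
  ⟨19, [13, 306], [34, 121]⟩,
  ⟨11, [292], [11, 130]⟩,
  ⟨80, [290], [95, 125]⟩,
  ⟨81, [295, 316], [44, 140]⟩,
  ⟨80, [298, 309], [34, 114]⟩,
  ⟨73, [290, 315], [74, 104]⟩,
  ⟨81, [293, 318], [22, 128]⟩,
  ⟨36, [289, 313], [48, 109]⟩,
  ⟨81, [12, 315], [40, 111]⟩,
  ⟨109, [293, 308], [73, 135]⟩,
  ⟨73, [290], [42, 117]⟩,
  ⟨109, [292], [31, 135]⟩,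
  ⟨73, [13], [42, 117]⟩,
  ⟨81, [293, 304], [9, 136]⟩,
  ⟨19, [], [33, 121]⟩,
  ⟨80, [291, 304], [67, 102]⟩,
  ⟨73, [300, 319], [30, 111]⟩,
  ⟨19, [13, 316], [4, 122]⟩,
  ⟨109, [13], [57, 123]⟩,
  ⟨36, [293, 303], [67]⟩,
  ⟨81, [12, 318], [98, 105]⟩,
  ⟨81, [291, 314], [7, 108]⟩,
  ⟨57, [292], [55, 116]⟩,
  ⟨80, [291, 314], [15, 109]⟩,
  ⟨73, [292, 314], [74, 115]⟩,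
  ⟨81, [289, 308], [20, 141]⟩,
  ⟨80, [296, 309], [4, 123]⟩,
  ⟨19, [289, 307], [70, 134]⟩,
  ⟨109, [290], [50, 136]⟩,
  ⟨81, [13, 319], [54, 141]⟩,
  ⟨34, [303], [38, 123]⟩,
  ⟨19, [288, 318], [55, 138]⟩,
  ⟨36, [295, 309], [70, 138]⟩,
  ⟨19, [290, 306], [57, 131]⟩,
  ⟨81, [303], [49, 123]⟩,
  ⟨81, [297, 314], [81, 132]⟩,
  ⟨34, [316], [87, 108]⟩,
  ⟨109, [288, 311], [78, 129]⟩,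
  ⟨117, [289, 316], [37, 140]⟩,
  ⟨81, [288, 314], [47, 122]⟩,
  ⟨81, [300, 311], [65, 145]⟩,
  ⟨80, [295, 312], [29, 106]⟩,
  ⟨36, [296, 316], [27, 143]⟩,
  ⟨80, [302, 315], [13, 137]⟩,
  ⟨109, [316], [70, 99]⟩,
  ⟨73, [295, 316], [87, 135]⟩,
  ⟨109, [297, 312], [45, 107]⟩,
  ⟨36, [288, 317], [63, 101]⟩,
  ⟨34, [294], [55, 105]⟩,
  ⟨73, [296, 303], [80, 113]⟩,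
  ⟨81, [294, 319], [24, 140]⟩,
  ⟨109, [288, 318], [29, 121]⟩,
  ⟨81, [292], [58, 128]⟩,
  ⟨81, [300, 317], [68, 137]⟩,
  ⟨81, [299, 319], [9, 119]⟩,
  ⟨80, [298], [44, 137]⟩,
  ⟨81, [293, 312], [69, 99]⟩,
  ⟨19, [12, 318], [18, 135]⟩,
  ⟨36, [291, 313], [55, 141]⟩,
  ⟨81, [290, 310], [91, 140]⟩,
  ⟨34, [13, 307], [34, 99]⟩,
  ⟨34, [293, 309], [85, 117]⟩,
  ⟨36, [289, 309], [20, 134]⟩,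
  ⟨34, [291, 305], [26, 105]⟩,
  ⟨80, [294, 319], [83, 102]⟩,
  ⟨81, [299, 312], [83, 130]⟩,
  ⟨81, [293, 309], [63, 126]⟩,
  ⟨80, [295, 305], [74, 144]⟩,
  ⟨81, [291, 317], [12, 99]⟩,
  ⟨81, [297, 304], [23, 143]⟩,
  ⟨34, [13, 315], [91, 126]⟩,
  ⟨81, [13, 315], [52, 121]⟩,
  ⟨81, [292, 314], [15, 99]⟩,
  ⟨19, [294, 303], [26, 141]⟩,
  ⟨81, [294, 309], [88, 145]⟩,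
  ⟨34, [12, 316], [42, 137]⟩,
  ⟨109, [289, 310], [26, 127]⟩,
  ⟨19, [13, 310], [20, 114]⟩,
  ⟨117, [289, 308], [111]⟩,
  ⟨109, [296], [87, 140]⟩,
  ⟨117, [295, 305], [30, 114]⟩,
  ⟨73, [301, 313], [82, 100]⟩,
  ⟨117, [311], [34, 105]⟩,
  ⟨34, [13, 316], [58, 137]⟩,
  ⟨73, [294, 306], [77, 131]⟩,
  ⟨19, [12, 311], [79, 133]⟩,
  ⟨19, [291], [59, 142]⟩,
  ⟨73, [295, 309], [77, 131]⟩,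
  ⟨109, [288, 314], [47, 136]⟩,
  ⟨109, [294, 306], [72, 99]⟩,
  ⟨34, [295, 306], [62, 135]⟩,
  ⟨73, [294, 313], [61, 121]⟩,
  ⟨34, [310], [86, 137]⟩,
  ⟨19, [291, 314], [44, 144]⟩,
  ⟨81, [13, 306], [25, 128]⟩,
  ⟨11, [291, 314], [94, 102]⟩,
  ⟨81, [298, 304], [44, 143]⟩,
  ⟨19, [13, 315], [52, 108]⟩,
  ⟨81, [302, 314], [59, 108]⟩,
  ⟨34, [302], [91, 130]⟩,
  ⟨109, [292, 314], [63, 109]⟩,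
  ⟨19, [294, 306], [52, 121]⟩,
  ⟨73, [294, 319], [47, 132]⟩,
  ⟨73, [13, 311], [37]⟩,
  ⟨81, [300, 307], [41, 128]⟩,
  ⟨109, [294, 310], [5, 129]⟩,
  ⟨109, [311], [47, 122]⟩,
  ⟨34, [312], [17, 138]⟩,
  ⟨81, [300], [42, 142]⟩,
  ⟨73, [302, 307], [17, 138]⟩,
  ⟨19, [288, 314], [85, 122]⟩,
  ⟨109, [295, 309], [52]⟩,
  ⟨81, [291, 303], [38, 141]⟩,
  ⟨81, [291, 315], [33, 120]⟩,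
  ⟨73, [290, 311], [95, 108]⟩,
  ⟨81, [288, 317], [25, 134]⟩,
  ⟨19, [294, 307], [55, 101]⟩,
  ⟨81, [294, 311], [17, 127]⟩,
  ⟨81, [295, 305], [22, 121]⟩,
  ⟨81, [288, 311], [52, 133]⟩,
  ⟨19, [289], [59, 105]⟩,
  ⟨34, [288, 305], [87, 117]⟩,
  ⟨34, [297, 303], [8, 100]⟩,
  ⟨80, [290, 311], [60, 127]⟩,
  ⟨19, [291, 303], [98, 103]⟩,
  ⟨117, [302, 311], [63, 121]⟩,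
  ⟨81, [295, 313], [28, 128]⟩,
  ⟨19, [295, 309], [66, 131]⟩,
  ⟨73, [288, 306], [17, 103]⟩,
  ⟨81, [298, 314], [7, 144]⟩,
  ⟨36, [289, 310], [27, 113]⟩,
  ⟨117, [295, 316], [73, 124]⟩,
  ⟨36, [294, 315], [14, 113]⟩,
  ⟨81, [288, 318], [14, 133]⟩,
  ⟨19, [295, 316], [64, 143]⟩,
  ⟨19, [12, 304], [31, 125]⟩,
  ⟨73, [295, 312], [19]⟩,
  ⟨109, [289, 315], [16, 118]⟩,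
  ⟨19, [292], [51, 114]⟩,
  ⟨73, [300, 312], [27, 121]⟩,
  ⟨81, [289], [14, 107]⟩,
  ⟨117, [302, 312], [59, 142]⟩,
  ⟨57, [12, 316], [62, 109]⟩,
  ⟨80, [315], [83, 130]⟩,
  ⟨73, [299, 319], [84, 132]⟩,
  ⟨36, [288, 319], [88, 139]⟩,
  ⟨73, [297, 308], [54, 100]⟩,
  ⟨81, [297, 305], [88, 136]⟩,
  ⟨34, [13, 303], [68, 125]⟩,
  ⟨19, [315], [23, 112]⟩,
  ⟨81, [300, 308], [87, 142]⟩,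
  ⟨36, [289, 306], [44, 108]⟩,
  ⟨34, [291, 311], [81, 121]⟩,
  ⟨81, [290, 306], [23, 113]⟩,
  ⟨34, [306], [89, 119]⟩,
  ⟨117, [296], [65, 124]⟩,
  ⟨80, [293, 303], [27, 127]⟩,
  ⟨19, [293, 312], [91, 131]⟩,
  ⟨81, [294, 313], [57, 120]⟩,
  ⟨80, [294, 315], [53, 121]⟩,
  ⟨80, [296, 317], [12, 111]⟩,
  ⟨73, [299, 312], [11, 119]⟩,
  ⟨80, [292, 314], [33, 112]⟩,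
  ⟨109, [293, 312], [50, 139]⟩,
  ⟨109, [291, 318], [29, 126]⟩,
  ⟨109, [291, 304], [75, 100]⟩,
  ⟨109, [13, 311], [87]⟩,
  ⟨81, [293, 305], [50, 102]⟩,
  ⟨34, [13, 306], [79, 102]⟩,
  ⟨81, [298, 312], [6, 119]⟩,
  ⟨19, [13, 319], [12, 143]⟩,
  ⟨57, [316], [61, 143]⟩,
  ⟨80, [293, 312], [67, 142]⟩,
  ⟨19, [292, 311], [24, 133]⟩,
  ⟨36, [290, 318], [6, 101]⟩,
  ⟨109, [288, 304], [29, 110]⟩,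
  ⟨80, [301, 313], [22, 128]⟩,
  ⟨81, [294, 310], [70, 103]⟩,
  ⟨81, [297, 312], [31, 101]⟩,
  ⟨73, [12, 311], [44, 115]⟩,
  ⟨34, [296, 316], [16, 127]⟩,
  ⟨109, [291], [69, 125]⟩,
  ⟨81, [301, 315], [64, 112]⟩,
  ⟨81, [293, 313], [22, 125]⟩,
  ⟨81, [296, 304], [18, 138]⟩,
  ⟨80, [288, 306], [49, 116]⟩,
  ⟨36, [303], [50, 135]⟩,
  ⟨81, [289, 316], [38, 132]⟩,
  ⟨19, [292, 315], [104]⟩,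
  ⟨73, [13, 314], [83, 137]⟩,
  ⟨36, [294], [95, 125]⟩,
  ⟨36, [13, 318], [81, 123]⟩,
  ⟨81, [289, 311], [16, 118]⟩,
  ⟨81, [302, 316], [38, 130]⟩,
  ⟨73, [12, 304], [54, 115]⟩,
  ⟨81, [290, 312], [50, 132]⟩,
  ⟨73, [311], [10, 113]⟩,
  ⟨81, [295, 312], [37, 134]⟩,
  ⟨81, [294], [14, 121]⟩,
  ⟨36, [12, 316], [58, 122]⟩,
  ⟨19, [294, 310], [88, 139]⟩,
  ⟨117, [299, 313], [77, 102]⟩,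
  ⟨81, [297, 318], [56, 138]⟩,
  ⟨19, [13], [88, 132]⟩,
  ⟨73, [289, 311], [50, 136]⟩,
  ⟨19, [13, 304], [86, 141]⟩,
  ⟨34, [289, 318], [10, 117]⟩,
  ⟨81, [292, 315], [68, 115]⟩,
  ⟨36, [293, 310], [73, 106]⟩,
  ⟨80, [288, 305], [53, 99]⟩,
  ⟨80, [296], [12, 144]⟩,
  ⟨81, [300, 319], [79, 118]⟩,
  ⟨81, [289, 312], [36, 103]⟩,
  ⟨36, [12, 319], [81, 141]⟩,
  ⟨36, [293, 315], [11, 123]⟩,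
  ⟨73, [296, 311], [28, 117]⟩,
  ⟨80, [304], [17, 134]⟩,
  ⟨81, [294, 303], [96, 105]⟩,
  ⟨73, [296, 315], [29, 119]⟩,
  ⟨36, [289, 303], [91, 141]⟩,
  ⟨36, [294, 306], [83, 128]⟩,
  ⟨80, [288, 317], [41, 117]⟩,
  ⟨36, [13, 309], [51, 145]⟩,
  ⟨34, [297, 309], [49, 140]⟩,
  ⟨81, [300, 312], [77, 121]⟩,
  ⟨109, [291, 314], [13, 141]⟩,
  ⟨73, [304], [23, 122]⟩,
  ⟨73, [293, 308], [50, 129]⟩,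
  ⟨34, [288, 311], [37]⟩,
  ⟨109, [289, 308], [10, 112]⟩,
  ⟨73, [301, 307], [73, 144]⟩,
  ⟨109, [288, 303], [90, 137]⟩,
  ⟨36, [295, 318], [62, 135]⟩,
  ⟨81, [312], [4, 107]⟩,
  ⟨81, [300, 303], [89, 105]⟩,
  ⟨81, [292, 311], [53, 113]⟩,
  ⟨81, [289, 310], [88, 109]⟩,
  ⟨19, [13, 311], [74, 107]⟩,
  ⟨19, [293, 305], [50, 128]⟩,
  ⟨81, [290], [55, 102]⟩,
  ⟨81, [13], [72, 111]⟩,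
  ⟨109, [12, 311], [98, 143]⟩,
  ⟨34, [297, 305], [12, 133]⟩,
  ⟨19, [12, 314], [80, 119]⟩,
  ⟨109, [13, 315], [8, 116]⟩,
  ⟨81, [301, 309], [60, 116]⟩]

/-- The uses of identities at base point 4, a part. -/
def certCover4Part2 : List (Hop) := [
  ⟨81, [301, 305], [91, 136]⟩,
  ⟨73, [288, 317], [85, 141]⟩,
  ⟨34, [293, 303], [77]⟩,
  ⟨81, [297, 309], [77, 127]⟩,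
  ⟨109, [294, 313], [35, 116]⟩,
  ⟨36, [313], [60, 104]⟩,
  ⟨81, [301, 314], [46, 134]⟩,
  ⟨109, [294, 319], [50, 121]⟩,
  ⟨109, [289, 311], [69, 134]⟩,
  ⟨36, [288, 306], [44, 123]⟩,
  ⟨19, [289, 316], [14, 128]⟩,
  ⟨34, [289, 303], [14, 142]⟩,
  ⟨117, [298], [52]⟩,
  ⟨80, [299, 318], [94, 122]⟩,
  ⟨109, [304], [86, 121]⟩,
  ⟨81, [295, 308], [84, 112]⟩,
  ⟨73, [291, 317], [59, 99]⟩,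
  ⟨80, [297, 308], [18, 105]⟩,
  ⟨19, [304], [84, 123]⟩,
  ⟨81, [301, 307], [91, 118]⟩,
  ⟨34, [291, 313], [78, 132]⟩,
  ⟨36, [294, 312], [37, 138]⟩,
  ⟨73, [296, 313], [56, 118]⟩,
  ⟨81, [292, 304], [46, 108]⟩,
  ⟨81, [289, 315], [23, 142]⟩,
  ⟨34, [293, 318], [17, 101]⟩,
  ⟨34, [294, 312], [78, 106]⟩,
  ⟨81, [292, 318], [65, 127]⟩,
  ⟨80, [299, 308], [71, 140]⟩,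
  ⟨81, [13, 310], [88, 136]⟩]

/-- The uses of identities at base point 4. -/
def certCover4 : List (Hop) := certCover4Part0 ++ certCover4Part1 ++ certCover4Part2

/-- The uses of identities at base point 5, a part. -/
def certCover5Part0 : List (Hop) := [
  ⟨20, [], []⟩,
  ⟨75, [], [68, 100]⟩,
  ⟨61, [362], [23]⟩,
  ⟨112, [341], [71, 99]⟩,
  ⟨107, [341], [22, 126]⟩,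
  ⟨86, [370], [80, 114]⟩,
  ⟨112, [328], [86, 132]⟩,
  ⟨88, [338], [43, 128]⟩,
  ⟨27, [326], [95, 138]⟩,
  ⟨27, [331], [70, 119]⟩,
  ⟨111, [19], [16, 102]⟩,
  ⟨107, [343], [61, 141]⟩,
  ⟨70, [336], [83, 114]⟩,
  ⟨88, [321], [79, 99]⟩,
  ⟨88, [367], [26, 136]⟩,
  ⟨27, [345], [91, 138]⟩,
  ⟨111, [339], [55]⟩,
  ⟨61, [17], [92, 131]⟩,
  ⟨116, [372], [4, 119]⟩,
  ⟨108, [323], [130]⟩,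
  ⟨116, [18], [67, 103]⟩,
  ⟨112, [322], [13, 137]⟩,
  ⟨88, [353], [51, 115]⟩,
  ⟨20, [321], [8, 137]⟩,
  ⟨96, [339], [67, 113]⟩,
  ⟨107, [346], [66, 131]⟩,
  ⟨70, [329], [34, 132]⟩,
  ⟨61, [321], [66, 100]⟩,
  ⟨86, [369], [66, 138]⟩,
  ⟨61, [357], [54, 111]⟩,
  ⟨99, [], [144]⟩,
  ⟨97, [328], [89, 138]⟩,
  ⟨86, [372], [8, 126]⟩,
  ⟨116, [326], [23, 145]⟩,
  ⟨26, [338], [20, 144]⟩,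
  ⟨111, [364], [66, 101]⟩,
  ⟨86, [338], [17, 120]⟩,
  ⟨94, [17], [84, 113]⟩,
  ⟨70, [367], [33]⟩,
  ⟨27, [324], [43, 108]⟩,
  ⟨116, [340], [25, 142]⟩,
  ⟨61, [336], [79, 135]⟩,
  ⟨84, [361], [57, 117]⟩,
  ⟨27, [327], [12, 108]⟩,
  ⟨88, [351], [77, 133]⟩,
  ⟨26, [335], [89, 103]⟩,
  ⟨27, [333], [86, 133]⟩,
  ⟨70, [321], [81, 118]⟩,
  ⟨96, [325], [21, 99]⟩,
  ⟨107, [347], [38, 101]⟩,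
  ⟨94, [321], [38, 104]⟩,
  ⟨107, [370], [70, 140]⟩,
  ⟨27, [329], [67, 130]⟩,
  ⟨26, [358], [12, 118]⟩,
  ⟨75, [345], [73, 143]⟩,
  ⟨26, [346], [79, 106]⟩,
  ⟨86, [336], [12, 119]⟩,
  ⟨70, [344], [59, 124]⟩,
  ⟨20, [324], [15, 122]⟩,
  ⟨88, [369], [35, 136]⟩,
  ⟨26, [324], [83, 116]⟩,
  ⟨84, [325], [47, 126]⟩,
  ⟨116, [338], [78, 106]⟩,
  ⟨110, [], [14, 107]⟩,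
  ⟨86, [17], [18, 102]⟩,
  ⟨108, [], [16, 102]⟩,
  ⟨26, [356], [16, 102]⟩,
  ⟨111, [324], [36, 143]⟩,
  ⟨86, [364], [67, 145]⟩,
  ⟨20, [359], [72, 114]⟩,
  ⟨107, [344], [96, 114]⟩,
  ⟨61, [344], [34, 116]⟩,
  ⟨70, [326], [38, 143]⟩,
  ⟨88, [346], [11, 107]⟩,
  ⟨61, [372], [112]⟩,
  ⟨70, [17], [11, 145]⟩,
  ⟨107, [], [40, 144]⟩,
  ⟨112, [], [27, 113]⟩,
  ⟨111, [325], [81, 114]⟩,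
  ⟨20, [338], [25, 145]⟩,
  ⟨61, [350], [27, 144]⟩,
  ⟨61, [343], [97, 127]⟩,
  ⟨88, [325], [17, 113]⟩,
  ⟨116, [], [85, 130]⟩,
  ⟨86, [329], [19, 138]⟩,
  ⟨27, [346], [70, 140]⟩,
  ⟨111, [], [72, 124]⟩,
  ⟨96, [], [68, 116]⟩,
  ⟨111, [321], [60, 124]⟩,
  ⟨84, [321], [45, 128]⟩,
  ⟨96, [330], [46, 113]⟩,
  ⟨107, [326], [13, 136]⟩,
  ⟨20, [330], [13, 119]⟩,
  ⟨112, [352], [66, 144]⟩,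
  ⟨20, [336], [21, 138]⟩,
  ⟨70, [356], [52, 129]⟩,
  ⟨112, [334], [73, 101]⟩,
  ⟨112, [365], [73, 125]⟩,
  ⟨61, [331], [76, 100]⟩,
  ⟨116, [341], [65, 122]⟩,
  ⟨88, [334], [15, 125]⟩,
  ⟨111, [328], [28, 111]⟩,
  ⟨61, [352], [80, 117]⟩,
  ⟨96, [332], [10, 115]⟩,
  ⟨111, [335], [7, 102]⟩,
  ⟨61, [366], [47, 115]⟩,
  ⟨20, [346], [8, 145]⟩,
  ⟨27, [18], [66, 141]⟩,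
  ⟨111, [338], [6, 104]⟩,
  ⟨116, [323], [90, 137]⟩,
  ⟨88, [17], [91, 141]⟩,
  ⟨61, [322], [4, 123]⟩,
  ⟨96, [348], [85, 110]⟩,
  ⟨108, [339], [35, 142]⟩,
  ⟨107, [320], [60, 127]⟩,
  ⟨88, [19], [31, 128]⟩,
  ⟨110, [18], [77, 105]⟩,
  ⟨70, [322], [81, 99]⟩,
  ⟨20, [356], [52, 119]⟩,
  ⟨107, [331], [49, 124]⟩,
  ⟨84, [], [65, 107]⟩,
  ⟨88, [], [94, 145]⟩,
  ⟨84, [326], [45, 144]⟩,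
  ⟨86, [326], [98, 141]⟩,
  ⟨27, [338], [57, 120]⟩,
  ⟨26, [19], [45, 144]⟩,
  ⟨110, [320], [89, 129]⟩,
  ⟨107, [18], [65, 144]⟩,
  ⟨95, [322], [77, 103]⟩,
  ⟨110, [334], [39, 129]⟩,
  ⟨61, [364], [93, 120]⟩,
  ⟨86, [344], [63, 102]⟩,
  ⟨84, [344], [32, 122]⟩,
  ⟨112, [340], [10, 110]⟩,
  ⟨96, [347], [95, 141]⟩,
  ⟨107, [356], [29, 136]⟩,
  ⟨20, [334], [23, 129]⟩,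
  ⟨26, [343], [62, 104]⟩,
  ⟨26, [323], [88, 122]⟩,
  ⟨88, [333], [83, 132]⟩,
  ⟨108, [324], [18, 127]⟩,
  ⟨96, [328], [8, 114]⟩,
  ⟨20, [327], [88, 125]⟩,
  ⟨86, [362], [55, 110]⟩,
  ⟨110, [321], [96, 145]⟩,
  ⟨116, [335], [40, 143]⟩,
  ⟨110, [332], [19, 127]⟩,
  ⟨27, [332], [22, 122]⟩,
  ⟨20, [320], [77, 114]⟩,
  ⟨86, [322], [92, 107]⟩,
  ⟨110, [358], [57, 139]⟩,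
  ⟨61, [370], [16, 111]⟩,
  ⟨61, [338], [40, 128]⟩,
  ⟨110, [19], [66]⟩,
  ⟨61, [367], [72, 133]⟩,
  ⟨110, [346], [67, 110]⟩,
  ⟨108, [333], [59, 107]⟩,
  ⟨111, [357], [97, 111]⟩,
  ⟨88, [370], [75, 111]⟩,
  ⟨107, [17], [44, 115]⟩,
  ⟨110, [326], [9, 106]⟩,
  ⟨27, [344], [54, 99]⟩,
  ⟨108, [355], [21, 113]⟩,
  ⟨84, [18], [4, 143]⟩,
  ⟨94, [326], [43, 139]⟩,
  ⟨116, [328], [48, 130]⟩,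
  ⟨112, [347], [59, 100]⟩,
  ⟨95, [329], [63, 117]⟩,
  ⟨86, [342], [6, 118]⟩,
  ⟨70, [331], [22, 102]⟩,
  ⟨26, [325], [83, 109]⟩,
  ⟨116, [324], [5, 130]⟩,
  ⟨107, [340], [32, 104]⟩,
  ⟨84, [19], [55, 124]⟩,
  ⟨20, [369], [12, 106]⟩,
  ⟨86, [321], [49, 136]⟩,
  ⟨96, [370], [13, 142]⟩,
  ⟨108, [18], [52, 110]⟩,
  ⟨70, [320], [79, 135]⟩,
  ⟨61, [365], [8, 145]⟩,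
  ⟨20, [374], [85, 117]⟩,
  ⟨96, [368], [82, 106]⟩,
  ⟨20, [372], [42, 107]⟩,
  ⟨110, [357], [22, 134]⟩,
  ⟨75, [18], [33, 121]⟩,
  ⟨61, [374], [24, 108]⟩,
  ⟨95, [19], [4, 133]⟩,
  ⟨96, [362], [87, 121]⟩,
  ⟨94, [349], [91, 113]⟩,
  ⟨108, [338], [86, 108]⟩,
  ⟨112, [332], [37, 137]⟩,
  ⟨61, [327], [49, 133]⟩,
  ⟨70, [], [86, 105]⟩,
  ⟨27, [367], [64, 137]⟩,
  ⟨96, [367], [64, 136]⟩,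
  ⟨88, [354], [86, 117]⟩,
  ⟨61, [342], [38, 125]⟩,
  ⟨86, [368], [22, 115]⟩,
  ⟨20, [364], [28, 142]⟩,
  ⟨88, [323], [69, 138]⟩,
  ⟨61, [337], [87, 109]⟩,
  ⟨70, [359], [93, 106]⟩,
  ⟨94, [343], [86, 117]⟩,
  ⟨96, [326], [57, 143]⟩,
  ⟨88, [365], [51, 134]⟩,
  ⟨84, [329], [31]⟩,
  ⟨20, [344], [33, 132]⟩,
  ⟨84, [338], [36, 107]⟩,
  ⟨110, [17], [100]⟩,
  ⟨94, [323], [63, 115]⟩,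
  ⟨94, [324], [84, 123]⟩,
  ⟨84, [340], [94, 119]⟩,
  ⟨20, [352], [88, 119]⟩,
  ⟨94, [347], [71, 101]⟩,
  ⟨20, [354], [81, 105]⟩,
  ⟨75, [334], [70, 112]⟩,
  ⟨26, [372], [62, 129]⟩,
  ⟨88, [357], [44, 128]⟩,
  ⟨97, [], [9, 130]⟩,
  ⟨110, [368], [73, 142]⟩,
  ⟨108, [348], [20]⟩,
  ⟨86, [350], [32, 137]⟩,
  ⟨111, [320], [43, 116]⟩,
  ⟨86, [367], [91, 115]⟩,
  ⟨111, [347], [51, 129]⟩,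
  ⟨108, [337], [57, 109]⟩,
  ⟨88, [374], [90, 136]⟩,
  ⟨94, [320], [74, 105]⟩,
  ⟨20, [328], [40, 112]⟩,
  ⟨26, [326], [72, 131]⟩,
  ⟨112, [359], [29, 122]⟩,
  ⟨75, [17], [4, 106]⟩,
  ⟨61, [361], [88, 132]⟩,
  ⟨84, [346], [6, 133]⟩,
  ⟨61, [330], [49, 115]⟩,
  ⟨107, [328], [10, 137]⟩,
  ⟨20, [332], [91, 107]⟩,
  ⟨26, [17], [43, 125]⟩,
  ⟨97, [322], [53, 123]⟩,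
  ⟨20, [326], [58, 116]⟩,
  ⟨108, [363], [55, 143]⟩,
  ⟨88, [342], [23, 105]⟩,
  ⟨94, [344], [12, 100]⟩,
  ⟨88, [330], [61, 127]⟩,
  ⟨86, [365], [89]⟩,
  ⟨86, [18], [80, 131]⟩,
  ⟨27, [320], [15, 110]⟩,
  ⟨27, [343], [35, 124]⟩,
  ⟨111, [327], [50, 106]⟩,
  ⟨84, [324], [44, 142]⟩,
  ⟨86, [374], [21, 134]⟩,
  ⟨112, [19], [70, 140]⟩,
  ⟨108, [334], [32, 117]⟩,
  ⟨27, [323], [96, 99]⟩,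
  ⟨111, [343], [18, 118]⟩,
  ⟨61, [326], [54, 132]⟩,
  ⟨95, [18], [64, 131]⟩,
  ⟨86, [330], [34, 133]⟩,
  ⟨86, [19], [17, 112]⟩,
  ⟨20, [331], [86, 141]⟩,
  ⟨116, [344], [72, 107]⟩,
  ⟨107, [349], [18, 135]⟩,
  ⟨20, [351], [76, 141]⟩,
  ⟨94, [334], [47, 132]⟩,
  ⟨110, [330], [58, 142]⟩,
  ⟨20, [373], [70, 112]⟩,
  ⟨94, [338], [63, 114]⟩,
  ⟨70, [346], [34, 111]⟩,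
  ⟨110, [340], [40, 101]⟩,
  ⟨26, [333], [4, 145]⟩,
  ⟨61, [333], [52, 129]⟩,
  ⟨84, [363], [6, 134]⟩,
  ⟨111, [332], [31, 130]⟩,
  ⟨108, [352], [40, 127]⟩,
  ⟨20, [18], [54, 112]⟩,
  ⟨96, [340], [18, 129]⟩,
  ⟨20, [329], [74, 116]⟩,
  ⟨88, [366], [81, 111]⟩,
  ⟨88, [344], [20, 111]⟩,
  ⟨70, [332], [51, 115]⟩,
  ⟨61, [368], [36, 109]⟩,
  ⟨95, [325], [33, 100]⟩,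
  ⟨112, [337], [51, 129]⟩,
  ⟨88, [373], [89, 119]⟩,
  ⟨61, [369], [57, 139]⟩,
  ⟨86, [357], [52, 121]⟩,
  ⟨99, [328], [114]⟩,
  ⟨88, [320], [46, 108]⟩,
  ⟨107, [19], [85, 112]⟩,
  ⟨88, [355], [50, 131]⟩,
  ⟨88, [348], [21, 118]⟩,
  ⟨20, [361], [8, 105]⟩,
  ⟨27, [19], [11, 139]⟩,
  ⟨88, [327], [11, 114]⟩,
  ⟨96, [18], [85, 141]⟩,
  ⟨86, [360], [94, 123]⟩,
  ⟨88, [18], [6, 99]⟩,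
  ⟨108, [332], [26, 143]⟩,
  ⟨94, [360], [55, 108]⟩,
  ⟨116, [349], [45, 108]⟩]

/-- The uses of identities at base point 5, a part. -/
def certCover5Part1 : List (Hop) := [
  ⟨26, [349], [98, 118]⟩,
  ⟨86, [340], [61, 119]⟩,
  ⟨96, [357], [82, 100]⟩,
  ⟨96, [349], [33, 140]⟩,
  ⟨70, [325], [50, 127]⟩,
  ⟨110, [370], [79, 141]⟩,
  ⟨26, [361], [64, 99]⟩,
  ⟨116, [358], [28, 127]⟩,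
  ⟨116, [17], [5, 137]⟩,
  ⟨112, [355], [83, 102]⟩,
  ⟨116, [343], [35, 99]⟩,
  ⟨107, [367], [14, 144]⟩,
  ⟨110, [343], [48, 103]⟩,
  ⟨75, [327], [8, 120]⟩,
  ⟨61, [19], [30, 134]⟩,
  ⟨88, [329], [90, 104]⟩,
  ⟨84, [347], [10, 102]⟩,
  ⟨26, [353], [50, 127]⟩,
  ⟨86, [331], [20, 139]⟩,
  ⟨88, [360], [83, 144]⟩,
  ⟨20, [368], [75, 115]⟩,
  ⟨20, [341], [87, 109]⟩,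
  ⟨86, [356], [25, 141]⟩,
  ⟨110, [349], [30, 137]⟩,
  ⟨88, [326], [86, 135]⟩,
  ⟨86, [335], [24, 111]⟩,
  ⟨88, [364], [79, 108]⟩,
  ⟨86, [320], [17, 119]⟩,
  ⟨88, [339], [31, 127]⟩,
  ⟨20, [360], [89, 121]⟩,
  ⟨112, [327], [37, 123]⟩,
  ⟨107, [323], [59, 133]⟩,
  ⟨107, [363], [95, 116]⟩,
  ⟨95, [332], [14, 127]⟩,
  ⟨20, [17], [9, 114]⟩,
  ⟨70, [340], [94, 142]⟩,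
  ⟨112, [339], [12, 141]⟩,
  ⟨26, [328], [37, 112]⟩,
  ⟨88, [375], [47, 138]⟩,
  ⟨112, [333], [70, 124]⟩,
  ⟨20, [357], [46, 116]⟩,
  ⟨108, [17], [49, 102]⟩,
  ⟨94, [342], [63, 145]⟩,
  ⟨88, [324], [96, 108]⟩,
  ⟨108, [322], [61, 143]⟩,
  ⟨84, [17], [77, 127]⟩,
  ⟨110, [336], [33, 99]⟩,
  ⟨108, [330], [22, 103]⟩,
  ⟨27, [339], [8, 129]⟩,
  ⟨99, [325], [42, 144]⟩,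
  ⟨112, [324], [96, 99]⟩,
  ⟨110, [342], [8, 101]⟩,
  ⟨86, [352], [4, 122]⟩,
  ⟨84, [323], [76, 123]⟩,
  ⟨26, [363], [16, 109]⟩,
  ⟨111, [18], [10, 134]⟩,
  ⟨86, [351], [23, 117]⟩,
  ⟨88, [363], [20, 120]⟩,
  ⟨88, [368], [23, 117]⟩,
  ⟨61, [356], [59, 141]⟩,
  ⟨94, [325], [46, 109]⟩,
  ⟨86, [354], [24, 120]⟩,
  ⟨86, [366], [39, 131]⟩,
  ⟨88, [335], [31, 125]⟩,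
  ⟨116, [329], [83, 132]⟩,
  ⟨112, [323], [94, 127]⟩,
  ⟨107, [371], [68, 118]⟩,
  ⟨86, [343], [91, 139]⟩,
  ⟨20, [335], [80, 103]⟩,
  ⟨86, [345], [91, 120]⟩,
  ⟨95, [343], [8, 144]⟩,
  ⟨110, [367], [10, 104]⟩,
  ⟨86, [375], [105]⟩,
  ⟨111, [346], [82, 111]⟩,
  ⟨116, [353], [56, 118]⟩,
  ⟨86, [353], [23, 99]⟩,
  ⟨110, [333], [89, 126]⟩,
  ⟨61, [351], [7, 138]⟩,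
  ⟨107, [324], [71, 132]⟩,
  ⟨20, [358], [62, 142]⟩,
  ⟨20, [365], [12, 115]⟩,
  ⟨61, [324], [96, 119]⟩,
  ⟨20, [375], [88, 99]⟩,
  ⟨70, [338], [16, 137]⟩,
  ⟨84, [335], [29, 104]⟩,
  ⟨84, [333], [54, 124]⟩,
  ⟨108, [328], [49, 136]⟩,
  ⟨110, [325], [64, 128]⟩,
  ⟨108, [359], [129]⟩,
  ⟨86, [327], [57, 144]⟩,
  ⟨20, [340], [13, 110]⟩,
  ⟨26, [354], [34, 105]⟩,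
  ⟨86, [337], [91, 109]⟩,
  ⟨88, [356], [31, 114]⟩,
  ⟨84, [356], [91, 135]⟩,
  ⟨116, [354], [50, 133]⟩,
  ⟨26, [347], [13, 104]⟩,
  ⟨27, [325], [78, 124]⟩,
  ⟨112, [330], [38, 111]⟩,
  ⟨20, [366], [82, 106]⟩,
  ⟨88, [332], [81, 105]⟩,
  ⟨86, [323], [93, 107]⟩,
  ⟨61, [320], [27, 134]⟩,
  ⟨108, [341], [41, 100]⟩,
  ⟨94, [19], [49, 142]⟩,
  ⟨88, [336], [98, 132]⟩,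
  ⟨75, [323], [11, 117]⟩,
  ⟨61, [325], [55, 144]⟩,
  ⟨86, [328], [56, 102]⟩,
  ⟨70, [327], [89, 132]⟩,
  ⟨97, [19], [88, 110]⟩,
  ⟨108, [365], [52, 123]⟩,
  ⟨26, [344], [24, 134]⟩,
  ⟨88, [340], [70, 113]⟩,
  ⟨94, [357], [4, 145]⟩,
  ⟨27, [334], [55, 129]⟩,
  ⟨27, [17], [72, 123]⟩,
  ⟨94, [370], [64, 142]⟩,
  ⟨96, [333], [39]⟩,
  ⟨20, [348], [63, 126]⟩,
  ⟨88, [343], [31, 102]⟩,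
  ⟨94, [18], [60, 134]⟩,
  ⟨20, [333], [48, 135]⟩,
  ⟨61, [329], [91, 107]⟩,
  ⟨86, [346], [52, 140]⟩,
  ⟨110, [327], [89, 107]⟩,
  ⟨26, [340], [43, 101]⟩,
  ⟨96, [321], [20, 145]⟩,
  ⟨111, [360], [67, 137]⟩,
  ⟨111, [370], [73, 102]⟩,
  ⟨20, [342], [49, 102]⟩,
  ⟨96, [17], [92, 113]⟩,
  ⟨27, [336], [53, 127]⟩,
  ⟨88, [359], [98, 109]⟩,
  ⟨111, [329], [7, 103]⟩,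
  ⟨61, [346], [50, 131]⟩,
  ⟨116, [356], [34, 124]⟩,
  ⟨94, [346], [48, 129]⟩,
  ⟨61, [358], [90]⟩,
  ⟨88, [349], [64, 124]⟩,
  ⟨108, [340], [14, 104]⟩,
  ⟨86, [371], [45, 109]⟩,
  ⟨27, [342], [27, 118]⟩,
  ⟨61, [359], [82, 100]⟩,
  ⟨111, [341], [81, 116]⟩,
  ⟨84, [341], [18, 125]⟩,
  ⟨27, [352], [44, 129]⟩,
  ⟨84, [358], [24, 128]⟩,
  ⟨27, [340], [93, 105]⟩,
  ⟨108, [347], [94, 121]⟩,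
  ⟨84, [353], [56, 141]⟩,
  ⟨61, [354], [7, 109]⟩,
  ⟨20, [353], [88, 112]⟩,
  ⟨88, [345], [45, 117]⟩,
  ⟨61, [341], [56, 123]⟩,
  ⟨84, [349], [74, 131]⟩,
  ⟨116, [363], [15, 101]⟩,
  ⟨108, [325], [62, 106]⟩,
  ⟨96, [336], [8, 103]⟩,
  ⟨61, [375], [88, 118]⟩,
  ⟨86, [355], [85, 106]⟩,
  ⟨88, [371], [27, 131]⟩,
  ⟨111, [323], [82, 132]⟩,
  ⟨20, [367], [8, 128]⟩,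
  ⟨84, [343], [61, 139]⟩,
  ⟨61, [18], [19, 109]⟩,
  ⟨110, [347], [76, 110]⟩,
  ⟨107, [342], [17, 104]⟩,
  ⟨112, [325], [26, 124]⟩,
  ⟨95, [327], [85, 110]⟩,
  ⟨116, [361], [24, 118]⟩,
  ⟨20, [19], [4, 134]⟩,
  ⟨70, [328], [37, 143]⟩,
  ⟨94, [335], [52, 113]⟩,
  ⟨116, [347], [40, 133]⟩,
  ⟨112, [363], [79, 130]⟩,
  ⟨20, [325], [55, 138]⟩,
  ⟨61, [345], [86, 127]⟩,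
  ⟨94, [341], [36, 129]⟩,
  ⟨75, [19], [90, 115]⟩,
  ⟨27, [361], [66, 121]⟩,
  ⟨88, [331], [28, 105]⟩,
  ⟨111, [354], [50, 115]⟩,
  ⟨112, [338], [5, 130]⟩,
  ⟨94, [339], [97, 104]⟩,
  ⟨70, [323], [39, 110]⟩,
  ⟨88, [352], [46, 116]⟩,
  ⟨95, [321], [81, 106]⟩,
  ⟨112, [17], [70, 114]⟩,
  ⟨110, [322], [74, 136]⟩,
  ⟨86, [373], [36, 109]⟩,
  ⟨84, [328], [52, 130]⟩,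
  ⟨86, [332], [71, 138]⟩,
  ⟨96, [343], [97]⟩,
  ⟨94, [327], [38, 117]⟩,
  ⟨110, [339], [14, 123]⟩,
  ⟨97, [325], [24, 107]⟩,
  ⟨86, [333], [69, 127]⟩,
  ⟨88, [350], [26, 119]⟩,
  ⟨88, [341], [26, 133]⟩,
  ⟨61, [347], [11, 124]⟩,
  ⟨116, [346], [38, 144]⟩,
  ⟨108, [327], [80, 113]⟩,
  ⟨107, [357], [26, 115]⟩,
  ⟨20, [347], [33, 125]⟩,
  ⟨27, [355], [20, 131]⟩,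
  ⟨70, [348], [33, 130]⟩,
  ⟨96, [327], [40, 114]⟩,
  ⟨94, [364], [15, 126]⟩,
  ⟨84, [354], [98, 123]⟩,
  ⟨27, [322], [50, 120]⟩,
  ⟨111, [17], [18, 121]⟩,
  ⟨20, [343], [74, 133]⟩,
  ⟨61, [348], [66, 123]⟩,
  ⟨61, [339], [6, 117]⟩,
  ⟨61, [], [40, 101]⟩,
  ⟨108, [345], [69, 142]⟩,
  ⟨61, [355], [80, 140]⟩,
  ⟨61, [360], [20, 118]⟩,
  ⟨61, [335], [46, 137]⟩,
  ⟨86, [359], [26, 140]⟩,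
  ⟨107, [325], [62, 115]⟩,
  ⟨26, [321], [24, 101]⟩,
  ⟨96, [19], [83, 107]⟩,
  ⟨26, [360], [91, 132]⟩,
  ⟨86, [361], [73, 126]⟩,
  ⟨70, [334], [90, 144]⟩,
  ⟨88, [358], [69, 133]⟩,
  ⟨20, [337], [4, 123]⟩,
  ⟨70, [339], [61, 123]⟩,
  ⟨116, [331], [59, 106]⟩,
  ⟨86, [349], [31, 134]⟩,
  ⟨107, [358], [72, 134]⟩,
  ⟨96, [358], [50, 123]⟩,
  ⟨108, [344], [10, 126]⟩,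
  ⟨112, [326], [79, 139]⟩,
  ⟨61, [353], [89, 105]⟩,
  ⟨27, [321], [53, 109]⟩,
  ⟨96, [320], [93, 145]⟩,
  ⟨86, [339], [89, 117]⟩,
  ⟨70, [355], [61, 117]⟩,
  ⟨88, [322], [39, 104]⟩,
  ⟨94, [354], [83, 131]⟩,
  ⟨75, [324], [11, 111]⟩,
  ⟨20, [349], [43, 143]⟩,
  ⟨94, [332], [95, 100]⟩,
  ⟨20, [323], [90, 106]⟩,
  ⟨96, [334], [36, 130]⟩,
  ⟨61, [340], [6, 145]⟩,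
  ⟨84, [372], [91, 114]⟩,
  ⟨99, [322], [78, 123]⟩,
  ⟨111, [349], [84, 113]⟩,
  ⟨112, [18], [66, 140]⟩,
  ⟨111, [326], [30, 136]⟩,
  ⟨111, [342], [52, 110]⟩,
  ⟨95, [], [88, 139]⟩,
  ⟨26, [329], [53, 118]⟩,
  ⟨84, [331], [6, 99]⟩,
  ⟨108, [19], [12, 145]⟩,
  ⟨20, [339], [38, 132]⟩,
  ⟨61, [371], [27, 145]⟩,
  ⟨111, [344], [20, 114]⟩,
  ⟨70, [330], [45, 133]⟩,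
  ⟨86, [363], [48, 119]⟩,
  ⟨84, [360], [91, 109]⟩,
  ⟨26, [331], [30, 109]⟩,
  ⟨110, [348], [38, 113]⟩,
  ⟨108, [350], [55, 119]⟩,
  ⟨88, [372], [11, 113]⟩,
  ⟨94, [], [96, 137]⟩,
  ⟨116, [325], [41, 120]⟩,
  ⟨107, [338], [59, 114]⟩,
  ⟨26, [], [86, 115]⟩,
  ⟨110, [328], [46, 101]⟩,
  ⟨86, [324], [70, 110]⟩,
  ⟨94, [329], [75, 111]⟩,
  ⟨70, [18], [76, 142]⟩,
  ⟨94, [328], [68, 114]⟩,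
  ⟨116, [333], [56, 136]⟩,
  ⟨86, [341], [82, 112]⟩,
  ⟨110, [362], [60, 121]⟩,
  ⟨88, [362], [76]⟩,
  ⟨61, [373], [54, 118]⟩,
  ⟨20, [363], [84, 145]⟩,
  ⟨107, [333], [53, 104]⟩,
  ⟨88, [337], [78, 128]⟩,
  ⟨61, [332], [59, 101]⟩,
  ⟨88, [347], [79, 115]⟩,
  ⟨61, [349], [58, 113]⟩,
  ⟨88, [361], [32, 144]⟩,
  ⟨20, [322], [55, 144]⟩,
  ⟨116, [360], [39, 130]⟩,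
  ⟨75, [326], [38, 138]⟩,
  ⟨26, [341], [46, 139]⟩,
  ⟨111, [334], [79, 144]⟩,
  ⟨20, [355], [36, 117]⟩,
  ⟨70, [19], [29, 136]⟩,
  ⟨112, [344], [44, 140]⟩,
  ⟨61, [334], [80, 100]⟩,
  ⟨112, [348], [10, 145]⟩]

/-- The uses of identities at base point 5, a part. -/
def certCover5Part2 : List (Hop) := [
  ⟨107, [321], [44, 140]⟩,
  ⟨96, [342], [15, 124]⟩,
  ⟨86, [347], [19, 132]⟩,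
  ⟨20, [345], [31, 134]⟩,
  ⟨112, [350], [71, 145]⟩,
  ⟨20, [350], [50, 108]⟩,
  ⟨99, [19], [20, 120]⟩,
  ⟨86, [334], [9, 135]⟩,
  ⟨116, [321], [42, 100]⟩,
  ⟨107, [336], [61, 114]⟩,
  ⟨20, [371], [35, 111]⟩,
  ⟨96, [322], [20, 109]⟩,
  ⟨70, [324], [71, 115]⟩,
  ⟨61, [363], [54, 105]⟩,
  ⟨26, [18], [44, 130]⟩,
  ⟨20, [370], [69, 134]⟩,
  ⟨116, [19], [105]⟩,
  ⟨108, [326], [74, 142]⟩,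
  ⟨61, [323], [6, 121]⟩,
  ⟨96, [346], [10, 118]⟩,
  ⟨86, [358], [136]⟩,
  ⟨27, [], [4, 140]⟩,
  ⟨70, [345], [58, 139]⟩,
  ⟨61, [328], [52, 137]⟩,
  ⟨86, [325], [33, 124]⟩,
  ⟨86, [], [76, 129]⟩,
  ⟨112, [345], [42, 122]⟩,
  ⟨88, [328], [80, 124]⟩,
  ⟨86, [348], [62, 116]⟩,
  ⟨20, [362], [12, 144]⟩]

/-- The uses of identities at base point 5. -/
def certCover5 : List (Hop) := certCover5Part0 ++ certCover5Part1 ++ certCover5Part2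

/-- The uses of identities at base point 6, a part. -/
def certCover6Part0 : List (Hop) := [
  ⟨37, [], []⟩,
  ⟨58, [378, 441], [84, 138]⟩,
  ⟨37, [380, 420], [84, 125]⟩,
  ⟨58, [21, 426], [95, 139]⟩,
  ⟨58, [378, 424], [74, 123]⟩,
  ⟨37, [21], [79]⟩,
  ⟨118, [], [144]⟩,
  ⟨58, [397, 421], [20, 135]⟩,
  ⟨58, [393, 454], [5, 111]⟩,
  ⟨118, [376, 449], [40]⟩,
  ⟨37, [21, 437], [25, 129]⟩,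
  ⟨58, [377, 449], [68, 129]⟩,
  ⟨58, [383, 429], [14, 141]⟩,
  ⟨58, [426], [96, 124]⟩,
  ⟨37, [382, 407], [14, 144]⟩,
  ⟨58, [392, 415], [39, 145]⟩,
  ⟨118, [395, 426], [48, 127]⟩,
  ⟨118, [391, 429], [55, 135]⟩,
  ⟨118, [387, 437], [28, 107]⟩,
  ⟨37, [395, 445], [17, 127]⟩,
  ⟨37, [385, 442], [67, 132]⟩,
  ⟨118, [380, 420], [55, 112]⟩,
  ⟨58, [388, 412], [98, 120]⟩,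
  ⟨37, [396, 440], [46, 112]⟩,
  ⟨58, [391, 424], [84, 134]⟩,
  ⟨37, [395, 426], [58, 135]⟩,
  ⟨58, [383, 438], [72, 116]⟩,
  ⟨58, [388, 439], [35, 128]⟩,
  ⟨37, [383, 426], [64, 118]⟩,
  ⟨118, [401, 429], [76, 143]⟩,
  ⟨37, [389, 408], [71, 141]⟩,
  ⟨37, [394, 417], [4, 128]⟩,
  ⟨118, [21], [46]⟩,
  ⟨37, [382], [30]⟩,
  ⟨118, [394, 438], [97, 120]⟩,
  ⟨58, [384, 417], [68, 119]⟩,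
  ⟨118, [398, 448], [91, 122]⟩,
  ⟨37, [391, 424], [15, 135]⟩,
  ⟨58, [377, 408], [98, 99]⟩,
  ⟨118, [391, 441], [34, 113]⟩,
  ⟨37, [381, 430], [4, 106]⟩,
  ⟨58, [377, 412], [80, 114]⟩,
  ⟨58, [389, 417], [81, 130]⟩,
  ⟨58, [399, 442], [61, 101]⟩,
  ⟨58, [390, 413], [20, 138]⟩,
  ⟨58, [390, 425], [75, 122]⟩,
  ⟨58, [401, 433], [31, 119]⟩,
  ⟨58, [380, 444], [84, 104]⟩,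
  ⟨37, [399, 437], [68, 112]⟩,
  ⟨37, [382, 438], [18, 129]⟩,
  ⟨37, [394, 410], [72, 105]⟩,
  ⟨58, [393, 449], [14, 101]⟩,
  ⟨37, [385, 425], [22, 118]⟩,
  ⟨58, [396, 445], [74, 111]⟩,
  ⟨58, [387, 422], [17, 114]⟩,
  ⟨118, [377, 427], [95, 117]⟩,
  ⟨37, [400, 435], [92, 120]⟩,
  ⟨37, [437], [67, 119]⟩,
  ⟨37, [389, 422], [37, 106]⟩,
  ⟨58, [383, 406], [33, 143]⟩,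
  ⟨37, [389, 423], [57, 104]⟩,
  ⟨58, [382, 403], [90, 136]⟩,
  ⟨58, [388, 447], [86, 135]⟩,
  ⟨58, [395, 414], [24, 102]⟩,
  ⟨118, [381, 432], [73, 134]⟩,
  ⟨58, [393, 433], [80, 140]⟩,
  ⟨37, [395, 408], [14, 142]⟩,
  ⟨118, [391, 436], [81, 138]⟩,
  ⟨118, [383, 450], [20, 106]⟩,
  ⟨118, [390, 446], [31, 103]⟩,
  ⟨37, [388, 404], [24, 128]⟩,
  ⟨118, [399, 411], [77, 132]⟩,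
  ⟨118, [378, 440], [71, 102]⟩,
  ⟨37, [395, 432], [29, 121]⟩,
  ⟨118, [388, 437], [26, 137]⟩,
  ⟨37, [388, 450], [19, 115]⟩,
  ⟨58, [385, 406], [42, 142]⟩,
  ⟨37, [386, 409], [14, 104]⟩,
  ⟨58, [385, 434], [4, 102]⟩,
  ⟨58, [391, 433], [43, 108]⟩,
  ⟨118, [394, 445], [23, 99]⟩,
  ⟨58, [391, 447], [45, 99]⟩,
  ⟨37, [392, 447], [38, 99]⟩,
  ⟨58, [395, 408], [50, 124]⟩,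
  ⟨37, [381, 434], [52, 140]⟩,
  ⟨58, [388, 406], [51, 104]⟩,
  ⟨37, [394, 414], [83, 128]⟩,
  ⟨58, [379, 405], [70, 119]⟩,
  ⟨118, [399], [76, 140]⟩,
  ⟨37, [396, 419], [88, 99]⟩,
  ⟨58, [381, 430], [27, 129]⟩,
  ⟨37, [378, 424], [83, 144]⟩,
  ⟨37, [391, 429], [45]⟩,
  ⟨58, [386, 434], [12, 120]⟩,
  ⟨37, [400, 408], [58, 121]⟩,
  ⟨118, [384, 444], [22, 119]⟩,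
  ⟨58, [379, 444], [97, 136]⟩,
  ⟨37, [390, 413], [89, 112]⟩,
  ⟨58, [390, 437], [36, 130]⟩,
  ⟨37, [393, 402], [42, 106]⟩,
  ⟨118, [382, 438], [12, 137]⟩,
  ⟨37, [386, 430], [49, 127]⟩,
  ⟨37, [390, 426], [89, 118]⟩,
  ⟨37, [398, 453], [23, 131]⟩,
  ⟨58, [379, 447], [98, 116]⟩,
  ⟨37, [376, 435], [26]⟩,
  ⟨37, [379, 415], [81, 124]⟩,
  ⟨37, [378, 420], [42, 124]⟩,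
  ⟨37, [419], [62, 140]⟩,
  ⟨118, [389, 446], [4, 145]⟩,
  ⟨58, [392, 409], [132]⟩,
  ⟨37, [397, 445], [69, 130]⟩,
  ⟨118, [377, 407], [81, 106]⟩,
  ⟨58, [396, 405], [9, 99]⟩,
  ⟨58, [378, 447], [102]⟩,
  ⟨118, [387, 418], [48, 125]⟩,
  ⟨37, [389, 402], [34, 140]⟩,
  ⟨58, [387, 419], [53, 116]⟩,
  ⟨58, [376, 449], [60, 144]⟩,
  ⟨58, [399, 436], [49, 135]⟩,
  ⟨37, [377, 405], [91, 118]⟩,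
  ⟨37, [388, 451], [60, 132]⟩,
  ⟨58, [392, 420], [54, 128]⟩,
  ⟨118, [387, 424], [35, 122]⟩,
  ⟨37, [385, 426], [87, 108]⟩,
  ⟨58, [395, 431], [5, 144]⟩,
  ⟨58, [395, 452], [55, 144]⟩,
  ⟨37, [385, 406], [65, 115]⟩,
  ⟨37, [383, 429], [44, 108]⟩,
  ⟨118, [394, 433], [69, 113]⟩,
  ⟨118, [377, 444], [56, 132]⟩,
  ⟨118, [378, 407], [76, 144]⟩,
  ⟨118, [387, 440], [71, 132]⟩,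
  ⟨37, [378, 429], [93, 115]⟩,
  ⟨37, [391, 426], [86, 112]⟩,
  ⟨37, [389, 420], [69, 105]⟩,
  ⟨37, [383, 438], [33, 125]⟩,
  ⟨58, [399, 418], [4, 101]⟩,
  ⟨37, [399, 409], [13, 141]⟩,
  ⟨58, [401, 425], [86, 142]⟩,
  ⟨118, [385, 423], [8, 137]⟩,
  ⟨37, [397, 428], [42, 141]⟩,
  ⟨58, [379, 433], [81, 125]⟩,
  ⟨58, [], [69, 138]⟩,
  ⟨118, [396, 437], [77, 111]⟩,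
  ⟨58, [398, 415], [17, 130]⟩,
  ⟨58, [381, 420], [37, 120]⟩,
  ⟨118, [390, 412], [86, 139]⟩,
  ⟨37, [377, 428], [40, 122]⟩,
  ⟨58, [392, 447], [97, 139]⟩,
  ⟨37, [379, 443], [86, 124]⟩,
  ⟨58, [379, 418], [53, 114]⟩,
  ⟨118, [400, 437], [77, 145]⟩,
  ⟨58, [398, 416], [27, 141]⟩,
  ⟨37, [391, 421], [62, 120]⟩,
  ⟨58, [400, 408], [58, 114]⟩,
  ⟨58, [400, 438], [81, 130]⟩,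
  ⟨37, [382, 449], [33, 144]⟩,
  ⟨37, [380, 411], [49, 129]⟩,
  ⟨37, [398, 411], [24, 134]⟩,
  ⟨58, [390, 442], [16, 121]⟩,
  ⟨37, [399, 442], [62, 127]⟩,
  ⟨118, [385, 406], [26, 106]⟩,
  ⟨37, [388, 444], [94, 138]⟩,
  ⟨58, [394, 403], [26, 114]⟩,
  ⟨58, [390, 416], [33]⟩,
  ⟨37, [21, 454], [94, 122]⟩,
  ⟨37, [390, 439], [47, 99]⟩,
  ⟨37, [398], [73, 110]⟩,
  ⟨37, [396, 408], [30, 120]⟩,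
  ⟨58, [384, 444], [40, 105]⟩,
  ⟨118, [399, 436], [65, 138]⟩,
  ⟨58, [391, 435], [4, 114]⟩,
  ⟨37, [391, 423], [87, 128]⟩,
  ⟨37, [381, 427], [64, 101]⟩,
  ⟨37, [397, 413], [31, 113]⟩,
  ⟨58, [385, 425], [81, 136]⟩,
  ⟨58, [389, 408], [83, 116]⟩,
  ⟨37, [396, 443], [14, 123]⟩,
  ⟨58, [387, 424], [21, 116]⟩,
  ⟨37, [390, 437], [64, 140]⟩,
  ⟨58, [399, 433], [64, 109]⟩,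
  ⟨37, [451], [10, 137]⟩,
  ⟨37, [394, 437], [29, 142]⟩,
  ⟨58, [398, 450], [23, 118]⟩,
  ⟨37, [384, 428], [82, 131]⟩,
  ⟨37, [395, 419], [65, 135]⟩,
  ⟨118, [398, 446], [70, 113]⟩,
  ⟨37, [397, 432], [27, 115]⟩,
  ⟨37, [382, 444], [95, 119]⟩,
  ⟨58, [392, 407], [90, 138]⟩,
  ⟨58, [382, 441], [97, 116]⟩,
  ⟨37, [395, 453], [44, 99]⟩,
  ⟨118, [395, 405], [14, 138]⟩,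
  ⟨58, [377, 406], [17, 110]⟩,
  ⟨58, [390, 430], [94, 143]⟩,
  ⟨58, [418], [74, 109]⟩,
  ⟨58, [389, 423], [17, 116]⟩,
  ⟨58, [400, 433], [26, 100]⟩,
  ⟨58, [376, 447], [7, 108]⟩,
  ⟨118, [380, 424], [17, 115]⟩,
  ⟨37, [380, 444], [29, 99]⟩,
  ⟨37, [21, 407], [90, 142]⟩,
  ⟨37, [377, 407], [19, 107]⟩,
  ⟨37, [396, 406], [57, 109]⟩,
  ⟨37, [388, 426], [45, 140]⟩,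
  ⟨37, [425], [9, 117]⟩,
  ⟨37, [392, 420], [72, 108]⟩,
  ⟨58, [397, 429], [54, 109]⟩,
  ⟨118, [398, 438], [94, 123]⟩,
  ⟨58, [386], [26, 123]⟩,
  ⟨58, [382, 454], [81, 100]⟩,
  ⟨58, [395, 434], [14, 110]⟩,
  ⟨118, [390, 432], [80, 113]⟩,
  ⟨58, [21, 454], [85, 101]⟩,
  ⟨37, [396, 431], [70, 134]⟩,
  ⟨58, [397, 420], [92, 133]⟩,
  ⟨37, [383, 406], [85, 123]⟩,
  ⟨58, [385, 423], [34, 117]⟩,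
  ⟨118, [389, 449], [14, 107]⟩,
  ⟨58, [377, 428], [13, 140]⟩,
  ⟨118, [401, 418], [19, 142]⟩,
  ⟨37, [382, 402], [82, 111]⟩,
  ⟨58, [398, 413], [79, 108]⟩,
  ⟨37, [384, 416], [18, 107]⟩,
  ⟨37, [391, 437], [6, 124]⟩,
  ⟨118, [448], [10, 101]⟩,
  ⟨37, [377, 404], [81, 132]⟩,
  ⟨58, [392, 424], [27, 112]⟩,
  ⟨37, [383, 441], [84, 137]⟩,
  ⟨58, [381, 409], [47, 101]⟩,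
  ⟨58, [389, 445], [72, 106]⟩,
  ⟨37, [382, 410], [14, 100]⟩,
  ⟨37, [381, 437], [78, 103]⟩,
  ⟨58, [390, 411], [61]⟩,
  ⟨58, [385, 412], [93, 134]⟩,
  ⟨118, [401, 422], [89, 115]⟩,
  ⟨37, [384, 404], [40, 103]⟩,
  ⟨58, [379, 424], [63, 140]⟩,
  ⟨118, [380, 404], [57, 110]⟩,
  ⟨37, [379, 432], [25, 129]⟩,
  ⟨37, [389, 411], [42, 123]⟩,
  ⟨118, [386, 415], [43, 141]⟩,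
  ⟨58, [382, 421], [22, 139]⟩,
  ⟨37, [383, 412], [70, 145]⟩,
  ⟨37, [411], [79, 127]⟩,
  ⟨118, [401, 407], [67, 114]⟩,
  ⟨37, [21, 404], [103]⟩,
  ⟨37, [385, 451], [88, 123]⟩,
  ⟨58, [386, 425], [80, 142]⟩,
  ⟨58, [381, 425], [92, 119]⟩,
  ⟨37, [376, 449], [32, 112]⟩,
  ⟨58, [391, 429], [75, 124]⟩,
  ⟨58, [387, 447], [33, 122]⟩,
  ⟨118, [438], [52, 106]⟩,
  ⟨118, [21, 429], [73, 110]⟩,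
  ⟨118, [384, 433], [29, 119]⟩,
  ⟨37, [383, 404], [10, 108]⟩,
  ⟨37, [386, 434], [33, 128]⟩,
  ⟨118, [381, 411], [71, 103]⟩,
  ⟨118, [396, 439], [68, 106]⟩,
  ⟨37, [393, 449], [44, 104]⟩,
  ⟨37, [393, 407], [73, 109]⟩,
  ⟨58, [383, 412], [18, 133]⟩,
  ⟨37, [394, 441], [92, 125]⟩,
  ⟨37, [376, 418], [80, 101]⟩,
  ⟨58, [401, 405], [68, 139]⟩,
  ⟨37, [396, 427], [19, 141]⟩,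
  ⟨37, [393, 442], [38, 103]⟩,
  ⟨118, [401, 423], [83, 100]⟩,
  ⟨37, [378, 440], [25, 133]⟩,
  ⟨58, [395, 453], [27, 112]⟩,
  ⟨58, [397, 447], [83, 134]⟩,
  ⟨37, [386, 451], [81, 109]⟩,
  ⟨37, [398, 450], [23, 120]⟩,
  ⟨37, [21, 411], [28, 102]⟩,
  ⟨37, [399, 424], [81, 121]⟩,
  ⟨37, [390, 407], [59, 100]⟩,
  ⟨118, [388, 450], [40, 101]⟩,
  ⟨37, [388, 417], [16, 132]⟩,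
  ⟨37, [390, 411], [80, 127]⟩,
  ⟨58, [389, 422], [78, 138]⟩,
  ⟨58, [391, 437], [53, 105]⟩,
  ⟨118, [379, 407], [61, 99]⟩,
  ⟨58, [399, 437], [38, 99]⟩,
  ⟨118, [400, 444], [93, 106]⟩,
  ⟨58, [386, 403], [28, 134]⟩,
  ⟨58, [376, 418], [16, 136]⟩,
  ⟨37, [387, 437], [54, 142]⟩,
  ⟨58, [376, 444], [11, 117]⟩,
  ⟨58, [395, 429], [48, 106]⟩,
  ⟨37, [393, 433], [31, 137]⟩,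
  ⟨37, [395, 448], [47, 138]⟩,
  ⟨58, [378, 440], [30, 120]⟩,
  ⟨118, [380, 411], [37, 106]⟩,
  ⟨58, [400, 419], [91, 110]⟩,
  ⟨37, [379, 440], [52, 131]⟩,
  ⟨58, [398, 411], [54, 106]⟩,
  ⟨58, [385, 408], [91, 122]⟩,
  ⟨58, [401, 426], [9]⟩]

/-- The uses of identities at base point 6, a part. -/
def certCover6Part1 : List (Hop) := [
  ⟨37, [399, 440], [48, 104]⟩,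
  ⟨118, [419], [80, 114]⟩,
  ⟨37, [378, 416], [89, 119]⟩,
  ⟨58, [399, 432], [19, 104]⟩,
  ⟨58, [425], [4, 104]⟩,
  ⟨58, [380, 430], [50, 135]⟩,
  ⟨118, [381, 437], [87, 105]⟩,
  ⟨118, [386, 434], [92, 125]⟩,
  ⟨37, [382, 452], [80, 100]⟩,
  ⟨37, [383, 436], [60, 139]⟩,
  ⟨37, [399, 429], [41, 101]⟩,
  ⟨58, [393, 410], [32, 145]⟩,
  ⟨58, [384, 430], [27, 116]⟩,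
  ⟨118, [382, 450], [87, 136]⟩,
  ⟨58, [377, 444], [40, 113]⟩,
  ⟨118, [454], [85, 141]⟩,
  ⟨118, [392, 445], [15, 115]⟩,
  ⟨58, [400, 435], [26, 116]⟩,
  ⟨37, [382, 441], [66, 124]⟩,
  ⟨118, [376, 451], [66, 114]⟩,
  ⟨58, [399, 409], [6, 113]⟩,
  ⟨118, [386, 446], [57, 114]⟩,
  ⟨58, [384, 451], [42, 137]⟩,
  ⟨37, [379, 444], [71, 112]⟩,
  ⟨118, [388, 421], [70, 136]⟩,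
  ⟨37, [21, 419], [41, 119]⟩,
  ⟨37, [389, 416], [56, 124]⟩,
  ⟨58, [395, 432], [19, 128]⟩,
  ⟨37, [377, 431], [78, 120]⟩,
  ⟨37, [400, 419], [63, 111]⟩,
  ⟨118, [376, 407], [57]⟩,
  ⟨58, [396, 439], [86, 101]⟩,
  ⟨118, [397, 445], [30, 133]⟩,
  ⟨58, [391, 412], [65, 145]⟩,
  ⟨58, [382, 449], [61, 139]⟩,
  ⟨37, [391, 434], [34, 144]⟩,
  ⟨37, [379, 431], [68, 117]⟩,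
  ⟨58, [397, 453], [38, 108]⟩,
  ⟨58, [386, 447], [17, 135]⟩,
  ⟨37, [389, 439], [83, 105]⟩,
  ⟨37, [380, 416], [49, 136]⟩,
  ⟨118, [384, 421], [14, 107]⟩,
  ⟨58, [394, 402], [50, 123]⟩,
  ⟨37, [376, 429], [22, 111]⟩,
  ⟨37, [387, 418], [66, 140]⟩,
  ⟨58, [391, 432], [89, 138]⟩,
  ⟨37, [381, 411], [89, 136]⟩,
  ⟨58, [386, 446], [53, 121]⟩,
  ⟨58, [383, 454], [14, 114]⟩,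
  ⟨58, [401, 406], [7, 121]⟩,
  ⟨118, [378, 418], [61, 126]⟩,
  ⟨58, [398, 431], [22, 111]⟩,
  ⟨58, [394, 441], [27, 126]⟩,
  ⟨58, [379, 432], [28, 142]⟩,
  ⟨58, [391, 434], [19, 123]⟩,
  ⟨58, [392, 453], [91, 108]⟩,
  ⟨58, [382, 409], [43, 122]⟩,
  ⟨37, [395, 429], [45, 106]⟩,
  ⟨58, [392, 429], [12, 127]⟩,
  ⟨37, [395, 450], [66, 141]⟩,
  ⟨58, [384, 431], [78, 143]⟩,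
  ⟨58, [396, 417], [58, 113]⟩,
  ⟨58, [399, 435], [16, 107]⟩,
  ⟨58, [391, 426], [77, 108]⟩,
  ⟨37, [401, 454], [64, 127]⟩,
  ⟨58, [393, 403], [45, 108]⟩,
  ⟨37, [401, 406], [37, 143]⟩,
  ⟨37, [379, 449], [11, 107]⟩,
  ⟨37, [378, 418], [38, 108]⟩,
  ⟨118, [382, 427], [29, 127]⟩,
  ⟨37, [392, 450], [5, 101]⟩,
  ⟨118, [390, 417], [67, 116]⟩,
  ⟨37, [377, 412], [24, 136]⟩,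
  ⟨118, [388, 427], [26, 136]⟩,
  ⟨37, [396, 444], [55, 133]⟩,
  ⟨118, [377, 451], [82, 132]⟩,
  ⟨37, [384, 412], [60, 111]⟩,
  ⟨37, [380, 430], [38, 138]⟩,
  ⟨58, [390, 412], [63, 126]⟩,
  ⟨58, [396, 443], [49, 122]⟩,
  ⟨37, [397, 426], [82, 112]⟩,
  ⟨37, [380, 437], [81, 134]⟩,
  ⟨118, [384, 407], [54, 103]⟩,
  ⟨37, [389, 407], [74, 115]⟩,
  ⟨118, [389, 440], [86, 126]⟩,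
  ⟨37, [442], [14, 129]⟩,
  ⟨37, [387, 440], [85, 119]⟩,
  ⟨37, [393, 444], [95, 106]⟩,
  ⟨58, [379, 407], [39, 105]⟩,
  ⟨37, [21, 451], [50, 106]⟩,
  ⟨58, [382, 410], [94, 103]⟩,
  ⟨37, [394, 434], [39, 110]⟩,
  ⟨118, [382, 444], [42, 126]⟩,
  ⟨118, [391, 411], [46, 116]⟩,
  ⟨37, [376, 440], [106]⟩,
  ⟨58, [381, 442], [49, 123]⟩,
  ⟨58, [384, 407], [75, 107]⟩,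
  ⟨37, [384, 423], [9, 120]⟩,
  ⟨58, [383, 434], [96, 106]⟩,
  ⟨37, [401, 424], [82, 121]⟩,
  ⟨37, [377, 426], [71, 132]⟩,
  ⟨58, [381, 443], [51, 108]⟩,
  ⟨37, [399, 434], [24, 129]⟩,
  ⟨37, [387, 424], [82, 137]⟩,
  ⟨58, [389, 411], [19, 99]⟩,
  ⟨58, [400, 443], [71, 132]⟩,
  ⟨58, [377, 410], [37, 139]⟩,
  ⟨37, [397, 444], [31, 143]⟩,
  ⟨58, [376, 438], [58, 125]⟩,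
  ⟨37, [400, 440], [78, 101]⟩,
  ⟨37, [384, 408], [71, 143]⟩,
  ⟨37, [385, 404], [26, 141]⟩,
  ⟨37, [431], [29, 130]⟩,
  ⟨58, [389, 404], [35, 141]⟩,
  ⟨58, [401, 428], [93, 106]⟩,
  ⟨37, [389, 415], [32, 116]⟩,
  ⟨118, [388, 425], [39, 128]⟩,
  ⟨37, [398, 404], [14, 126]⟩,
  ⟨37, [386, 433], [93, 103]⟩,
  ⟨58, [381, 437], [98, 121]⟩,
  ⟨118, [394, 435], [68, 139]⟩,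
  ⟨58, [400, 426], [47, 120]⟩,
  ⟨37, [418], [23, 138]⟩,
  ⟨58, [396, 419], [74, 119]⟩,
  ⟨58, [396, 444], [77, 115]⟩,
  ⟨58, [397, 450], [20, 103]⟩,
  ⟨37, [382, 431], [7, 118]⟩,
  ⟨58, [395, 405], [7, 135]⟩,
  ⟨58, [385, 422], [67, 144]⟩,
  ⟨58, [381], [65, 103]⟩,
  ⟨118, [394, 447], [24, 137]⟩,
  ⟨37, [384, 431], [23, 120]⟩,
  ⟨58, [393, 438], [71, 117]⟩,
  ⟨118, [393, 408], [88, 140]⟩,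
  ⟨37, [386, 422], [6, 130]⟩,
  ⟨37, [379, 435], [81, 111]⟩,
  ⟨37, [399, 435], [43, 133]⟩,
  ⟨37, [401, 428], [62, 108]⟩,
  ⟨58, [399, 434], [97, 122]⟩,
  ⟨37, [394, 433], [12, 141]⟩,
  ⟨37, [378, 435], [30, 145]⟩,
  ⟨118, [385, 431], [31, 133]⟩,
  ⟨37, [381, 413], [15, 114]⟩,
  ⟨37, [383, 451], [21, 130]⟩,
  ⟨37, [379, 405], [84, 101]⟩,
  ⟨58, [400, 449], [44, 114]⟩,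
  ⟨37, [378, 434], [38, 113]⟩,
  ⟨58, [388, 417], [6, 132]⟩,
  ⟨118, [382, 410], [8, 105]⟩,
  ⟨37, [377, 449], [34, 110]⟩,
  ⟨37, [376, 444], [93, 129]⟩,
  ⟨37, [391, 436], [78, 108]⟩,
  ⟨118, [400, 427], [85, 122]⟩,
  ⟨58, [386, 437], [77, 119]⟩,
  ⟨37, [381, 425], [80, 105]⟩,
  ⟨118, [21, 454], [30, 103]⟩,
  ⟨58, [378, 419], [17, 121]⟩,
  ⟨118, [392, 449], [5, 107]⟩,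
  ⟨37, [379, 418], [31, 109]⟩,
  ⟨58, [383, 447], [58, 106]⟩,
  ⟨58, [21, 404], [79, 122]⟩,
  ⟨58, [400, 410], [83, 116]⟩,
  ⟨37, [398, 413], [57, 138]⟩,
  ⟨118, [21, 448], [4, 143]⟩,
  ⟨58, [399, 424], [38, 145]⟩,
  ⟨58, [385, 424], [69, 140]⟩,
  ⟨37, [394, 446], [41, 109]⟩,
  ⟨118, [393, 413], [93, 114]⟩,
  ⟨118, [384, 439], [62, 134]⟩,
  ⟨37, [382, 433], [87, 115]⟩,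
  ⟨37, [390, 434], [56, 103]⟩,
  ⟨58, [377, 451], [58, 121]⟩,
  ⟨58, [392, 411], [56, 111]⟩,
  ⟨58, [21, 437], [143]⟩,
  ⟨118, [376, 418], [26, 102]⟩,
  ⟨58, [397, 432], [76, 145]⟩,
  ⟨58, [379, 414], [21, 138]⟩,
  ⟨118, [391, 434], [86, 141]⟩,
  ⟨118, [397, 452], [49, 114]⟩,
  ⟨118, [396, 443], [83, 102]⟩,
  ⟨37, [392, 444], [52, 135]⟩,
  ⟨37, [377, 410], [83, 127]⟩,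
  ⟨58, [401, 441], [61, 103]⟩,
  ⟨58, [394, 410], [95, 102]⟩,
  ⟨37, [383, 434], [32, 122]⟩,
  ⟨58, [387, 418], [19, 117]⟩,
  ⟨118, [393, 444], [62, 139]⟩,
  ⟨58, [387, 433], [17, 124]⟩,
  ⟨58, [377, 421], [66]⟩,
  ⟨58, [400, 434], [31, 134]⟩,
  ⟨58, [389, 446], [75]⟩,
  ⟨118, [395, 407], [57, 106]⟩,
  ⟨58, [399, 447], [59, 104]⟩,
  ⟨37, [390, 424], [71, 117]⟩,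
  ⟨37, [385, 423], [92, 108]⟩,
  ⟨118, [390, 411], [62, 109]⟩,
  ⟨37, [393, 431], [72, 125]⟩,
  ⟨58, [389, 434], [24, 137]⟩,
  ⟨58, [377, 431], [82, 122]⟩,
  ⟨58, [383, 404], [93, 115]⟩,
  ⟨118, [396, 424], [46, 132]⟩,
  ⟨118, [390, 437], [58, 121]⟩,
  ⟨58, [376, 407], [17, 107]⟩,
  ⟨118, [378, 411], [12, 138]⟩,
  ⟨37, [393, 438], [21, 103]⟩,
  ⟨58, [391, 416], [7, 102]⟩,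
  ⟨37, [389, 446], [80, 103]⟩,
  ⟨118, [380, 441], [65, 118]⟩,
  ⟨37, [400, 433], [8, 130]⟩,
  ⟨58, [412], [73, 143]⟩,
  ⟨58, [446], [49, 99]⟩,
  ⟨58, [380, 413], [64, 137]⟩,
  ⟨58, [397, 448], [92, 132]⟩,
  ⟨58, [376, 405], [5, 115]⟩,
  ⟨37, [386, 437], [71, 107]⟩,
  ⟨37, [387], [69, 116]⟩,
  ⟨58, [376, 424], [47, 131]⟩,
  ⟨37, [391, 409], [23, 129]⟩,
  ⟨37, [384, 439], [71, 142]⟩,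
  ⟨58, [383, 416], [37, 123]⟩,
  ⟨58, [395, 435], [13, 116]⟩,
  ⟨118, [399, 440], [90, 103]⟩,
  ⟨118, [378, 416], [8, 114]⟩,
  ⟨58, [384, 408], [69, 121]⟩,
  ⟨37, [400, 431], [39, 112]⟩,
  ⟨58, [395, 450], [98, 109]⟩,
  ⟨58, [387, 440], [76, 105]⟩,
  ⟨58, [380, 411], [96, 144]⟩,
  ⟨37, [376, 405], [45, 123]⟩,
  ⟨118, [21, 438], [72, 138]⟩,
  ⟨58, [385, 417], [15, 132]⟩,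
  ⟨37, [392, 409], [10, 109]⟩,
  ⟨37, [393, 410], [16, 103]⟩,
  ⟨58, [21, 425], [4, 134]⟩,
  ⟨58, [384, 411], [49, 141]⟩,
  ⟨37, [400, 402], [74, 144]⟩,
  ⟨118, [393, 438], [16, 113]⟩,
  ⟨58, [378, 416], [36, 126]⟩,
  ⟨37, [395, 405], [77, 132]⟩,
  ⟨58, [21, 419], [10, 137]⟩,
  ⟨58, [377, 438], [40, 115]⟩,
  ⟨58, [382, 439], [61, 108]⟩,
  ⟨58, [393, 441], [43, 137]⟩,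
  ⟨37, [393, 452], [5, 121]⟩,
  ⟨118, [386, 432], [7, 136]⟩,
  ⟨118, [383, 412], [89, 100]⟩,
  ⟨58, [387, 441], [45, 100]⟩,
  ⟨37, [379, 424], [50, 134]⟩,
  ⟨118, [392, 420], [83, 110]⟩,
  ⟨37, [397, 448], [6, 117]⟩,
  ⟨37, [400, 438], [28, 121]⟩,
  ⟨37, [385, 429], [12, 124]⟩,
  ⟨118, [21, 419], [24, 133]⟩,
  ⟨58, [381, 451], [31, 120]⟩,
  ⟨58, [376, 426], [61, 115]⟩,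
  ⟨118, [376, 440], [19, 136]⟩,
  ⟨37, [385, 431], [5, 125]⟩,
  ⟨58, [387], [27, 126]⟩,
  ⟨37, [390, 412], [124]⟩,
  ⟨58, [383, 431], [69, 101]⟩,
  ⟨118, [388, 451], [13, 99]⟩,
  ⟨37, [386, 403], [68, 99]⟩,
  ⟨118, [389, 423], [13, 143]⟩,
  ⟨37, [380, 446], [63, 118]⟩,
  ⟨58, [380, 417], [29, 109]⟩,
  ⟨118, [379, 451], [80, 124]⟩,
  ⟨58, [376, 414], [61, 118]⟩,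
  ⟨58, [388, 404], [62]⟩,
  ⟨37, [386, 425], [71, 110]⟩,
  ⟨37, [386, 412], [51, 137]⟩,
  ⟨37, [383, 454], [91, 100]⟩,
  ⟨118, [385, 450], [68, 105]⟩,
  ⟨37, [379, 452], [7, 127]⟩,
  ⟨37, [386, 407], [29, 110]⟩,
  ⟨58, [389, 416], [18, 126]⟩,
  ⟨58, [390, 451], [69, 119]⟩,
  ⟨58, [390, 441], [88, 114]⟩,
  ⟨58, [380, 418], [35, 122]⟩,
  ⟨58, [21, 446], [48, 129]⟩,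
  ⟨58, [386, 453], [60, 118]⟩,
  ⟨58, [419], [38, 132]⟩,
  ⟨37, [376, 424], [90, 124]⟩,
  ⟨37, [381, 409], [46, 104]⟩,
  ⟨37, [380, 448], [81, 112]⟩,
  ⟨37, [385, 412], [42, 144]⟩,
  ⟨58, [431], [6, 140]⟩,
  ⟨37, [384, 407], [61, 125]⟩,
  ⟨37, [387, 442], [10, 132]⟩,
  ⟨58, [379, 440], [7, 132]⟩,
  ⟨37, [399, 421], [75, 102]⟩,
  ⟨58, [376, 440], [25]⟩,
  ⟨118, [399, 409], [50, 130]⟩,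
  ⟨37, [395, 428], [98, 127]⟩,
  ⟨118, [395, 432], [82, 131]⟩,
  ⟨37, [389, 425], [83, 137]⟩,
  ⟨58, [380, 440], [69, 142]⟩,
  ⟨37, [396, 435], [54, 113]⟩,
  ⟨37, [396, 417], [84, 140]⟩,
  ⟨58, [394, 428], [25, 136]⟩,
  ⟨118, [21, 435], [16, 111]⟩]

/-- The uses of identities at base point 6, a part. -/
def certCover6Part2 : List (Hop) := [
  ⟨58, [384, 449], [71, 139]⟩,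
  ⟨37, [384, 410], [24, 105]⟩,
  ⟨118, [399, 434], [69, 106]⟩,
  ⟨118, [384, 431], [87, 138]⟩,
  ⟨58, [388, 410], [32, 103]⟩,
  ⟨58, [388, 426], [68, 131]⟩,
  ⟨58, [397, 405], [74, 138]⟩,
  ⟨37, [383, 417], [30, 127]⟩,
  ⟨58, [378, 449], [50, 104]⟩,
  ⟨118, [394, 434], [12, 117]⟩,
  ⟨118, [398, 412], [15, 143]⟩,
  ⟨58, [379, 419], [35, 141]⟩,
  ⟨37, [387, 422], [37, 112]⟩,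
  ⟨58, [21, 439], [48, 125]⟩,
  ⟨37, [378, 406], [36, 115]⟩,
  ⟨58, [382, 435], [75, 104]⟩,
  ⟨58, [384, 410], [14, 132]⟩,
  ⟨37, [397, 405], [35, 142]⟩,
  ⟨37, [392, 415], [76, 109]⟩,
  ⟨118, [396, 408], [75, 99]⟩,
  ⟨37, [392, 407], [61, 124]⟩,
  ⟨118, [381, 441], [93, 137]⟩,
  ⟨118, [377, 431], [8, 102]⟩,
  ⟨37, [398, 408], [55, 119]⟩,
  ⟨58, [379, 452], [67, 139]⟩,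
  ⟨58, [397, 414], [42, 118]⟩,
  ⟨58, [376, 419], [31, 125]⟩,
  ⟨58, [437], [52, 121]⟩,
  ⟨37, [378, 403], [68, 114]⟩,
  ⟨37, [387, 434], [33, 125]⟩]

/-- The uses of identities at base point 6. -/
def certCover6 : List (Hop) := certCover6Part0 ++ certCover6Part1 ++ certCover6Part2

end CfsgLib.CoThreeRec
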