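import Cfsg.Agent.Lib.CoThreeRec.CertSys
import Cfsg.Agent.Lib.CoThreeRec.CertDataCover

/-!
# The identities at the representatives cover
-/

set_option autoImplicit false
set_option maxRecDepth 100000

namespace CfsgLib.CoThreeRec

theorem certCover0_ok : coverB certEqB certSys certIdents certSts certReps certCover0 0 = true := by
  decide +kernel

theorem certCover1_ok : coverB certEqB certSys certIdents certSts certReps certCover1 1 = true := by
  decide +kernel

theorem certCover2_ok : coverB certEqB certSys certIdents certSts certReps certCover2 2 = true := by
  decide +kernel

theorem certCover3_ok : coverB certEqB certSys certIdents certSts certReps certCover3 3 = true := by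
  decide +kernel

end CfsgLib.CoThreeRec
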