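import Cfsg.Agent.Lib.CoThreeRec.CertSys
import Cfsg.Agent.Lib.CoThreeRec.CertDataCover

/-!
# The identities at the representatives cover
-/

set_option autoImplicit false
set_option maxRecDepth 100000

namespace CfsgLib.CoThreeRec

theorem certCover4_ok : coverB certEqB certSys certIdents certSts certReps certCover4 4 = true := by
  decide +kernel

theorem certCover5_ok : coverB certEqB certSys certIdents certSts certReps certCover5 5 = true := by
  decide +kernel

theorem certCover6_ok : coverB certEqB certSys certIdents certSts certReps certCover6 6 = true := by
  decide +kernel

end CfsgLib.CoThreeRec
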