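import Cfsg.Agent.Lib.CoThreeRec.CertSys
import Cfsg.Agent.Lib.CoThreeRec.CertDataStab

/-!
# The stabilisers are large
-/

set_option autoImplicit false
set_option maxRecDepth 100000

namespace CfsgLib.CoThreeRec

theorem certStab1_ok : stabB certSig certSts 1 4608 certEls1 = true := by decide +kernel

theorem certStab2_ok : stabB certSig certSts 2 96 certEls2 = true := by decide +kernel

theorem certStab3_ok : stabB certSig certSts 3 36 certEls3 = true := by decide +kernel

theorem certStab4_ok : stabB certSig certSts 4 324 certEls4 = true := by decide +kernel

theorem certStab5_ok : stabB certSig certSts 5 60 certEls5 = true := by decide +kernel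

theorem certStab6_ok : stabB certSig certSts 6 1512 certEls6 = true := by decide +kernel

end CfsgLib.CoThreeRec
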