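import Cfsg.Agent.Lib.CoThreeRec.CertCheckMoves
import Cfsg.Agent.Lib.CoThreeRec.CertCheckCoverA
import Cfsg.Agent.Lib.CoThreeRec.CertCheckCoverB
import Cfsg.Agent.Lib.CoThreeRec.CertCheckStab

/-!
# The group generated by the double cover and the further element is not larger than Co3
-/

set_option autoImplicit false
set_option maxRecDepth 100000

namespace CfsgLib.CoThreeRec

theorem xm_prod_invWord : ∀ {w : List ℕ}, (∀ l ∈ w, l < 4) →
    ((invWord w).map xm).prod = ((w.map xm).prod)⁻¹
  | [], _ => by simp [invWord]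
  | l :: w, h => by
    have e : invWord (l :: w) = invWord w ++ [flipLetter l] := by simp [invWord]
    rw [e, List.map_append, List.prod_append, List.map_singleton, List.prod_singleton,
      certXm_flip (h l List.mem_cons_self), xm_prod_invWord fun a ha => h a (List.mem_cons_of_mem _ ha),
      List.map_cons, List.prod_cons, mul_inv_rev]

variable {M : Type*} [Group M] (ι : Cm →* M) (n : M)

theorem ev_gl_cover {w : List ℕ} (h : ∀ l ∈ w, l < 4) : ev (gl ι n) w = cv xm ι w := by
  induction w with
  | nil => simp [ev, cv]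
  | cons l w ih =>
    have ih' := ih fun a ha => h a (List.mem_cons_of_mem _ ha)
    simp only [ev, cv] at ih' ⊢
    simp [ih', gl, h l List.mem_cons_self]

theorem ev_gl_append (u w : List ℕ) : ev (gl ι n) (u ++ w) = ev (gl ι n) u * ev (gl ι n) w := by simp [ev]

theorem ev_gl_segs : ∀ {r : List (List ℕ)}, (∀ a ∈ r, ∀ l ∈ a, l < 4) →
    ev (gl ι n) ((r.map fun a => 4 :: a).flatten) = relVal xm ι n r
  | [], _ => by simp [ev, relVal]
  | a :: r, h => by
    rw [List.map_cons, List.flatten_cons, ev_gl_append,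
      ev_gl_segs fun b hb => h b (List.mem_cons_of_mem _ hb)]
    have e : ev (gl ι n) (4 :: a) = n * cv xm ι a := by
      rw [← ev_gl_cover ι n (h a List.mem_cons_self)]
      simp [ev, gl]
    rw [e]
    simp [relVal]

variable {ι n}

theorem Amal.mul_self (h : Amal ι n) : n * n = 1 := by
  have h1 := relsB_ok
  simp only [relsB, Bool.and_eq_true, decide_eq_true_eq] at h1
  have h2 := h _ h1.1.1.2
  simpa [ev, gl] using h2

theorem Amal.pair4 (h : Amal ι n) {p : List ℕ × List ℕ} (hp : p ∈ certPairs4) :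
    n⁻¹ * cv xm ι p.1 * n = cv xm ι p.2 := by
  have h1 := relsB_ok
  simp only [relsB, Bool.and_eq_true, decide_eq_true_eq, List.all_eq_true, Nat.blt_eq] at h1
  obtain ⟨⟨⟨⟨⟨-, hr⟩, -⟩, -⟩, hlt⟩, -⟩ := h1
  have hw := h _ (by rw [hr]; exact List.mem_append_left _ (List.mem_map.2 ⟨p, hp, rfl⟩))
  have hp1 : ∀ l ∈ p.1, l < 4 := fun l hl => hlt p hp l (List.mem_append_left _ hl)
  have hp2 : ∀ l ∈ p.2, l < 4 := fun l hl => hlt p hp l (List.mem_append_right _ hl)
  have hi : ∀ l ∈ invWord p.2, l < 4 := by
    intro l hl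
    simp only [invWord, List.mem_map, List.mem_reverse] at hl
    obtain ⟨a, ha, rfl⟩ := hl
    have := hp2 a ha
    unfold flipLetter
    split_ifs <;> omega
  rw [ev_gl_append, ev_gl_append, ev_gl_append, ev_gl_cover ι n hp1, ev_gl_cover ι n hi] at hw
  simp only [cv, xm_prod_invWord hp2, map_inv] at hw
  simp only [ev, gl, List.map_cons, List.map_nil, List.prod_cons, List.prod_nil, mul_one] at hw
  norm_num at hw
  simp only [cv]
  exact mul_inv_eq_one.1 hw

theorem Amal.rel (h : Amal ι n) {r : List (List ℕ)} (hr : r ∈ certRels) : relVal xm ι n r = 1 := by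
  have h1 := relsB_ok
  simp only [relsB, Bool.and_eq_true, decide_eq_true_eq, List.all_eq_true, Nat.blt_eq] at h1
  obtain ⟨⟨⟨⟨⟨⟨-, -⟩, hrels⟩, htake⟩, -⟩, hlt⟩, hdrop⟩ := h1
  rw [← List.take_append_drop 4 certRels] at hr
  rcases List.mem_append.1 hr with hr | hr
  · rw [htake] at hr
    obtain ⟨p, hp, rfl⟩ := List.mem_map.1 hr
    have h2 := h.pair4 hp
    have h3 : n⁻¹ = n := inv_eq_of_mul_eq_one_right h.mul_self
    rw [h3] at h2
    have hp2 : ∀ l ∈ p.2, l < 4 := fun l hl => hlt p hp l (List.mem_append_right _ hl)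
    simp only [relVal, cv, List.map_cons, List.map_nil, List.prod_cons, List.prod_nil, mul_one,
      xm_prod_invWord hp2, map_inv] at h2 ⊢
    rw [← mul_assoc, h2, mul_inv_cancel]
  · rw [← ev_gl_segs ι n fun a ha => hdrop r hr a ha]
    exact h _ (by rw [hrels]; exact List.mem_append_right _ (List.mem_map.2 ⟨r, hr, rfl⟩))

theorem Amal.holds4 (h : Amal ι n) (hP : PtsFaithful) : Holds certEqB sys4 xm ι n where
  eq _ _ e := certEqB_spec hP e
  rel _ hr := h.rel hr
  pair _ hp := h.pair4 hp
  base := rfl

theorem Amal.holds (h : Amal ι n) (hP : PtsFaithful) : Holds certEqB certSys xm ι n where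
  eq _ _ e := certEqB_spec hP e
  rel _ hr := h.rel hr
  pair p hp := by
    rcases List.mem_append.1 hp with hp | hp
    · exact h.pair4 hp
    · obtain ⟨e, he, rfl⟩ := List.mem_map.1 hp
      have hB := derivB_ok
      simp only [derivB, List.all_eq_true, Bool.and_eq_true, Nat.blt_eq] at hB
      obtain ⟨⟨hd, hx⟩, hy⟩ := hB e he
      rw [(h.holds4 hP).cv_eq hx, (h.holds4 hP).cv_eq hy]
      exact (h.holds4 hP).dxy hd
  base := rfl

theorem xm_gen : Subgroup.closure {x | ∃ l < 4, xm l = x} = ⊤ := by
  have h := Subgroup.closure_closure_coe_preimage (k := Set.range fun l : Fin 4 => letter l)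
  refine top_le_iff.1 (h.symm.le.trans (Subgroup.closure_mono ?_))
  rintro x ⟨l, hl⟩
  refine ⟨l, l.isLt, Subtype.ext ?_⟩
  simp only [xm, dif_pos l.isLt]
  exact hl

theorem certComplete : Complete certEqB certSys xm 4 certReps certIdents certSts where
  gen := xm_gen
  first := certReps_ok.1
  nonempty := certReps_ok.2
  moves l hl := by
    interval_cases l
    · exact ⟨_, certMoves0_ok⟩
    · exact ⟨_, certMoves1_ok⟩
    · exact ⟨_, certMoves2_ok⟩
    · exact ⟨_, certMoves3_ok⟩
  cover k hk := by
    have hk' : k < 7 := hk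
    interval_cases k
    · exact ⟨_, certCover0_ok⟩
    · exact ⟨_, certCover1_ok⟩
    · exact ⟨_, certCover2_ok⟩
    · exact ⟨_, certCover3_ok⟩
    · exact ⟨_, certCover4_ok⟩
    · exact ⟨_, certCover5_ok⟩
    · exact ⟨_, certCover6_ok⟩

/-- The order bound, given the order of the cover and the separating points. -/
theorem card_closure_le_of [Finite M] (hcard : Nat.card Cm = 2903040) (hP : PtsFaithful) (h : Amal ι n) :
    Nat.card (Subgroup.closure (Set.range ι ∪ {n})) ≤ 495766656000 := by
  classical
  have H := h.holds hP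
  have hv : Valid certSys xm ι n certIdents certSts := H.run_spec valid_nil certRun
  have hlen : certSys.base.length = 7 := rfl
  have hsub := H.closure_le hv certComplete (by rw [hlen]; norm_num)
  have h1 : Nat.card (Subgroup.closure (Set.range ι ∪ {n})) ≤
      ∑ k ∈ Finset.range certSys.base.length, (dbl certSys xm ι n k).ncard :=
    (le_of_eq (Nat.card_coe_set_eq _)).trans
      ((Set.ncard_le_ncard hsub (Set.toFinite _)).trans (Finset.set_ncard_biUnion_le _ _))
  have h0 : Nat.card Cm ≤ Nat.card (baseStab certSys xm ι n 0) := by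
    refine Nat.card_le_card_of_injective (fun c : Cm => (⟨c, ?_⟩ : baseStab certSys xm ι n 0)) ?_
    · show SameCoset ι _ _
      rw [H.base]
      exact ⟨c, by simp [baseVal]⟩
    · intro a b e
      exact congrArg Subtype.val e
  have hb : ∀ k N, 0 < N → N ≤ Nat.card (baseStab certSys xm ι n k) →
      (dbl certSys xm ι n k).ncard ≤ 2903040 * (2903040 / N) := fun k N hN hle => by
    have := card_dbl_le (Y := certSys) (xm := xm) (ι := ι) (n := n) k N hN hle
    rwa [hcard, Nat.card_coe_set_eq] at this
  have hs := fun {k N els} e => H.stab_ge hv certSig_spec (k := k) (N := N) (els := els) e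
  have b0 := hb 0 2903040 (by norm_num) (hcard ▸ h0)
  have b1 := hb 1 4608 (by norm_num) (hs certStab1_ok)
  have b2 := hb 2 96 (by norm_num) (hs certStab2_ok)
  have b3 := hb 3 36 (by norm_num) (hs certStab3_ok)
  have b4 := hb 4 324 (by norm_num) (hs certStab4_ok)
  have b5 := hb 5 60 (by norm_num) (hs certStab5_ok)
  have b6 := hb 6 1512 (by norm_num) (hs certStab6_ok)
  rw [hlen] at h1
  simp only [Finset.sum_range_succ, Finset.sum_range_zero, zero_add] at h1
  omega

end CfsgLib.CoThreeRec
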