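import Cfsg.Agent.Lib.CoThreeRec.CertSys

/-!
# The moves of the representatives
-/

set_option autoImplicit false
set_option maxRecDepth 100000

namespace CfsgLib.CoThreeRec

theorem certMoves0_ok : movesB certEqB certSys certReps certMoves0 0 = true := by decide +kernel

theorem certMoves1_ok : movesB certEqB certSys certReps certMoves1 1 = true := by decide +kernel

theorem certMoves2_ok : movesB certEqB certSys certReps certMoves2 2 = true := by decide +kernel

theorem certMoves3_ok : movesB certEqB certSys certReps certMoves3 3 = true := by decide +kernel

theorem certReps_ok : certReps.getD 0 [] = [] ∧ 0 < certReps.length := by decide +kernel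

end CfsgLib.CoThreeRec
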