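import Cfsg.Agent.Lib.CoThreeRec.Walk

/-!
# Certificate data: relators, pairs, base elements and steps
-/

set_option autoImplicit false
set_option maxRecDepth 100000

namespace CfsgLib.CoThreeRec

/-- The relators, cut at the further element. -/
def certRels : List (List (List ℕ)) := [
  [[0], [2, 2, 2, 1, 1, 2, 0, 3, 0, 3, 0, 2, 2, 1]],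
  [[3, 0, 0, 2], [1, 3, 3, 3, 0, 3, 3, 3, 1, 2, 0, 3, 1]],
  [[2, 0, 0, 3], [3, 1, 1, 3, 3, 0, 2, 0, 0, 2, 2, 0, 3, 1]],
  [[3, 3, 3, 0, 2, 1, 1, 2, 2], [1, 1, 3, 0, 0, 3, 0, 3, 0, 0, 3, 1, 2, 1, 2]],
  [[], []],
  [[3, 3, 1, 3, 0, 0, 3, 3], [2], [0, 0, 2, 2, 1, 2, 1, 3, 0, 3, 3, 0, 3]],
  [[3, 1, 3, 0, 0, 2, 2], [3, 3, 1, 1, 2, 0, 2], [1, 3, 0, 3, 1, 1, 3, 0, 2, 1, 3, 3, 3, 1]]]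

/-- The given conjugation pairs. -/
def certPairs4 : List (List ℕ × List ℕ) := [
  ([0], [0, 3, 3, 1, 2, 1, 2, 1, 3, 0, 0, 3, 3, 3]),
  ([3, 0, 0, 2], [0, 2, 1, 3, 0, 2, 2, 2, 1, 2, 2, 2, 0]),
  ([2, 0, 0, 3], [0, 2, 1, 3, 3, 1, 1, 3, 1, 2, 2, 0, 0, 2]),
  ([3, 3, 3, 0, 2, 1, 1, 2, 2], [3, 0, 3, 0, 2, 1, 1, 2, 1, 2, 1, 1, 2, 0, 0])]

/-- Derived pairs: a product and short words for both sides, a part. -/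
def certDerivPart0 : List (List ℕ × List ℕ × List ℕ) := [
  ([0], [0], [0, 3, 3, 1, 2, 1, 2, 1, 3, 0, 0, 3, 3, 3]),
  ([1], [3, 0, 0, 2], [0, 2, 1, 3, 0, 2, 2, 2, 1, 2, 2, 2, 0]),
  ([2], [2, 0, 0, 3], [0, 2, 1, 3, 3, 1, 1, 3, 1, 2, 2, 0, 0, 2]),
  ([3], [3, 3, 3, 0, 2, 1, 1, 2, 2], [3, 0, 3, 0, 2, 1, 1, 2, 1, 2, 1, 1, 2, 0, 0]),
  ([0, 0], [0, 0], [1, 2, 2, 0, 0, 0, 0, 3, 0, 3, 1]),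
  ([0, 1], [3, 1, 1, 2, 1], [3, 1, 2, 2, 1, 2, 0, 2, 1, 2, 0, 2]),
  ([0, 2], [0, 2, 0, 0, 3], [2, 1, 2, 0, 3, 3, 0, 0, 0, 2, 2, 2]),
  ([0, 0, 1, 0, 2, 1, 1], [1, 3, 0, 0, 2, 2, 1, 1, 3], [3, 0, 3, 1, 2, 0, 3, 0, 3, 3, 1, 3, 0]),
  ([1, 0], [3, 0, 0, 2, 0], [3, 1, 3, 3, 3, 0, 2, 1, 1, 3, 0, 3, 3, 3, 0, 2, 0]),
  ([1, 1], [3, 0, 0, 0, 0, 2], [0, 3, 0, 3, 1, 1, 2, 2, 2, 1, 1, 3, 0, 2, 0]),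
  ([1, 2], [3, 0, 0, 2, 2, 0, 0, 3], [0, 0, 3, 0, 3, 1, 3, 0, 2, 1, 2, 2, 2, 0]),
  ([0, 1, 1, 0, 2, 1, 0], [2, 1, 1, 3, 1, 3, 0, 0, 2], [3, 1, 2, 1, 2, 0, 3, 3, 3, 0, 3, 3, 0, 2, 0]),
  ([2, 0], [2, 0, 0, 3, 0], [2, 1, 1, 2, 2, 0, 3, 1, 2, 2, 2, 1, 3, 1]),
  ([1, 1, 2, 1, 1, 0], [2, 1, 1, 3, 1], [3, 3, 3, 1, 1, 1, 2, 2, 1, 3, 0, 3]),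
  ([0, 0, 0, 0, 0, 2, 0], [1, 2, 0, 0, 3, 1], [0, 2, 2, 0, 0, 0, 0, 3, 1, 3, 0]),
  ([1, 0, 1, 1], [1, 3, 0, 0, 2], [2, 0, 2, 0, 0, 0, 0, 3, 0, 0, 3, 0, 0]),
  ([2, 0, 1, 0], [2, 0, 0, 3, 3, 1, 1, 2], [3, 1, 1, 3, 3, 0, 3, 1, 2, 0, 2, 1, 2]),
  ([0, 0, 0, 0, 1], [0, 3, 1, 1, 2, 0], [0, 2, 2, 2, 1, 1, 1, 2, 0, 2, 2, 1, 3]),
  ([0, 0, 0], [0, 0, 0], [0, 3, 3, 0, 3, 0, 0, 3, 1, 2, 1, 1, 1, 2]),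
  ([0, 0, 1], [3, 0, 0, 2, 0, 0], [3, 3, 0, 3, 3, 1, 2, 0, 3, 3, 0, 2, 0, 2]),
  ([0, 0, 2], [2, 0, 0, 3, 0, 0], [3, 0, 3, 1, 2, 0, 3, 0, 3, 3, 1, 3, 0, 0, 0]),
  ([1, 2, 2, 2], [3, 0, 0, 2, 2, 1, 1, 3], [3, 0, 3, 1, 3, 0, 2, 1, 2, 2, 0, 0, 2]),
  ([0, 1, 0], [3, 1, 1, 2], [1, 3, 3, 3, 0, 3, 3, 3, 1, 2, 0, 3, 1]),
  ([0, 1, 1], [0, 3, 0, 0, 0, 0, 2], [2, 1, 1, 2, 2, 0, 2, 0, 2, 0, 3, 3, 1]),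
  ([3, 3, 0, 0, 0, 2, 3], [1, 2, 1, 1, 3, 3, 1, 1, 2, 1], [3, 3, 1, 3, 1, 2, 2, 1, 3, 1, 3, 3]),
  ([0, 2, 0], [0, 2, 0, 0, 3, 0], [2, 1, 3, 3, 0, 0, 0, 0, 2, 2]),
  ([0, 1, 1, 2, 1, 1, 0], [1, 2, 1, 1, 3, 0], [2, 1, 1, 3, 1, 2, 1, 1, 3]),
  ([2, 1, 0, 1], [2, 0, 0, 3, 1], [3, 0, 3, 1, 2, 0, 3, 1, 2, 0, 2, 2, 1, 2]),
  ([0, 2, 0, 1, 0], [0, 2, 0, 0, 3, 3, 1, 1, 2], [3, 1, 1, 1, 2, 2, 2, 2, 1, 2, 1, 2, 1, 1, 2, 2]),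
  ([0, 0, 0, 0, 0, 1], [3, 1, 1, 2, 0, 0, 0], [3, 1, 1, 2, 0, 0, 0]),
  ([1, 0, 1], [1], [2, 2, 2, 1, 1, 2, 0, 3, 0, 3, 0, 2, 2, 1]),
  ([2, 2, 2], [2, 1, 1, 3], [3, 1, 1, 3, 3, 0, 2, 0, 0, 2, 2, 0, 3, 1]),
  ([2, 0, 2, 0, 3, 3, 3], [1, 2, 1, 1, 3, 1, 1], [3, 1, 2, 0, 2, 0, 3, 1, 2, 2, 0, 3, 0, 3, 1]),
  ([1, 1, 0], [3, 0, 0, 0, 0, 2, 0], [3, 1, 2, 1, 2, 1, 2, 0, 3, 0, 2, 0, 2, 1]),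
  ([0, 0, 0, 1, 2, 2, 2], [3, 1, 1, 2, 0, 2, 1, 1, 3], [2, 0, 0, 3, 3, 3, 3, 0, 2, 1, 1, 2, 2]),
  ([1, 0, 1, 2], [1, 2, 0, 0, 3], [3, 3, 3, 0, 3, 3, 3, 0, 2, 0, 3, 1, 1]),
  ([1, 2, 0], [3, 0, 0, 2, 2, 0, 0, 3, 0], [0, 3, 1, 2, 0, 0, 3, 3, 1, 2, 0, 0, 3, 3]),
  ([0, 0, 0, 1, 1, 2, 0], [2, 1, 1, 3, 1, 2, 0, 0, 3], [2, 0, 2, 0, 0, 3, 0, 2, 2, 1, 1, 3, 0, 2]),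
  ([0, 2, 0, 2, 3, 3, 3], [2, 1, 1, 3, 1, 1, 1], [1, 3, 3, 1, 3, 1, 2, 2, 1, 3, 1, 3, 3, 1]),
  ([0, 0, 0, 0, 0], [1, 1, 1], [2, 1, 3, 0, 0, 3, 3, 0, 2, 1, 3, 3, 3, 0]),
  ([0, 0, 2, 0, 2, 3, 3, 3], [1, 2, 1, 1, 3, 1], [3, 3, 0, 0, 0, 0, 2, 2, 0, 3]),
  ([0, 0, 0, 0, 1, 1], [1, 3, 0, 0, 0, 0, 2, 0], [1, 2, 2, 1, 3, 1, 3, 3, 1, 2, 2, 2, 0, 3, 0]),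
  ([0, 0, 1, 1], [3, 0, 0, 0, 0, 2, 0, 0], [2, 0, 3, 3, 3, 0, 2, 2, 1, 2, 1, 3, 3, 0, 0]),
  ([2, 1, 0, 1, 1], [2, 0, 0, 3, 1, 3, 0, 0, 2], [3, 3, 0, 0, 3, 1, 2, 2, 2, 2, 1, 1, 3]),
  ([0, 0, 1, 1, 0], [1, 3, 0, 0, 0, 0, 2], [0, 3, 1, 3, 1, 2, 1, 3, 0, 3, 0, 3, 0, 2]),
  ([0, 0, 2, 2, 2, 0], [2, 1, 1, 3, 0, 0, 0], [3, 1, 2, 1, 2, 0, 3, 0, 2, 2, 1, 3, 3]),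
  ([0, 0, 2, 0, 1], [2, 0, 0, 3, 3, 1, 1, 2, 0], [1, 2, 0, 2, 2, 1, 2, 1, 3, 0, 2, 1, 2]),
  ([0, 0, 0, 1, 2], [3, 1, 1, 2, 0, 2, 0, 0, 3], [1, 2, 0, 3, 0, 3, 0, 2, 2, 0, 2, 1, 2, 2, 0]),
  ([0, 0, 2, 2, 2], [2, 1, 1, 3, 0, 0], [2, 2, 2, 0, 2, 1, 1, 1, 2, 0, 3, 0, 3]),
  ([0, 0, 0, 1, 0], [3, 1, 1, 2, 0, 0], [3, 3, 1, 3, 3, 1, 2, 0, 3, 1, 2]),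
  ([0, 2, 1, 0, 1], [1, 2, 0, 0, 3, 0], [2, 0, 0, 3, 0, 2, 0, 0, 3]),
  ([0, 2, 2, 2, 0], [0, 2, 1, 1, 3, 0], [1, 2, 0, 2, 0, 0, 0, 0, 3, 3, 1]),
  ([0, 0, 0, 0, 0, 2], [1, 2, 0, 0, 3, 1, 1], [2, 2, 0, 3, 3, 1, 2, 1, 3, 0, 3, 0, 2]),
  ([0, 0, 0, 0, 0, 0], [1, 1], [0, 2, 1, 2, 0, 0, 0, 0, 3, 3, 0]),
  ([0, 0, 0, 0], [0, 0, 0, 0], [2, 2, 2, 2, 2, 2, 2, 2, 2, 2]),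
  ([0, 0, 0, 1], [3, 1, 1, 2, 0], [1, 2, 2, 1, 3, 1, 2, 2, 1, 2, 1, 2, 0]),
  ([0, 0, 0, 2], [0, 2, 0, 0, 3, 0, 0], [0, 2, 2, 0, 2, 0, 3, 3, 0, 2, 0, 2, 2, 0]),
  ([0, 0, 1, 0], [0, 3, 1, 1, 2], [3, 0, 2, 0, 0, 3, 3, 0, 3, 1, 1, 2, 2, 0]),
  ([0, 0, 2, 0], [2, 0, 0, 3, 0, 0, 0], [0, 2, 1, 2, 1, 3, 3, 0, 2, 1, 3, 1, 3, 0, 2]),
  ([2, 2, 2, 0], [2, 1, 1, 3, 0], [0, 3, 3, 3, 0, 3, 3, 3, 0, 2, 0, 3, 1]),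
  ([0, 0, 2, 0, 1, 0], [2, 0, 0, 3, 3, 1, 1, 2, 0, 0], [1, 2, 2, 2, 1, 1, 1, 2, 1, 1, 1, 2, 2, 1]),
  ([0, 0, 0, 0, 0, 0, 1], [3, 0, 0, 2, 1, 1], [3, 3, 3, 0, 2, 1, 1, 2, 1, 1, 2]),
  ([0, 2, 2, 2], [0, 2, 1, 1, 3], [3, 0, 3, 3, 1, 3, 0, 2, 1, 3, 0, 2, 1, 2]),
  ([1, 1, 2, 1, 1], [2, 1, 1, 3, 1, 1], [1, 2, 0, 3, 0, 3, 0, 2, 2, 0, 2, 1, 2, 2, 1]),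
  ([0, 1, 1, 0], [0, 3, 0, 0, 0, 0, 2, 0], [2, 2, 0, 3, 0, 3, 3, 1, 2, 2, 2, 1, 3, 0, 0]),
  ([0, 0, 0, 0, 0, 2, 0, 1], [1, 2, 0, 0, 3, 1, 3, 0, 0, 2], [2, 0, 3, 1, 3, 0, 2, 2, 0, 2, 1, 2, 2, 0, 0]),
  ([0, 1, 2, 0], [3, 1, 1, 2, 1, 2, 0, 0, 3, 0], [2, 2, 0, 2, 0, 3, 3, 0, 2, 0, 2, 2]),
  ([0, 0, 0, 1, 1], [3, 0, 0, 0, 0, 2, 1], [2, 0, 0, 2, 1, 3, 1, 3, 1, 3, 3, 3, 0]),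
  ([2, 0, 2, 3, 3, 3], [0, 2, 1, 1, 3, 0, 0, 0], [0, 2, 0, 0, 3, 0, 0, 0]),
  ([0, 0, 0, 2, 0, 1], [0, 2, 0, 0, 3, 3, 1, 1, 2, 0], [1, 2, 0, 3, 0, 2, 2, 2, 1, 2, 2, 0, 0, 2]),
  ([0, 0, 0, 2, 1, 1], [2, 0, 0, 3, 0, 2, 1, 1, 3, 0], [1, 3, 1, 3, 3, 1, 2, 1, 2, 1, 2, 2, 2, 0]),
  ([0, 0, 0, 2, 2, 2], [0, 2, 1, 1, 3, 0, 0], [0, 0, 3, 0, 3, 1, 3, 0, 2, 1, 2, 2, 2, 1]),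
  ([0, 0, 0, 0, 1, 0], [0, 3, 1, 1, 2, 0, 0], [1, 2, 1, 3, 3, 3, 0, 2, 2, 2, 2, 1, 2, 1, 2, 0]),
  ([0, 0, 0, 0, 0, 0, 2], [2, 0, 0, 3, 1, 1], [2, 2, 1, 1, 1, 3, 3, 1, 2, 2, 0, 3, 3]),
  ([1, 2, 1, 0, 1], [3, 0, 0, 2, 2, 0, 0, 3, 1], [2, 1, 3, 3, 0, 3, 0, 3, 3, 3, 3, 1, 2, 2, 2, 0]),
  ([0, 0, 1, 1, 2, 1], [2, 1, 1, 3, 3, 1, 1, 2], [3, 1, 3, 1, 3, 0, 2, 1, 2, 2, 0, 0, 2, 0]),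
  ([1, 1, 0, 1], [3, 0, 0, 2, 1], [1, 3, 3, 0, 0, 2, 1, 2, 2, 1, 1, 3, 1, 2]),
  ([0, 0, 0, 0, 2], [2, 0, 0, 3, 0, 0, 0, 0], [0, 0, 2, 2, 2, 0, 2, 0, 2, 0, 3, 3, 0, 0]),
  ([0, 0, 0, 1, 2, 2, 2, 0], [3, 1, 1, 2, 0, 2, 1, 1, 3, 0], [1, 2, 0, 3, 1, 3, 0, 2, 2, 0, 2, 1, 2, 2, 0]),
  ([1, 0, 2, 0, 2, 3, 3, 3], [0, 3, 1, 1, 2, 0, 2, 1, 1, 3, 0], [3, 1, 2, 0, 0, 3, 3, 0, 2, 0, 0, 3, 3]),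
  ([0, 0, 0, 0, 2, 0], [2, 0, 0, 3, 1, 1, 1], [0, 3, 3, 3, 0, 3, 1, 2, 0, 2, 1, 2, 1, 1]),
  ([0, 0, 0, 0, 0, 1, 0], [1, 3, 0, 0, 2, 1], [2, 0, 3, 3, 1, 3, 0, 0, 0, 3, 3, 3, 1]),
  ([0, 0, 1, 1, 0, 2, 0], [2, 1, 1, 3, 0, 2, 0, 0, 3, 0, 0], [2, 0, 2, 1, 1, 2, 1, 2, 0, 2, 0, 2, 2]),
  ([0, 1, 1, 2, 1, 1], [1, 2, 1, 1, 3], [2, 2, 1, 1, 2, 2, 2, 2, 0, 2, 1, 3, 0, 0]),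
  ([0, 0, 0, 0, 2, 2, 2], [2, 1, 1, 3, 0, 0, 0, 0], [0, 0, 2, 2, 1, 3, 1, 3, 1, 3, 3, 3, 0, 0]),
  ([3, 3, 2, 2, 2, 0, 3], [1, 3, 0, 0, 2, 2, 0, 0, 3, 1], [2, 1, 3, 1, 2, 2, 2, 1, 2, 2, 2, 1, 1]),
  ([3, 2, 3, 3, 3, 3], [2, 1, 1, 3, 3, 1, 1, 2, 0], [3, 3, 3, 1, 1, 1, 3, 3, 1, 3, 1, 3, 3, 1]),
  ([0, 0, 2, 0, 1, 1], [1, 2, 0, 0, 3, 1, 2, 1, 1, 3], [1, 3, 3, 3, 0, 3, 0, 3, 0, 2, 2, 0, 2, 0]),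
  ([0, 0, 0, 2, 0], [0, 2, 0, 0, 3, 0, 0, 0], [0, 2, 1, 1, 3, 0, 0, 0]),
  ([0, 2, 1, 1, 0], [2, 0, 0, 3, 0, 2, 1, 1, 3], [2, 1, 2, 0, 0, 3, 0, 2, 0, 2, 0, 0, 3, 0, 2, 0]),
  ([0, 0, 0, 1, 1, 2, 1], [0, 2, 1, 1, 3, 3, 1, 1, 2], [3, 0, 0, 3, 0, 3, 0, 3, 3, 3, 3, 1, 2, 2, 1, 1]),
  ([0, 1, 1, 0, 1], [1, 3, 0, 0, 2, 0], [3, 0, 0, 3, 1, 3, 0, 3, 0, 3, 1, 3, 0, 2]),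
  ([1, 0, 2, 1, 1, 0], [1, 3, 0, 0, 2, 2, 1, 1, 3, 1], [2, 0, 3, 1, 3, 3, 3, 3, 0, 0, 3, 3, 0, 0]),
  ([3, 0, 2, 2, 2, 3, 3], [3, 0, 0, 2, 2, 0, 0, 3, 1, 1], [3, 3, 1, 3, 1, 2, 0, 2, 2, 0, 3, 0, 2]),
  ([1, 0, 1, 1, 2], [1, 3, 0, 0, 2, 2, 0, 0, 3], [0, 2, 2, 0, 2, 0, 2, 2, 0, 0, 0, 2, 2, 2]),
  ([0, 0, 2, 2, 3, 3, 1, 2], [0, 0, 3, 3, 3, 0, 3, 3, 3, 0, 2, 0, 3], [0, 2, 1, 1, 3, 3, 1, 1, 2, 0]),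
  ([1, 2, 1, 0, 3, 2], [2, 2, 2, 2, 1, 3, 3, 3, 0, 2, 1, 1, 1], [2, 2, 0, 3, 1, 3, 1, 1, 1, 3, 3, 3, 3, 1, 2, 2, 1]),
  ([0, 0, 2, 0, 2, 2, 3], [2, 1, 3, 1, 2, 2, 2, 1, 2, 2, 2, 1, 1], [1, 3, 0, 0, 2, 2, 0, 0, 3, 1]),
  ([2, 3, 0, 2, 0, 3, 0], [3, 3, 0, 3, 3, 3, 3, 3, 3, 1, 2, 1, 2, 2, 0], [2, 2, 2, 1, 3, 1, 2, 2, 1, 1, 1, 2, 0, 0, 2]),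
  ([0, 0, 3, 3, 2], [2, 2, 2, 0, 2, 2, 2, 1, 2, 0, 2, 0, 0, 0], [3, 3, 1, 3, 3, 0, 2, 1, 2, 2, 1, 2, 2, 2]),
  ([2, 1, 1, 3, 1, 0], [2, 2, 2, 2, 0, 3, 1, 3, 1, 2, 0, 2, 2, 1], [3, 3, 3, 0, 3, 3, 0, 3, 1, 2, 2, 0, 2, 2]),
  ([0, 0, 0, 1, 3, 0], [3, 1, 1, 3, 0, 0, 3, 1, 2, 2, 2], [3, 0, 2, 0, 0, 3, 3, 0, 3, 1, 1, 2, 2]),
  ([0, 3, 0, 0, 2, 3, 0], [2, 2, 2, 1, 3, 1, 2, 2, 1, 1, 1, 2, 0, 0, 2], [3, 3, 0, 3, 3, 3, 3, 3, 3, 1, 2, 1, 2, 2, 0]),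
  ([2, 3, 3, 0, 1, 1], [3, 1, 2, 1, 3, 3, 1, 3, 0, 2, 0, 2, 2], [2, 1, 1, 3, 3, 1, 1, 2, 0, 0]),
  ([1, 3, 2, 0, 2, 3, 2], [2, 2, 1, 1, 3, 1, 2, 2, 1, 1, 3, 1, 1, 1, 2], [3, 3, 3, 3, 1, 2, 2, 2, 0, 3, 0, 0, 3, 3, 0]),
  ([1, 0, 2, 3, 0, 0], [2, 1, 3, 3, 3, 0, 2, 1, 3, 3, 3, 1, 1], [1, 2, 2, 1, 1, 3, 1, 2, 0, 2, 0, 0, 3, 0, 2, 0]),
  ([2, 1, 0, 2], [3, 0, 3, 0, 3, 3, 0, 2, 0, 3, 3, 0, 0], [2, 2, 1, 3, 1, 2, 2, 1, 2, 1, 2, 1, 1]),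
  ([2, 3, 2, 0, 2], [3, 3, 1, 3, 1, 2, 0, 2, 2, 0, 3, 0, 2], [3, 0, 0, 2, 2, 0, 0, 3, 1, 1]),
  ([0, 0, 1, 3, 2, 3, 2, 1], [1, 2, 2, 1, 3, 1, 2, 2, 1, 2, 1, 2, 1], [1, 2, 2, 1, 3, 1, 2, 2, 1, 2, 1, 2, 1]),
  ([3, 1], [3, 3, 3, 0, 2, 1, 1, 2, 0, 0, 2], [3, 3, 0, 0, 2, 1, 2, 2, 1, 1, 3, 1, 2]),
  ([3, 2, 0, 2, 3, 3, 1], [0, 3, 0, 0, 0, 3, 1, 3, 0, 2, 1, 2, 2, 2, 0], [2, 1, 2, 1, 1, 3, 3, 0, 0, 2, 2]),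
  ([0, 1, 2, 2, 2, 0, 3], [0, 0, 0, 2, 0, 2, 2, 1, 3, 1, 2, 0, 0, 2, 2], [2, 1, 1, 3, 0, 2, 0, 0, 0, 0, 3, 0, 0]),
  ([3, 2, 2, 0, 3, 3, 2], [3, 3, 1, 3, 0, 3, 1, 1, 1, 3, 3, 1, 3, 0], [0, 3, 1, 3, 1, 3, 0, 3, 3, 0, 2, 1, 3]),
  ([0, 0, 2, 0, 1, 0, 3], [0, 3, 3, 1, 1, 3, 0, 2, 0, 3, 3, 1, 3, 1, 1], [3, 3, 1, 1, 2, 2, 0, 0, 3, 0, 3]),
  ([0, 3, 2, 0, 1], [3, 3, 1, 1, 3, 0, 2, 0, 3, 3, 1, 3, 1, 1, 1], [0, 2, 1, 1, 3, 0, 2, 0, 0, 0, 0, 3, 0]),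
  ([1, 1, 2, 2, 3, 0], [1, 3, 3, 1, 3, 0, 3, 0, 3, 1, 3, 1, 2, 0], [3, 1, 2, 0, 0, 3, 3, 3, 0, 0, 2, 0, 2]),
  ([0, 0, 0, 1, 2, 0, 1, 2], [0, 3, 0, 3, 0, 3, 3, 0, 2, 0, 3, 3, 0], [0, 3, 0, 3, 0, 3, 3, 0, 2, 0, 3, 3, 0]),
  ([0, 1, 0, 2, 0, 2, 3], [3, 0, 3, 0, 2, 0, 3, 1, 3, 0, 0, 3, 1, 3], [2, 0, 0, 3, 0, 3, 0, 0, 0, 0, 2]),
  ([2, 2, 1, 0], [2, 0, 0, 0, 0, 3, 3, 0, 0, 2, 0], [0, 2, 0, 0, 0, 0, 3, 3, 0, 0, 2]),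
  ([0, 1, 3, 3, 2, 3, 0], [2, 2, 1, 2, 2, 1, 2, 2, 2, 1, 3, 3, 0, 2, 0], [0, 2, 0, 3, 0, 3, 0, 0, 0, 0, 2, 0, 2]),
  ([1, 3, 2, 1, 1, 3, 1], [2, 2, 1, 1, 3, 0, 2, 2, 1, 1, 3, 1, 2], [3, 0, 2, 0, 0, 3, 3, 1, 2, 0, 0, 3, 3]),
  ([0, 0, 1, 1, 3, 2, 3, 2], [2, 2, 1, 3, 1, 2, 2, 1, 2, 1, 2, 1, 1], [3, 0, 3, 0, 3, 3, 0, 2, 0, 3, 3, 0, 0]),
  ([2, 1, 0, 3, 0, 0], [3, 1, 3, 0, 0, 0, 2, 2, 1, 2, 1, 3, 0, 3, 0], [0, 3, 3, 0, 0, 3, 0, 3, 0, 3, 3, 3, 3, 1, 2, 0]),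
  ([1, 3, 1, 0, 2, 3, 0], [3, 3, 0, 0, 3, 0, 3, 0, 2, 2, 2, 2, 2, 2, 1, 2], [2, 1, 2, 1, 1, 2, 1, 2, 0, 2, 0, 2, 0, 0, 2]),
  ([2, 2, 2, 3, 0, 0], [2, 2, 1, 3, 0, 3, 3, 1, 2, 0, 3, 3, 3], [1, 3, 3, 0, 2, 2, 2, 2, 1, 2, 1, 2, 2]),
  ([1, 3, 3, 2, 3], [2, 0, 2, 1, 1, 2, 0, 2, 1, 3, 1, 2, 1, 2], [3, 0, 0, 0, 0, 2, 1, 2, 1, 1, 3]),
  ([0, 2, 2, 1], [0, 2, 0, 0, 0, 0, 3, 3, 0, 0, 2], [2, 0, 0, 0, 0, 3, 3, 0, 0, 2, 0]),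
  ([0, 1, 2, 3, 1, 0], [0, 2, 0, 2, 2, 1, 2, 1, 3, 0, 2, 0, 2, 0], [2, 2, 1, 3, 3, 3, 0, 2, 2, 2, 2, 1, 2, 0]),
  ([1, 3, 0, 1, 2], [0, 3, 1, 3, 0, 2, 1, 3, 3, 3, 3, 1, 2, 2, 0], [2, 0, 3, 0, 3, 0, 0, 0, 0, 2, 0, 2, 0]),
  ([2, 3, 0, 1, 3, 2, 0], [0, 3, 3, 0, 3, 0, 0, 3, 1, 2, 0, 2, 0, 0], [2, 2, 0, 3, 0, 3, 3, 1, 2, 2, 2, 1, 3, 1]),
  ([2, 0, 2, 3, 2, 0], [2, 1, 2, 1, 3, 3, 3, 3, 3, 1, 3, 1, 2, 0], [3, 0, 3, 3, 3, 3, 0, 0, 2, 0, 2, 2, 2, 1, 2]),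
  ([0, 3, 2, 2, 3, 1, 0], [3, 3, 3, 3, 3, 3, 1, 3, 3, 3, 0, 2, 0], [2, 2, 2, 2, 1, 3, 3, 1, 3, 0, 2, 2, 0, 2, 2, 0]),
  ([0, 2, 2, 1, 3, 1], [1, 3, 0, 2, 0, 2, 1, 2, 1, 2, 0, 2, 2, 0], [3, 3, 0, 0, 2, 0, 2, 2, 1, 1, 3, 0, 2]),
  ([3, 0, 2, 1, 3], [3, 3, 3, 3, 1, 2, 2, 2, 0, 3, 0, 0, 3, 3, 0], [2, 2, 1, 1, 3, 1, 2, 2, 1, 1, 3, 1, 1, 1, 2]),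
  ([0, 2, 0, 1, 3, 2], [2, 2, 0, 3, 0, 3, 1, 3, 3, 0, 0, 0, 0, 3, 0], [2, 2, 0, 0, 2, 2, 0, 0, 2, 2, 0, 0, 2, 2, 2]),
  ([0, 3, 2, 0, 1, 3, 1], [2, 1, 2, 1, 1, 2, 1, 2, 0, 2, 0, 2, 0, 0, 2], [3, 3, 0, 0, 3, 0, 3, 0, 2, 2, 2, 2, 2, 2, 1, 2]),
  ([0, 1, 1, 0, 2, 0, 3], [3, 3, 1, 3, 3, 3, 1, 3, 0, 0, 3, 0, 2], [3, 1, 3, 1, 3, 0, 3, 3, 0, 2, 1, 3, 0]),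
  ([0, 2, 3, 0, 2, 2, 2], [1, 2, 2, 0, 3, 3, 1, 2, 1, 3, 0, 3, 1, 2], [2, 0, 3, 1, 2, 2, 1, 2, 0, 2, 0, 2, 1]),
  ([3, 2, 0, 2, 3], [3, 0, 2, 0, 0, 3, 3, 1, 2, 0, 0, 3, 3], [2, 2, 1, 1, 3, 0, 2, 2, 1, 1, 3, 1, 2]),
  ([1, 0, 1, 3, 0, 2], [2, 2, 2, 0, 2, 0, 2, 1, 1, 1, 3, 0, 3], [3, 3, 0, 3, 0, 3, 3, 3, 3, 1, 2, 2, 0]),
  ([0, 0, 0, 0, 3, 3, 3], [3, 0, 2, 2, 1, 2, 0, 2, 1, 2, 0, 2, 0], [3, 0, 2, 2, 1, 2, 0, 2, 1, 2, 0, 2, 0]),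
  ([1, 3, 2, 1, 1], [3, 1, 2, 1, 1, 2, 0, 2, 2, 2, 0, 2, 2], [1, 2, 0, 3, 1, 2, 2, 1, 2, 0, 2, 0, 2])]

/-- Derived pairs: a product and short words for both sides. -/
def certDeriv : List (List ℕ × List ℕ × List ℕ) := certDerivPart0

/-- The base elements. -/
def certBase : List (List (List ℕ)) := [
  [],
  [[]],
  [[], [2, 2]],
  [[], [2, 2, 2]],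
  [[], [2, 2, 0, 2]],
  [[], [2, 2], [2, 0, 2]],
  [[], [2, 2, 2], [3, 0, 2, 0, 2]]]

/-- The steps, a part. -/
def certStepsPart0 : List (Step) := [
  .link ⟨0, [], 1, []⟩,
  .link ⟨1, [2, 2], 2, []⟩,
  .link ⟨1, [2, 2, 2], 3, []⟩,
  .link ⟨1, [2, 2, 0, 2], 4, []⟩,
  .link ⟨2, [2, 0, 2], 5, []⟩,
  .link ⟨3, [3, 0, 2, 0, 2], 6, []⟩,
  .ident 0 0 (0, []) [⟨0, [], [4]⟩] [],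
  .ident 5 1 (1, [3]) [⟨6, [], []⟩, ⟨0, [3, 3, 0, 3, 3, 3], [63, 101]⟩] [2, 0, 2, 1, 1, 2, 0, 2, 0, 3, 1, 3],
  .ident 0 0 (1, [2, 2]) [⟨1, [], [4]⟩] [],
  .ident 5 1 (1, [0, 3]) [⟨6, [], [4]⟩, ⟨0, [0, 3, 3, 3, 1, 2, 0, 2], [55, 127]⟩] [0, 3, 0, 2, 1, 2, 0, 2, 0, 3, 1, 1, 3],
  .ident 0 0 (1, [2, 2, 2]) [⟨2, [], [4]⟩] [],
  .ident 0 0 (1, [2, 2, 0, 2]) [⟨3, [], [4]⟩] [],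
  .ident 5 2 (1, [2, 2, 2, 1, 2, 2]) [⟨6, [], [63, 101]⟩, ⟨0, [1, 3, 3, 0, 3, 3, 3, 0, 2], [16, 108]⟩] [3, 1, 2, 1, 2, 2, 1, 3, 3, 3, 3, 0, 0, 0],
  .ident 6 0 (1, [3, 3, 1, 1, 2, 0, 2]) [⟨6, [], []⟩, ⟨0, [3, 3, 1, 1, 2, 0, 2], []⟩] [0, 2, 2, 2, 0, 3, 1, 2, 0, 0, 2, 1, 2, 0],
  .stab 0 0 (1, [3, 3, 1, 1, 2, 0, 2]) [⟨13, [], [83, 103]⟩] ⟨13, [], [41, 106]⟩ [0, 3, 0, 3, 1, 1, 2, 2, 2, 1, 1, 3, 0, 2, 0],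
  .ident 0 0 (1, [3, 3, 3, 1, 2, 0, 2]) [⟨9, [0], [55, 138]⟩] [3, 0, 2, 2, 2, 2, 1, 1, 2, 2, 2, 1, 1, 3, 0],
  .stab 5 0 (1, [3, 3, 3, 1, 2, 0, 2]) [⟨6, [], [5, 142]⟩, ⟨0, [3, 3, 3, 1, 2, 0, 2], [14, 140]⟩] ⟨9, [], [6, 142]⟩ [0, 3, 3, 1, 2, 1, 2, 1, 3, 0, 0, 3, 3, 3],
  .stab 0 0 (1, [3, 3, 3, 1, 2, 0, 2]) [⟨9, [0], [55, 138]⟩] ⟨9, [1, 0], [6, 102]⟩ [3, 1, 3, 0, 2, 1, 1, 2, 1, 2, 2, 0, 0, 0],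
  .stab 6 0 (1, [3, 3, 3, 1, 2, 0, 2]) [⟨9, [2, 1], [29, 129]⟩, ⟨9, [1, 2, 1], [6, 102]⟩] ⟨9, [1, 2, 1], [66, 130]⟩ [0, 0, 2, 2, 0, 3, 0, 3, 1, 3, 3, 3, 0],
  .stab 0 0 (1, [0, 2, 2, 2, 1, 2, 2]) [⟨12, [], [85, 136]⟩] ⟨7, [3, 1], [70, 115]⟩ [3, 3, 0, 2, 1, 2, 1, 2, 1, 3, 3, 3],
  .ident 5 1 (1, [0, 2, 2, 2, 1, 2, 2]) [⟨7, [1, 4], [10, 132]⟩, ⟨7, [1], [67, 110]⟩] [2, 2, 0, 3, 3, 1, 3, 3, 0, 3, 3, 0, 2, 2],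
  .ident 5 2 (1, [3, 0, 2, 2, 2, 2, 2]) [⟨7, [4], [22, 122]⟩, ⟨1, [0, 4, 1, 0], [66, 129]⟩] [0, 3, 3, 3, 0, 2, 2, 2, 1, 1, 3, 1, 1, 1],
  .ident 5 0 (1, [3, 0, 3, 3, 3, 0, 3]) [⟨15, [4, 3], [62, 128]⟩, ⟨1, [1, 2, 2, 0], [40, 137]⟩] [3, 3, 1, 1, 1, 2, 0, 2, 2, 1, 3, 3, 0, 0],
  .stab 5 0 (1, [3, 1, 3, 3, 3, 0, 3]) [⟨7, [0, 4, 1], [95, 119]⟩, ⟨1, [0, 4, 2], [44, 102]⟩] ⟨17, [], [58]⟩ [2, 2, 2, 2, 2, 2, 2, 2, 2, 0, 0, 2],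
  .ident 5 1 (2, [3]) [⟨8, [], []⟩, ⟨2, [0], [32, 129]⟩] [0, 3, 0, 2, 0, 3, 0, 2, 2, 2, 1, 3],
  .ident 5 1 (2, [0, 3]) [⟨8, [], [4]⟩, ⟨3, [2, 3, 0], [18, 114]⟩] [0, 3, 3, 1, 1, 3, 0, 3, 3, 3, 1, 3, 0, 2],
  .ident 0 0 (2, [2, 0, 2]) [⟨4, [], [4]⟩] [],
  .stab 5 1 (2, [0, 3, 3, 3, 0, 2]) [⟨16, [], [60]⟩, ⟨7, [0], [37, 125]⟩] ⟨1, [0, 4, 1], [36, 129]⟩ [3, 0, 3, 1, 3, 1, 2, 1, 3, 3, 0],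
  .ident 5 1 (2, [3, 0, 3, 0, 2, 2]) [⟨16, [], [40, 116]⟩, ⟨1, [4, 1, 1, 1], [34, 107]⟩] [1, 1, 2, 2, 2, 1, 1, 3, 0, 2, 0, 3, 1, 1],
  .stab 5 0 (2, [3, 1, 2, 1, 2, 2]) [⟨16, [], [4, 108]⟩, ⟨1, [4, 2, 1, 1], [20, 123]⟩] ⟨21, [], [66, 144]⟩ [2, 1, 1, 2, 2, 1, 1, 2, 0, 3, 0, 2, 2, 0],
  .ident 5 2 (2, [2, 2, 2, 1, 2, 2]) [⟨8, [], [63, 101]⟩, ⟨1, [5, 5, 2], [14, 120]⟩] [1, 1, 2, 1, 2, 0, 0, 2, 2, 2, 2, 1, 2, 0],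
  .ident 5 2 (2, [0, 0, 3, 1, 2, 2]) [⟨8, [6, 6], [23, 100]⟩, ⟨3, [4, 4, 1], [12, 107]⟩] [2, 2, 1, 3, 1, 3, 3, 1, 2, 2, 2, 1, 3, 0, 2],
  .ident 5 2 (2, [2, 0, 2, 2, 2, 2]) [⟨8, [6], [79, 106]⟩, ⟨1, [2, 0, 3], [75, 116]⟩] [2, 0, 3, 1, 3, 3, 3, 1, 2, 1, 2, 2, 1],
  .stab 6 0 (2, [2, 0, 2, 2, 2, 2]) [⟨8, [7, 6], [24, 105]⟩, ⟨1, [0], [89, 123]⟩] ⟨24, [7], [70, 106]⟩ [0, 0, 2, 2, 1, 2, 2, 2, 2, 0, 0, 2, 2, 2, 0],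
  .ident 5 1 (2, [1, 1, 2, 2, 2, 2]) [⟨21, [8, 7], [15, 115]⟩, ⟨4, [7, 8, 6, 7], [79, 99]⟩] [2, 1, 3, 3, 3, 0, 3, 3, 1, 1, 3, 1, 1, 1],
  .ident 5 0 (2, [2, 1, 2, 0, 3, 3]) [⟨22, [7, 8, 6, 8], [31, 118]⟩, ⟨4, [7, 8, 6, 7, 8, 6], [34, 99]⟩] [0, 0, 2, 2, 0, 2, 1, 2, 1, 3, 3, 0, 3, 1],
  .ident 5 2 (2, [3, 3, 1, 1, 3, 3]) [⟨22, [7, 8, 6, 7], [98, 105]⟩, ⟨4, [6, 8, 6, 6, 6], [25, 110]⟩] [2, 0, 2, 2, 1, 3, 1, 2, 0, 0, 2, 2, 1, 2],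
  .ident 0 0 (2, [3, 3, 0, 3, 3, 3]) [⟨16, [], [94, 133]⟩] [3, 3, 1, 3, 3, 1, 1, 3, 0, 2, 2, 0, 3, 0],
  .ident 5 0 (2, [3, 3, 3, 1, 2, 0, 2]) [⟨8, [], [5, 142]⟩, ⟨2, [4, 3, 0], [75, 128]⟩] [2, 1, 1, 2, 2, 0, 3, 0, 2, 1, 2, 1, 3, 3, 0],
  .ident 5 2 (2, [0, 3, 1, 3, 3, 0, 3]) [⟨8, [6], [76, 138]⟩, ⟨2, [2, 5, 2], [81, 137]⟩] [3, 0, 3, 1, 3, 3, 0, 3, 3, 3, 0, 3, 0, 0, 0],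
  .ident 5 1 (2, [2, 2, 2, 1, 1, 2, 0, 2]) [⟨8, [7], [67, 99]⟩, ⟨2, [], [16, 99]⟩] [3, 3, 0, 3, 3, 0, 0, 3, 0, 0, 0, 0],
  .ident 5 0 (2, [0, 3, 3, 3, 1, 2, 0, 2]) [⟨8, [], [9, 142]⟩, ⟨1, [2, 0, 3, 0], [12, 144]⟩] [2, 0, 3, 0, 3, 3, 1, 3, 3, 0, 2, 1, 3, 0, 0],
  .ident 5 1 (2, [2, 2, 1, 2, 0, 0, 2, 2]) [⟨21, [8, 7], [8, 106]⟩, ⟨4, [6, 7, 6, 8, 7], [33, 136]⟩] [0, 0, 0, 3, 3, 1, 3, 0, 0, 3, 3, 0, 0, 0, 0],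
  .ident 5 2 (2, [2, 0, 0, 2, 2, 1, 2, 2]) [⟨8, [], [4, 101]⟩, ⟨3, [1, 4, 4, 0], [8, 113]⟩] [1, 2, 2, 2, 1, 3, 1, 2, 2, 0, 2, 2, 1],
  .ident 5 1 (3, [3]) [⟨10, [], []⟩, ⟨2, [5, 5], [60, 141]⟩] [0, 3, 0, 2, 2, 2, 1, 2, 2, 2, 1],
  .ident 5 1 (3, [0, 3]) [⟨10, [], [4]⟩, ⟨3, [1, 0, 3, 0], [77, 113]⟩] [2, 0, 0, 3, 3, 1, 3, 1, 2, 0, 0, 3, 0, 3],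
  .ident 0 0 (3, [3, 0, 2, 0, 2]) [⟨5, [], [4]⟩] [],
  .ident 0 0 (3, [2, 1, 1, 3, 0, 2]) [⟨29, [], [39, 141]⟩] [1, 2, 1, 1, 3, 1, 2, 2, 2, 1, 2, 2],
  .ident 5 1 (3, [0, 3, 3, 3, 0, 2]) [⟨31, [], [93, 134]⟩, ⟨21, [6, 8, 6], [26, 109]⟩] [2, 2, 1, 2, 2, 1, 3, 1, 3, 3, 1, 2, 2, 2],
  .ident 5 1 (3, [3, 0, 3, 0, 2, 2]) [⟨31, [], [63, 134]⟩, ⟨39, [6, 8, 6, 7], [17, 99]⟩] [2, 1, 3, 3, 3, 3, 1, 1, 3, 3, 1, 1, 1, 2],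
  .ident 5 0 (3, [3, 1, 2, 1, 2, 2]) [⟨31, [], [35, 104]⟩, ⟨39, [7, 8, 6, 6, 6], [15, 113]⟩] [3, 0, 2, 1, 3, 0, 2, 1, 2, 0, 3, 0, 0],
  .stab 5 2 (3, [2, 2, 2, 1, 2, 2]) [⟨10, [], [63, 101]⟩, ⟨1, [4, 2, 5, 1], [43, 121]⟩] ⟨38, [], [81, 121]⟩ [1, 2, 0, 3, 1, 3, 0, 2, 2, 0, 2, 1, 2, 2, 0],
  .stab 5 1 (3, [2, 2, 2, 1, 2, 2]) [⟨18, [9], [24, 135]⟩, ⟨22, [7, 6, 8], [29, 131]⟩] ⟨38, [6, 6, 6], [87, 109]⟩ [2, 1, 3, 1, 3, 3, 3, 3, 1, 1, 3, 1, 3, 1],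
  .ident 0 0 (3, [0, 3, 3, 1, 2, 2]) [⟨40, [10], [84, 118]⟩] [2, 1, 2, 2, 2, 1, 1, 3, 0, 2, 0, 3, 3, 3],
  .stab 5 1 (3, [0, 3, 3, 1, 2, 2]) [⟨31, [10], [24, 142]⟩, ⟨39, [6, 6, 6, 6], [72, 103]⟩] ⟨41, [], [4, 108]⟩ [0, 3, 0, 2, 2, 2, 0, 3, 3, 3, 0, 0, 3, 0],
  .ident 5 1 (3, [2, 0, 2, 2, 2, 2]) [⟨40, [10, 11, 11], [27, 131]⟩, ⟨40, [10, 11, 11], [40, 143]⟩] [2, 2, 0, 3, 1, 1, 3, 1, 1, 3, 3, 3, 0],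
  .ident 5 1 (3, [1, 2, 2, 2, 2, 2]) [⟨40, [11, 11, 11, 9, 10], [79, 124]⟩, ⟨43, [11, 11, 11], [9, 107]⟩] [1, 2, 1, 2, 0, 2, 2, 0, 3, 1, 3, 1, 2],
  .ident 5 1 (3, [0, 2, 0, 3, 0, 3]) [⟨18, [9], [19, 138]⟩, ⟨39, [7, 6, 7, 6], [47, 126]⟩] [1, 2, 0, 3, 0, 3, 0, 2, 0, 0, 2, 1, 1],
  .ident 5 0 (3, [0, 3, 0, 3, 0, 3]) [⟨40, [10, 11], [78, 135]⟩, ⟨45, [11, 11, 9, 10], [16, 143]⟩] [0, 0, 3, 3, 3, 0, 3, 1, 2, 0, 3, 0, 2],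
  .ident 5 0 (3, [1, 3, 1, 3, 0, 3]) [⟨41, [9, 10, 11], [82, 111]⟩, ⟨45, [9, 9], [74, 137]⟩] [1, 1, 1, 3, 3, 0, 2, 2, 1, 1, 2, 0, 2, 0, 0],
  .ident 0 0 (3, [1, 1, 3, 3, 0, 3]) [⟨45, [11, 11, 11, 10], [25, 116]⟩] [0, 0, 0, 0, 3, 3, 1, 2, 2, 2, 1, 3, 0, 0],
  .ident 5 0 (3, [2, 1, 3, 3, 0, 3]) [⟨45, [10], [102]⟩, ⟨46, [10, 11, 11, 9], [18, 118]⟩] [1, 2, 2, 2, 1, 3, 0, 3, 1, 3, 3, 1, 1, 3],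
  .ident 5 0 (3, [3, 3, 3, 3, 0, 3]) [⟨46, [11, 11], [59, 117]⟩, ⟨45, [10, 11, 11, 10, 9], [80, 128]⟩] [2, 0, 0, 3, 3, 3, 0, 2, 1, 1, 3, 0, 3, 1],
  .ident 5 0 (3, [1, 3, 0, 0, 3, 3]) [⟨41, [11, 11, 9, 10], [43, 99]⟩, ⟨5, [11], [74, 143]⟩] [0, 0, 3, 1, 1, 3, 1, 1, 3, 1, 2, 2, 2],
  .ident 5 1 (3, [1, 3, 0, 0, 3, 3]) [⟨50, [11, 9], [90, 137]⟩, ⟨5, [9], [47, 112]⟩] [1, 1, 1, 3, 3, 1, 2, 2, 2, 0, 2],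
  .ident 5 2 (3, [1, 3, 0, 0, 3, 3]) [⟨40, [11, 11, 11, 10, 9], [58, 108]⟩, ⟨5, [11], [76, 102]⟩] [0, 3, 3, 0, 0, 0, 0, 2, 2, 0, 0, 0],
  .ident 0 0 (3, [1, 3, 1, 1, 3, 3]) [⟨49, [11, 11, 10, 9], [54, 144]⟩] [3, 3, 0, 2, 1, 3, 0, 0, 0, 3, 3, 3, 1, 3, 3],
  .ident 0 0 (3, [3, 3, 0, 3, 3, 3]) [⟨31, [], [42]⟩] [3, 0, 2, 2, 1, 2, 1, 1, 2, 0, 3, 0, 0, 3],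
  .ident 0 0 (3, [0, 2, 2, 0, 2, 0, 2]) [⟨47, [11, 11, 10], [66, 115]⟩] [1, 3, 1, 3, 0, 3, 1, 3, 0, 0, 0, 0, 2],
  .ident 6 0 (3, [3, 3, 1, 1, 2, 0, 2]) [⟨10, [], []⟩, ⟨3, [2, 3], [63, 124]⟩] [0, 2, 0, 0, 3, 3, 3, 1, 1, 2, 1, 2, 0],
  .ident 5 1 (3, [1, 2, 1, 2, 2, 0, 2]) [⟨46, [10, 11, 11, 10, 9], [53, 108]⟩, ⟨5, [10, 11], [56, 115]⟩] [0, 3, 1, 2, 2, 2, 2, 2, 1, 2, 1, 3, 0],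
  .ident 6 0 (3, [1, 2, 1, 2, 2, 0, 2]) [⟨47, [10, 11, 11, 10], [56, 114]⟩, ⟨5, [9, 9], [65, 107]⟩] [2, 1, 1, 3, 0, 3, 3, 1, 1, 2, 1, 2, 0],
  .ident 5 0 (3, [0, 3, 3, 1, 3, 0, 2]) [⟨43, [11, 9, 9], [18, 103]⟩, ⟨46, [11, 11, 11], [6, 124]⟩] [2, 2, 2, 2, 0, 3, 0, 0, 3, 3, 1, 2],
  .ident 5 1 (3, [3, 0, 0, 3, 3, 0, 2]) [⟨18, [], [72, 103]⟩, ⟨4, [6, 8], [22, 103]⟩] [0, 3, 1, 3, 3, 1, 3, 0, 2, 0, 3, 0, 3],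
  .ident 5 2 (3, [2, 1, 2, 0, 0, 2, 2]) [⟨50, [9], [51, 120]⟩, ⟨18, [], [97, 141]⟩] [1, 3, 3, 1, 3, 0, 0, 0, 3, 3, 0, 0],
  .ident 5 1 (3, [0, 2, 2, 0, 0, 2, 2]) [⟨48, [11, 11, 11, 9, 9], [33, 136]⟩, ⟨45, [9, 9], [29, 101]⟩] [0, 0, 2, 0, 2, 2, 0, 3, 1, 3, 3, 3, 3, 1],
  .ident 5 1 (3, [3, 3, 0, 3, 0, 2, 2]) [⟨35, [11], [82, 116]⟩, ⟨41, [11, 9, 9], [68, 127]⟩] [2, 1, 3, 3, 3, 3, 3, 1, 1, 3, 3, 3, 3],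
  .ident 5 0 (3, [0, 0, 2, 2, 2, 0, 3]) [⟨54, [11], [78, 139]⟩, ⟨5, [11], [41, 121]⟩] [0, 3, 3, 3, 3, 1, 2, 1, 2, 0, 2, 0, 3],
  .ident 5 2 (3, [0, 0, 2, 2, 2, 0, 3]) [⟨48, [9, 10, 11], [85, 136]⟩, ⟨5, [], [61, 110]⟩] [3, 3, 0, 2, 2, 0, 2, 0, 3, 3, 1, 2, 1, 1, 3, 1],
  .ident 5 0 (3, [3, 1, 2, 2, 0, 0, 2, 2]) [⟨64, [9, 10], [79, 128]⟩, ⟨18, [10], [67, 115]⟩] [3, 3, 1, 1, 1, 3, 3, 1, 1, 2, 0, 2, 1, 1],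
  .ident 0 0 (4, [3]) [⟨23, [], [88, 102]⟩] [2, 0, 0, 3, 3, 0, 2, 2, 2, 1, 1, 3, 0, 0],
  .ident 5 1 (4, [0, 3]) [⟨11, [], [4]⟩, ⟨1, [1, 4], [62, 100]⟩] [1, 1, 1, 3, 3, 0, 2, 0, 0, 2, 2, 0, 3],
  .ident 5 1 (4, [3, 3]) [⟨23, [], [68, 137]⟩, ⟨4, [8, 7, 8, 6, 6], [42, 115]⟩] [3, 0, 2, 1, 1, 2, 0, 3, 3, 3, 3, 1, 2, 0],
  .stab 5 1 (4, [3, 0, 3]) [⟨23, [], [88, 102]⟩, ⟨4, [7, 6, 7, 6], [86, 125]⟩] ⟨70, [], [41, 137]⟩ [0, 0, 0, 0],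
  .ident 0 0 (4, [0, 2, 0, 3]) [⟨36, [], [86, 103]⟩] [1, 3, 3, 0, 3, 0, 2, 1, 1, 2, 1, 2, 2, 1],
  .ident 5 1 (4, [0, 0, 3, 3]) [⟨23, [], [65, 137]⟩, ⟨39, [6, 8, 7, 8], [89, 142]⟩] [3, 1, 2, 2, 1, 2, 2, 1, 2, 0, 2, 2, 1, 3],
  .stab 0 0 (4, [3, 0, 0, 2, 2]) [⟨34, [], [78, 108]⟩] ⟨69, [6, 8, 7], [13, 106]⟩ [2, 1, 1, 3, 0, 2, 1, 1, 3, 0],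
  .stab 6 0 (4, [3, 1, 1, 2, 2]) [⟨36, [], [89, 121]⟩, ⟨18, [11, 9, 9], [95, 116]⟩] ⟨68, [6, 7], [59, 106]⟩ [3, 3, 0, 0, 0, 3, 3, 0, 2, 0, 3, 3, 3, 1],
  .stab 5 1 (4, [2, 0, 3, 0, 3]) [⟨36, [13, 13], [94, 131]⟩, ⟨64, [11], [54, 102]⟩] ⟨71, [11, 9], [58, 139]⟩ [3, 3, 3, 0, 2, 2, 1, 2, 2, 0, 2, 2, 1],
  .ident 5 0 (4, [1, 3, 0, 3, 3]) [⟨34, [14, 15, 13], [70, 100]⟩, ⟨69, [6, 8], [4, 106]⟩] [3, 0, 3, 3, 1, 1, 1, 2, 1, 2, 1, 1],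
  .stab 5 1 (4, [1, 3, 0, 3, 3]) [⟨73, [], [10, 100]⟩, ⟨73, [], [36, 144]⟩] ⟨73, [], [13, 144]⟩ [3, 0, 3, 0, 0, 0, 3, 0, 3, 0, 0, 0],
  .ident 5 1 (4, [3, 3, 0, 3, 3]) [⟨34, [12, 16], [21, 117]⟩, ⟨4, [7, 8], [81, 125]⟩] [2, 2, 1, 3, 3, 3, 3, 1, 3, 1, 2, 1, 3, 3, 1],
  .ident 5 0 (4, [1, 3, 1, 3, 3]) [⟨34, [15, 13, 12, 16, 13], [50, 128]⟩, ⟨4, [8, 7, 6, 6, 6], [25, 136]⟩] [3, 0, 2, 1, 2, 0, 0, 2, 2, 1, 1, 1, 3, 3],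
  .ident 0 0 (4, [2, 0, 3, 3, 3]) [⟨57, [12, 15], [92, 141]⟩] [1, 1, 2, 2, 1, 1, 3, 1, 2, 1, 3],
  .ident 5 0 (4, [0, 0, 0, 2, 0, 2]) [⟨34, [15, 13], [49, 109]⟩, ⟨4, [7, 8, 7], [81, 113]⟩] [2, 1, 2, 0, 2, 0, 3, 3, 3, 0, 3, 3, 0, 0],
  .ident 5 1 (4, [3, 0, 3, 0, 2, 2]) [⟨34, [16, 15, 16, 13], [96, 111]⟩, ⟨4, [7, 6], [89, 103]⟩] [3, 0, 2, 0, 2, 1, 1, 3, 3, 3, 3, 1, 3, 1],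
  .ident 5 0 (4, [0, 0, 0, 2, 2, 2]) [⟨36, [13, 12, 15, 16], [45, 117]⟩, ⟨63, [9], [51, 141]⟩] [3, 1, 2, 0, 3, 1, 1, 1, 3, 3, 0, 0, 3],
  .ident 0 0 (5, [2]) [⟨75, [], [67, 143]⟩] [2, 1, 3, 0, 2, 1, 3, 0, 3, 1, 2, 1, 1, 3, 0],
  .ident 0 0 (5, [2, 0, 3]) [⟨78, [], [13, 140]⟩] [3, 3, 1, 2, 0, 2, 0, 3, 3, 3, 3, 3, 0, 0],
  .stab 5 1 (5, [2, 0, 3, 3]) [⟨78, [], [37, 145]⟩, ⟨73, [14, 13], [39, 119]⟩] ⟨81, [16, 13, 14, 12], [85, 105]⟩ [1, 3, 1, 3, 1, 3, 1, 1, 1, 2, 2, 1, 1],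
  .ident 5 1 (5, [2, 1, 3, 3]) [⟨78, [], [51, 143]⟩, ⟨36, [13, 14, 16, 15], [11, 145]⟩] [0, 0, 0, 2, 2, 2, 0, 0, 2, 2, 1, 3, 1, 2],
  .stab 5 1 (5, [1, 1, 3, 0, 2]) [⟨70, [17, 17], [79, 135]⟩, ⟨34, [13, 15, 16], [44, 137]⟩] ⟨4, [8], [61, 103]⟩ [2, 0, 3, 0, 2, 1, 3, 3, 1, 2, 2, 1, 1, 1],
  .ident 0 0 (5, [3, 1, 3, 0, 2]) [⟨26, [18, 18], [69, 101]⟩] [1, 2, 1, 3, 0, 3, 1, 3, 3, 0, 3, 1, 1, 3, 0],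
  .ident 6 0 (5, [0, 3, 3, 0, 2]) [⟨70, [17, 18, 18], [17, 122]⟩, ⟨81, [12, 15, 16, 13], [28, 102]⟩] [2, 1, 1, 2, 0, 2, 2, 2, 0, 3, 3, 0, 2, 0],
  .ident 5 2 (5, [3, 3, 3, 0, 2]) [⟨61, [18], [53, 102]⟩, ⟨41, [11, 11, 10], [38, 100]⟩] [0, 0, 3, 3, 3, 3, 1, 3, 1, 1, 3, 3, 3, 0, 0],
  .ident 5 0 (5, [0, 0, 0, 2, 2]) [⟨20, [17], [90, 109]⟩, ⟨4, [6, 7, 8, 7], [91, 104]⟩] [0, 0, 3, 3, 3, 1, 2, 0, 2, 0, 2, 0, 3, 0],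
  .ident 5 0 (5, [2, 0, 0, 2, 2]) [⟨74, [17, 17], [5, 127]⟩, ⟨36, [15, 14, 12, 16, 13], [62, 114]⟩] [1, 1, 3, 3, 0, 0, 0, 2, 2, 2, 1, 1],
  .stab 5 0 (5, [3, 0, 0, 2, 2]) [⟨86, [17], [52, 100]⟩, ⟨27, [18, 18], [30]⟩] ⟨83, [7, 6], [31, 111]⟩ [0, 0, 3, 0, 0, 0, 2, 2, 2, 0, 2, 0, 3],
  .ident 5 0 (5, [1, 1, 1, 2, 2]) [⟨84, [19, 19, 17], [49, 139]⟩, ⟨86, [17, 18, 18], [94, 116]⟩] [0, 2, 1, 2, 0, 3, 3, 1, 2, 2, 0, 0, 2, 1],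
  .ident 5 2 (5, [1, 2, 1, 2, 2]) [⟨27, [19, 18, 18], [45, 102]⟩, ⟨62, [7, 8, 7, 6, 6], [98, 135]⟩] [1, 3, 1, 1, 3, 0, 0, 3, 3, 0, 2, 1, 1],
  .ident 5 0 (5, [2, 2, 1, 2, 2]) [⟨61, [19, 17, 18], [47, 124]⟩, ⟨40, [10, 11], [59, 139]⟩] [0, 3, 0, 2, 2, 0, 3, 0, 2, 1, 2, 0, 3, 1],
  .ident 5 1 (5, [3, 0, 2, 2, 2]) [⟨20, [17, 17, 19, 18], [88, 119]⟩, ⟨39, [7, 8, 6, 8], [16, 105]⟩] [3, 1, 1, 3, 1, 2, 0, 2, 0, 3, 1],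
  .ident 0 0 (5, [2, 1, 2, 2, 2]) [⟨27, [19, 18, 19], [74, 133]⟩] [2, 2, 0, 3, 0, 3, 3, 3, 3, 1, 3, 0, 3, 3],
  .ident 5 1 (5, [0, 2, 2, 2, 2]) [⟨26, [19, 19, 18, 17], [62, 129]⟩, ⟨39, [8, 7, 6, 6, 6], [23, 134]⟩] [1, 2, 2, 1, 1, 1, 2, 2, 0, 3, 3, 1, 2, 2, 0],
  .ident 5 0 (5, [1, 2, 2, 2, 2]) [⟨26, [18, 17], [10, 104]⟩, ⟨4, [6, 8, 6, 6], [60, 144]⟩] [0, 0, 0, 0, 2, 0, 0, 2, 2, 1, 2, 2, 1],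
  .ident 5 0 (5, [3, 1, 1, 2, 0, 2]) [⟨70, [17, 17, 18], [60, 126]⟩, ⟨81, [15, 16, 14, 12], [37, 111]⟩] [0, 3, 3, 1, 2, 1, 2, 0, 3, 0, 3, 1, 2],
  .ident 0 0 (5, [3, 0, 0, 0, 2, 2]) [⟨94, [19, 17], [97, 127]⟩] [1, 1, 1, 2, 2, 2, 0, 3, 1, 1, 3, 0, 2, 1, 1],
  .ident 5 0 (5, [2, 2, 0, 2, 0, 3]) [⟨96, [], [69, 124]⟩, ⟨94, [19, 19, 17, 17], [50, 107]⟩] [0, 2, 1, 1, 3, 0, 2, 1, 3, 1, 3, 3, 1],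
  .stab 0 0 (6, [3]) [⟨53, [], [56, 130]⟩] ⟨5, [11], [66, 132]⟩ [3, 0, 0, 3, 3, 0, 2, 0, 0, 2, 0, 0, 2, 1],
  .stab 5 1 (6, [3]) [⟨37, [], []⟩, ⟨41, [11, 11, 11, 10], [24, 116]⟩] ⟨5, [11], [9, 141]⟩ [0, 3, 3, 0, 0, 2, 2, 0, 0, 3],
  .ident 0 0 (6, [0, 2]) [⟨58, [21, 20, 20, 21, 20, 20, 20, 21, 20, 20, 20, 20, 20], [69, 124]⟩] [3, 0, 3, 0, 3, 1, 1, 3, 0, 0, 3, 3, 0, 2],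
  .ident 5 0 (6, [3, 3]) [⟨58, [20, 20, 20, 21, 20, 20, 20, 21, 20, 20, 20, 20], [32, 116]⟩, ⟨87, [10, 11], [48, 105]⟩] [1, 3, 3, 3, 3, 3, 3, 3, 0, 0, 0, 0],
  .ident 5 2 (2, [3, 3]) [⟨4, [6, 6, 7, 6], [20, 135]⟩, ⟨26, [19, 18, 19, 17], [25, 113]⟩] [1, 1, 2, 0, 2, 1, 3, 1, 3, 3, 1, 3, 1],
  .ident 0 0 (2, [1, 3, 3]) [⟨62, [6, 6, 6], [74, 125]⟩] [0, 3, 3, 1, 2, 0, 2, 0, 3, 0, 2, 2, 1],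
  .ident 0 0 (2, [2, 2, 0, 2]) [⟨39, [8, 7, 6, 8, 6], [30, 123]⟩] [2, 1, 1, 1, 2, 0, 3, 3, 3, 3, 3, 0, 3, 1],
  .ident 5 0 (2, [1, 3, 0, 2]) [⟨22, [8, 7, 8, 6, 6], [31, 111]⟩, ⟨39, [6, 6, 8, 7, 8], [17, 125]⟩] [3, 0, 2, 2, 1, 3, 3, 0, 3, 0, 3, 1],
  .ident 0 0 (2, [2, 1, 2, 2]) [⟨67, [8, 6], [24, 140]⟩] [1, 3, 3, 1, 1, 3, 3, 0, 2, 0, 0, 2, 2, 2],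
  .ident 5 0 (2, [0, 0, 3, 3]) [⟨62, [7, 6, 6, 6, 6], [92, 141]⟩, ⟨45, [11, 9, 9], [27, 112]⟩] [0, 3, 1, 3, 0, 0, 0, 3, 3, 3, 3, 0, 0, 0],
  .ident 5 0 (2, [3, 0, 2, 0, 3]) [⟨92, [6, 7], [76, 116]⟩, ⟨27, [17, 17, 18], [47, 143]⟩] [0, 3, 0, 0, 3, 0, 2, 1, 2, 2, 2, 2, 2, 0],
  .ident 0 0 (3, [2, 2]) [⟨89, [10, 11, 10, 9], [35, 108]⟩] [0, 2, 2, 2, 0, 2, 0, 0, 2, 2, 2, 0, 0, 2],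
  .ident 0 0 (3, [2, 0, 2]) [⟨87, [11, 10, 9], [73, 141]⟩] [2, 2, 1, 2, 0, 3, 1, 3, 0, 0, 2, 2, 1],
  .ident 0 0 (3, [2, 2, 2]) [⟨72, [], [78, 124]⟩] [1, 3, 1, 3, 1, 1, 1, 2, 2, 2, 0, 2, 0, 3],
  .ident 0 0 (3, [3, 3, 0, 2]) [⟨85, [11, 11, 11], [45, 133]⟩] [0, 2, 2, 2, 2, 2, 2, 0, 0, 0, 0],
  .ident 0 0 (3, [3, 0, 2, 2]) [⟨93, [10, 9], [82, 102]⟩] [2, 0, 2, 0, 3, 0, 3, 0, 0, 3, 3, 3, 0, 2],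
  .ident 0 0 (3, [2, 1, 2, 2]) [⟨90, [11, 11, 10, 9], [66, 128]⟩] [2, 1, 3, 3, 0, 0, 0, 2, 1, 2, 1],
  .ident 5 0 (3, [2, 0, 2, 0, 2]) [⟨63, [10, 9], [96, 125]⟩, ⟨63, [9, 9], [77, 123]⟩] [1, 1, 3, 3, 3, 3, 1, 2, 2, 0, 2, 2, 2, 1],
  .ident 0 0 (3, [0, 3, 3, 0, 2]) [⟨103, [10, 11, 11], [82, 111]⟩] [0, 0, 2, 0, 2, 2, 0, 2, 2, 1, 2, 2, 0],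
  .ident 0 0 (3, [2, 2, 2, 2, 2]) [⟨105, [10, 11, 11], [75, 123]⟩] [1, 1, 3, 1, 2, 0, 0, 0, 0, 3, 1, 3, 1],
  .ident 0 0 (3, [2, 2, 2, 0, 3]) [⟨91, [11, 9], [87, 123]⟩] [1, 1, 2, 1, 1, 1, 2, 0, 0, 0, 2, 2],
  .ident 0 0 (3, [2, 0, 0, 0, 2, 2]) [⟨79, [], [54, 100]⟩] [2, 1, 1, 1, 2, 2, 1, 2, 1, 2],
  .ident 0 0 (5, [1, 2, 2, 2]) [⟨99, [], [4, 144]⟩] [2, 2, 2, 2, 2, 2, 2, 2, 0, 0, 0, 0],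
  .comb 1 [3, 2, 4, 4, 4] [2, 0, 0, 0, 0, 3],
  .comb 1 [0, 2, 1, 3] [3, 0, 2, 2, 2, 0, 3, 3, 3, 3],
  .comb 1 [1, 1, 2, 0] [2, 2, 2, 2, 1, 3, 3, 3, 0, 2, 1],
  .comb 1 [5, 0, 3, 1, 1] [3, 1, 2, 2, 2, 0, 3, 3, 3, 3],
  .comb 1 [3, 2, 5, 5, 5] [0],
  .comb 1 [0, 4, 2, 4] [3, 1, 1, 3, 0, 0, 3, 1, 2, 2, 2],
  .comb 1 [0, 5, 4, 5, 4, 1] [3, 3, 3, 0, 2, 1, 1, 2, 2, 0],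
  .comb 1 [1, 5, 1, 5, 1, 3] [0, 2, 2, 2, 2, 1, 3, 3, 3, 1, 2],
  .comb 1 [4, 1, 0, 4] [2, 2, 2, 2, 1, 3, 3, 3, 1, 2],
  .comb 1 [5, 5] [3, 0, 0, 0, 0, 2],
  .comb 1 [1, 1, 2, 4] [2, 2, 2, 0, 2, 0, 2, 0, 3, 3],
  .comb 1 [0, 1, 2, 2, 5] [2, 2, 0, 3, 0, 3, 1, 3, 3, 3],
  .comb 1 [5, 1, 5, 4, 5] [2, 0, 0, 3, 1],
  .comb 1 [0, 5, 5, 3, 1] [1, 2, 0, 0, 0, 0, 3, 0],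
  .comb 1 [3, 5, 1, 2, 1] [1, 3, 3, 3, 0, 2, 1, 1, 2, 2],
  .comb 1 [0, 5, 5, 3, 5] [3, 1, 3, 0, 2, 1, 1, 2, 1, 2, 2],
  .comb 1 [0, 2, 0, 1, 1] [0, 3, 3, 0, 0, 3, 1, 2, 2, 2],
  .comb 1 [0, 1, 5, 3] [3, 3, 0, 0, 3, 1, 2, 2, 2, 0],
  .comb 1 [0, 4, 4, 2, 3] [2, 1, 3, 1, 2, 2, 2, 1, 2, 2, 2],
  .comb 1 [2, 3, 4, 0] [3, 3, 3, 0, 3, 1, 2, 0, 2, 0, 2],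
  .comb 1 [0, 1, 1, 2, 2, 5] [2, 0, 0, 0, 0, 3, 1],
  .comb 1 [4, 3, 2, 5, 4] [3, 0, 0, 0, 0, 2, 1],
  .comb 1 [0, 5, 2, 4, 0] [2, 2, 1, 1, 3, 3, 3, 1, 2, 2, 2, 0],
  .comb 1 [2, 0, 5, 0, 1] [2, 1, 3, 0, 2, 2, 2, 1, 2, 2, 2],
  .comb 1 [1, 4, 0, 4, 0] [1, 2, 1, 1, 3, 0],
  .comb 1 [1, 3, 5, 3] [2, 2, 2, 0, 2, 1, 2, 1, 3, 3],
  .comb 1 [1, 0, 3, 0, 2] [3, 3, 3, 0, 2, 1, 1, 2, 1, 1, 2],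
  .comb 1 [0, 1, 1, 2, 4] [3, 0, 3, 0, 3, 3, 3, 1, 3, 3, 3],
  .comb 1 [2, 4, 3, 5, 3] [2, 1, 1, 3, 0],
  .comb 1 [1, 4, 5, 4, 2] [3, 3, 0, 0, 3, 1, 2, 2, 1, 1, 2],
  .comb 1 [3, 2, 2] [2, 2, 0, 3, 0, 3, 1, 3, 3, 3, 1],
  .comb 1 [5, 3, 0, 5, 0] [3, 0, 3, 0, 2, 1, 1, 2, 1, 2, 2],
  .comb 1 [0, 2, 4, 5] [2, 2, 2, 0, 2, 2, 2, 1, 2, 0, 2],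
  .comb 1 [1, 2, 2, 2, 5] [3, 1, 1, 2],
  .comb 1 [0, 1, 4, 3, 3] [2, 2, 2, 0, 3, 1, 2, 2, 2, 0, 3],
  .comb 1 [4, 4, 4, 5] [1, 2, 0, 0, 0, 0, 3],
  .comb 1 [3, 3, 5, 0, 3] [3, 3, 0, 0, 3, 1, 2, 2, 2],
  .comb 1 [3, 5, 2, 0, 1, 4] [0, 2, 0, 0, 3],
  .comb 1 [0, 3, 4, 5, 3, 0] [2, 0, 0, 3],
  .comb 1 [1, 2, 5, 1, 2, 2] [2, 2, 2, 0, 3, 1, 2, 2, 2, 1, 3],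
  .comb 1 [1, 1, 5, 1, 4, 0] [0, 2, 2, 2, 0, 2, 0, 2, 0, 3, 3],
  .comb 1 [0, 3, 5, 5, 5] [3, 3, 3, 0, 2, 1, 1, 2, 2],
  .comb 1 [5, 4, 2, 1, 5, 4] [3, 0, 0, 2, 0],
  .comb 1 [3, 4, 5, 3] [2, 1, 1, 3],
  .comb 1 [0, 5, 1, 4] [1, 2, 2, 1, 3, 1, 3, 1, 3, 3, 3],
  .comb 1 [1, 5, 3, 5, 0] [1, 2, 2, 2, 2, 1, 3, 3, 3, 1, 2],
  .comb 1 [5, 2, 4, 2, 1] [2, 2, 2, 1, 2, 0, 3, 0, 2, 2, 2],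
  .comb 1 [5, 3, 2, 0, 5] [3, 3, 0, 3, 0, 3, 3, 0, 2, 1, 3, 0, 2, 1, 1, 1],
  .comb 1 [1, 4, 3, 5, 0, 1] [2, 0, 0, 3, 3, 0, 0, 2],
  .comb 1 [0, 2, 4, 5, 1, 5] [0, 3, 3, 0, 3, 3, 3, 3, 3, 3, 1, 2, 1, 2, 2, 0],
  .comb 1 [2, 4, 3, 5, 1] [0, 3, 3, 0, 2, 2, 2, 2, 1, 2, 1, 2, 0, 0, 2],
  .comb 1 [0, 1, 3, 2, 5, 4] [3, 1, 1, 2, 2, 1, 1, 3, 1, 1],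
  .comb 1 [1, 4, 1, 5, 2] [1, 2, 1, 1, 3, 0, 2, 1, 1, 3],
  .comb 1 [0, 2, 4, 2, 1, 4, 5] [3, 3, 3, 3, 0, 2, 2, 0, 0, 2, 2, 2, 2, 2],
  .comb 1 [0, 2, 3, 4, 1, 5] [2, 2, 1, 1, 3, 0, 2, 2, 1, 1, 3, 0, 2],
  .comb 1 [0, 3, 0, 5, 4] [0, 2, 0, 2, 0, 3, 3, 0, 2, 0, 3, 0, 3, 3, 3],
  .comb 1 [0, 1, 4, 4, 4, 2] [1, 1],
  .comb 1 [2, 5, 0, 3, 1, 4] [1, 2, 1, 1, 3, 3, 1, 1, 2, 1],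
  .comb 1 [4, 2, 5, 1, 1] [2, 0, 0, 3, 0, 2, 0, 0, 3, 0],
  .comb 1 [0, 3, 1, 0] [3, 3, 0, 3, 0, 3, 3, 0, 2, 1, 3, 0, 2, 0, 0, 0],
  .comb 1 [2, 5, 4] [1, 3, 3, 1, 2, 1, 1, 2, 1, 1, 1, 2, 1, 2],
  .comb 1 [4, 4, 4, 1, 3] [0, 2, 2, 2, 1, 3, 1, 2, 2, 0, 2, 2, 1, 3, 0],
  .comb 1 [4, 4, 4, 0] [3, 3, 0, 0, 2, 1, 2, 0, 2, 0, 0, 3, 0, 2, 0, 0],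
  .comb 1 [3, 1] [3, 3, 0, 3, 0, 3, 3, 0, 2, 1, 3, 0, 2, 1],
  .comb 1 [5, 0, 1, 4, 4] [2, 0, 0, 3, 3, 0, 0, 2, 1, 1],
  .comb 1 [0, 2, 5, 4, 5, 5] [0, 3, 0, 2, 0, 0, 3, 3, 0, 2, 0, 0, 3, 3, 0],
  .comb 1 [0, 2, 1, 0] [2, 1, 1, 3, 3, 0, 0, 2, 0, 2, 0, 0, 3],
  .comb 1 [3, 0, 2, 0] [3, 1, 2, 2, 1, 2, 0, 2, 1, 2, 0, 2],
  .comb 1 [1, 4, 1, 2, 2, 4] [0, 0],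
  .comb 1 [3, 1, 5, 4, 3] [3, 3, 3, 0, 3, 3, 0, 3, 1, 2, 2, 0, 2, 2, 0],
  .comb 1 [5, 1, 2, 5, 3, 1] [1, 2, 0, 0, 3, 3, 1, 1, 2, 1, 2, 1, 1, 3, 0],
  .comb 1 [5, 4, 3, 3, 1] [3, 3, 3, 3, 3, 1, 1, 3, 3, 1, 2, 2, 2, 2],
  .comb 1 [3, 2, 0, 5, 4, 2] [3, 1, 2, 0, 0, 3, 3, 1, 2, 0, 0, 3, 3],
  .comb 1 [0, 3, 1, 5, 4, 1] [2, 2, 2, 0, 2, 0, 3, 0, 2, 2, 1, 3, 1, 3, 1],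
  .comb 1 [5, 0, 3, 4, 4] [1, 3, 3, 0, 2, 2, 2, 2, 1, 2, 1, 2, 0, 0, 2],
  .comb 1 [0, 2, 4, 4, 5] [1, 3, 0, 0, 2, 1, 2, 1, 1, 3],
  .comb 1 [2, 5, 5, 1] [2, 2, 0, 0, 2, 1, 2, 0, 2, 0, 2, 2, 2, 0, 0, 3, 0],
  .comb 1 [5, 4, 3, 3, 2] [1, 2, 1, 1, 3, 1, 2, 1, 1, 3],
  .comb 1 [3, 2, 5, 4, 3] [3, 0, 3, 0, 0, 0, 3, 0, 0, 3, 0, 2, 2, 0],
  .comb 1 [3, 1, 0, 5, 4, 2] [2, 0, 0, 3, 3, 0, 0, 2, 0, 0],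
  .comb 1 [0, 2, 1, 5, 4, 1] [0, 2, 1, 1, 3, 0, 2, 1, 1, 3],
  .comb 1 [0, 4, 2, 5] [3, 3, 3, 3, 0, 2, 2, 0, 0, 2, 2, 2, 2, 2, 1, 1],
  .comb 1 [1, 2, 5, 5] [2, 1, 1, 2, 1, 2, 0, 2, 0, 2, 2, 2, 1, 1, 3, 0, 2],
  .comb 1 [2, 5, 3, 4, 0, 5] [3, 1, 1, 2, 1, 2, 0, 0, 3, 0],
  .comb 1 [2, 5, 1, 2, 4] [3, 3, 1, 3, 1, 3, 0, 3, 1, 1, 3, 0, 0, 3, 0],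
  .comb 1 [1, 3, 3, 4, 4, 5] [2, 0, 2, 0, 0, 3, 0, 2, 0, 2, 0, 0, 3, 0, 2, 0],
  .comb 1 [3, 5, 4, 2, 1] [3, 3, 0, 2, 2, 2, 2, 1, 2, 1, 2, 0, 0, 2, 1],
  .comb 1 [0, 3, 4, 4, 5] [2, 2, 1, 1, 3, 0, 2, 2, 1, 1, 3, 0, 2, 0, 0],
  .comb 1 [0, 3, 5, 2, 1, 4] [2, 1, 2, 0, 0, 3, 1, 2, 2, 1, 1, 3, 0, 2, 1],
  .comb 1 [2, 2, 2, 2] [0, 0, 0, 0],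
  .comb 1 [1, 1, 4, 4, 0, 4] [3, 0, 0, 2, 2, 1, 2, 0, 0, 0, 0, 3, 3, 1],
  .comb 1 [2, 5, 3, 4, 5] [0, 2, 2, 1, 1, 3, 1, 2, 2, 1, 1, 3, 1, 2, 0],
  .comb 1 [0, 1, 5, 4, 0] [1, 2, 1, 1, 3, 1, 3, 0, 0, 2],
  .comb 1 [0, 4, 3, 5, 0] [2, 0, 0, 3, 1, 2, 0, 0, 3, 0],
  .comb 1 [2, 0, 4, 4, 5] [3, 1, 1, 2, 2, 1, 1, 3],
  .comb 1 [0, 4, 0, 2, 5] [1, 2, 1, 1, 3, 3, 1, 1, 2, 0],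
  .comb 1 [1, 1, 1, 5, 4] [2, 0, 0, 3, 0, 2, 0, 0, 3, 0, 0, 0],
  .comb 1 [2, 4, 4, 4, 3] [3, 3, 0, 3, 0, 3, 3, 0, 2, 1, 3, 0, 2, 0],
  .comb 1 [0, 5, 3, 4, 0, 4] [2, 2, 1, 3, 3, 3, 0, 2, 2, 2, 2, 0, 2, 0],
  .comb 1 [4, 4, 2, 4, 5] [3, 3, 3, 0, 0, 0, 0, 2, 2, 0, 3, 3, 0],
  .comb 1 [2, 5, 2, 2, 4] [2, 2, 1, 3, 3, 0, 0, 0, 0, 2, 2, 2, 1],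
  .comb 1 [1, 0, 5, 5, 3] [0, 2, 2, 2, 1, 3, 1, 2, 2, 0, 2, 2, 1, 3, 1],
  .comb 1 [1, 2, 1, 1] [3, 3, 0, 0, 2, 1, 2, 0, 2, 0, 0, 3, 0, 2],
  .comb 1 [2, 3, 3, 3] [1, 2, 2, 2, 1, 3, 1, 2, 2, 0, 2, 2, 1, 3, 0],
  .comb 1 [2, 2, 2, 1] [3, 0, 3, 1, 1, 2, 2, 2, 1, 1, 3, 0, 2, 1, 1],
  .comb 1 [5, 4, 3] [2, 0, 0, 3, 0, 3, 1, 1, 2, 0],
  .comb 1 [4, 5, 3, 1, 1, 4] [1, 3, 0, 0, 2, 2, 0, 0, 3, 1],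
  .comb 1 [1, 2, 4, 3, 5] [1, 2, 2, 0, 3, 0, 3, 3, 1, 2, 2, 2, 0, 3],
  .comb 1 [1, 1, 4, 1, 5] [0, 3, 1, 3, 3, 3, 3, 1, 2, 2, 2, 0, 3, 3],
  .comb 1 [5, 1, 2, 0, 5] [2, 1, 1, 3, 3, 0, 0, 2, 1, 2, 0, 0, 3],
  .comb 1 [0, 5, 3, 1, 5] [2, 2, 2, 2, 2, 2, 2, 2, 2, 1, 1, 2, 0],
  .comb 1 [5, 1, 0, 2, 5] [2, 1, 1, 3, 0, 3, 1, 1, 2, 2, 0, 0, 3],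
  .comb 1 [5, 3, 2, 5] [1, 2, 2, 2, 2, 2, 2, 2, 2, 2, 0, 0, 2],
  .comb 1 [0, 5, 4, 2] [2, 2, 2, 0, 2, 0, 3, 0, 2, 2, 1, 3, 1, 3, 0],
  .comb 1 [1, 2, 5, 4, 3, 0] [0, 2, 2, 1, 3, 3, 0, 0, 0, 0, 2, 2, 2],
  .comb 1 [0, 1, 3] [3, 0, 0, 2, 2, 1, 2, 0, 0, 0, 0, 3, 3, 0],
  .comb 1 [1, 3, 0] [1, 2, 2, 0, 0, 0, 0, 3, 0, 3, 3, 1, 1, 2],
  .comb 1 [1, 4, 1, 5, 1] [3, 3, 3, 3, 3, 1, 1, 3, 3, 1, 2, 2, 2, 2, 1, 1],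
  .comb 1 [0, 5, 0, 4, 1] [3, 1, 2, 0, 0, 3, 3, 1, 2, 0, 0, 3, 3, 1, 1],
  .comb 1 [4, 4, 0, 5, 0, 2] [3, 1, 2, 0, 0, 3, 3, 1, 2, 0, 0, 3, 3, 0, 0],
  .comb 1 [3, 5, 5, 5, 4] [3, 1, 1, 2, 2, 1, 1, 3, 0, 0],
  .comb 1 [4, 0, 4, 5, 3] [3, 0, 2, 0, 0, 3, 3, 1, 2, 1, 1, 3, 1, 3],
  .comb 1 [5, 1, 2, 5] [3, 3, 0, 2, 2, 2, 2, 0, 0, 0, 2, 0, 2, 1, 3, 3],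
  .comb 1 [0, 4, 4, 4, 2, 1] [2, 2, 0, 3, 1, 3, 1, 1, 1, 3, 3, 3, 3, 1, 2, 2],
  .comb 1 [2, 4, 3, 5, 2] [0, 2, 1, 1, 3, 0, 2, 1, 1, 3, 0, 0],
  .comb 1 [2, 1, 4, 4, 5, 3] [0, 3, 3, 3, 0, 0, 0, 0, 2, 2, 0, 3, 3],
  .comb 1 [0, 5, 0, 4, 2] [1, 2, 2, 1, 3, 3, 0, 0, 0, 0, 2, 2, 2],
  .comb 1 [3, 5, 3, 0, 1, 4] [3, 3, 0, 2, 2, 2, 2, 1, 2, 1, 2, 0, 0, 2, 0],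
  .comb 1 [1, 3, 5, 4, 1] [1, 3, 0, 0, 2, 2, 0, 0, 3, 0],
  .comb 1 [0, 1, 3, 5, 4, 3] [3, 1, 1, 2, 0, 2, 0, 0, 3, 0],
  .comb 1 [0, 2, 1, 4, 2, 5] [2, 0, 2, 0, 0, 3, 0, 2, 2, 1, 1, 3, 1, 2],
  .comb 1 [3, 0, 2, 4, 2, 5] [2, 1, 2, 0, 0, 3, 1, 2, 2, 1, 1, 3, 0, 2, 0],
  .comb 1 [1, 3, 5, 4, 2] [2, 1, 3, 3, 3, 0, 2, 2, 1, 2, 1, 3, 3, 0],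
  .comb 1 [2, 1, 5, 1, 4, 4] [2, 2, 1, 3, 3, 3, 0, 2, 2, 2, 2, 0, 2, 1],
  .comb 1 [0, 1, 5, 3, 2, 4] [0, 2, 1, 1, 3, 3, 1, 1, 2, 0],
  .comb 1 [1, 4, 4, 5, 0] [2, 0, 0, 3, 1, 2, 0, 0, 3, 1],
  .comb 1 [0, 2, 0, 5, 4] [2, 2, 1, 3, 3, 0, 0, 0, 0, 2, 2, 2, 0],
  .comb 1 [1, 5, 1, 5, 2, 5] [1, 2, 2, 2, 1, 3, 1, 2, 2, 0, 2, 2, 1, 3, 0, 0, 0],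
  .comb 1 [3, 1, 5, 3, 2, 5] [3, 0, 3, 1, 1, 2, 2, 2, 1, 1, 3, 0, 2],
  .comb 1 [4, 2, 5, 1, 2] [0, 2, 2, 0, 3, 0, 3, 3, 1, 2, 2, 2, 0, 3],
  .comb 1 [2, 0, 1, 0] [3, 0, 0, 0, 3, 0, 3, 3, 0, 2, 0, 3, 3, 1],
  .comb 1 [3, 2] [2, 2, 2, 2, 2, 2, 2, 2, 2, 1, 1, 2, 1],
  .comb 2 [6, 6] [3, 0, 0, 2, 0, 2, 0, 2, 2, 2, 1, 1, 2, 0],
  .comb 2 [6, 7] [1, 1, 3, 1, 3, 1, 2, 1, 1, 2, 0, 2, 2, 0, 0],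
  .comb 2 [6, 8] [2, 1, 1, 2, 2, 0, 0, 3, 1, 2, 2, 0, 3],
  .comb 2 [7, 6] [2, 1, 2, 1, 2, 0, 3, 3, 3, 1, 1, 3, 0, 2],
  .comb 2 [7, 8] [3, 1, 2, 0, 3, 3, 3, 0, 2, 0, 0, 2, 1, 2],
  .comb 2 [8, 6] [3, 1, 1, 1, 3, 1, 3, 1, 2, 2, 0, 2, 0],
  .comb 2 [8, 7] [3, 0, 3, 1, 1, 3, 1, 2, 2, 2, 1, 3, 0, 2],
  .comb 2 [6, 6, 6] [0, 3, 0, 3, 1, 1, 2, 2, 2, 1, 1, 3, 0, 2, 0],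
  .comb 2 [6, 6, 7] [3, 3, 3, 3, 3, 3, 0, 2, 2, 0, 2, 2, 2, 1],
  .comb 2 [6, 6, 8] [2, 2, 2, 0, 2, 0, 2, 0, 0, 2, 1, 2, 2, 1],
  .comb 2 [6, 7, 6] [3, 3, 1, 3, 0, 2, 0, 3, 1, 1, 3, 1, 1],
  .comb 2 [6, 7, 8] [3, 1, 2, 1, 1, 2, 0, 3, 3, 3, 3, 0],
  .comb 2 [6, 8, 6] [0, 2, 0, 0, 3, 3, 3, 1, 3, 0, 2, 0, 2, 0],
  .comb 2 [6, 8, 7] [0, 2, 2, 1, 1, 2, 2, 2, 2, 1, 2, 1, 3, 0],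
  .comb 2 [7, 6, 6] [2, 1, 3, 0, 2, 0, 0, 2, 2, 2, 2, 1, 3],
  .comb 2 [7, 6, 7] [1, 3, 1, 3, 0, 0, 3, 1, 3, 1, 1, 3, 3, 3, 1],
  .comb 2 [7, 6, 8] [2, 0, 2, 1, 1, 3, 3, 1, 1, 2, 2, 0, 3]]

/-- The steps, a part. -/
def certStepsPart1 : List (Step) := [
  .comb 2 [7, 8, 6] [1, 2, 0, 2, 2, 0, 2, 2, 1, 2, 0, 2],
  .comb 2 [7, 8, 7] [2, 2, 1, 2, 2, 1, 3, 3, 0, 2, 2, 0, 3, 1, 1],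
  .comb 2 [8, 6, 6] [2, 0, 0, 0, 3, 3, 3, 0, 0, 2, 1, 2, 1, 3, 3],
  .comb 2 [8, 6, 7] [1, 3, 1, 2, 0, 2, 2, 0, 3, 0, 0, 3, 1, 1],
  .comb 2 [8, 6, 8] [2, 0, 2, 2, 2, 0, 3, 1, 3, 1, 2, 2, 1, 2],
  .comb 2 [8, 7, 6] [2, 1, 2, 2, 0, 0, 0, 2, 2, 1, 3, 3, 1],
  .comb 2 [8, 7, 8] [0, 0, 0, 0],
  .comb 2 [6, 6, 6, 6] [1, 3, 0, 0, 3, 3, 3, 1, 3, 3, 0, 0, 2, 0],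
  .comb 2 [6, 6, 6, 7] [0, 3, 3, 0, 3, 3, 0, 0, 2, 2, 1, 1, 2, 1],
  .comb 2 [6, 6, 6, 8] [3, 0, 3, 3, 1, 2, 0, 2, 1, 3, 3, 0, 3, 3, 1],
  .comb 2 [6, 6, 7, 6] [0, 3, 3, 1, 2, 2, 2, 0, 2, 1, 3, 1, 1],
  .comb 2 [6, 6, 7, 8] [2, 2, 2, 0, 2, 0, 2, 0, 0, 2, 1, 2, 2, 0, 0, 0],
  .comb 2 [6, 6, 8, 6] [2, 1, 3, 3, 3, 0, 2, 2, 2, 2, 1, 2, 1, 2, 0, 0],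
  .comb 2 [6, 6, 8, 7] [0, 0, 2, 2, 0, 3, 0, 0, 3, 1, 3, 0, 2, 0],
  .comb 2 [6, 7, 6, 8] [2, 2, 1, 1, 2, 0, 2, 0, 3, 0, 3, 3, 1],
  .comb 2 [6, 7, 8, 6] [3, 3, 0, 0, 3, 1, 3, 0, 0, 0, 3, 3, 0, 2],
  .comb 2 [6, 7, 8, 7] [3, 3, 3, 0, 2, 1, 1, 2, 2, 1, 1, 1],
  .comb 2 [6, 8, 6, 6] [1, 3, 1, 2, 0, 2, 2, 0, 3, 0, 0, 3, 0, 0],
  .comb 2 [6, 8, 6, 7] [1, 3, 1, 3, 1, 2, 0, 2, 2, 2, 1, 1, 3, 0, 0, 0],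
  .comb 2 [6, 8, 6, 8] [1, 3, 3, 3, 0, 3, 3, 3, 1, 2, 0, 3, 1],
  .comb 2 [6, 8, 7, 8] [3, 0, 3, 1, 3, 1, 2, 1, 3, 3, 1, 1, 1],
  .comb 2 [7, 6, 6, 7] [1, 1, 3, 3, 1, 1, 3, 3, 1, 1, 2, 2],
  .comb 2 [7, 6, 6, 8] [3, 1, 3, 0, 3, 3, 1, 3, 3, 1, 3, 0],
  .comb 2 [7, 6, 7, 6] [3, 3, 1, 3, 0, 2, 0, 3, 1, 1, 3, 0, 0],
  .comb 2 [7, 6, 7, 8] [2, 1, 2, 0, 0, 3, 3, 0, 0, 2, 2, 0, 3],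
  .comb 2 [7, 6, 8, 6] [2, 0, 3, 0, 2, 1, 2, 2, 2, 0, 2, 1],
  .comb 2 [7, 6, 8, 7] [2, 1, 3, 3, 0, 2, 1, 1, 3, 3, 0, 0, 3],
  .comb 2 [7, 8, 6, 6] [3, 3, 3, 0, 2, 1, 1, 2, 2, 0],
  .comb 2 [7, 8, 6, 7] [3, 3, 1, 3, 1, 1, 3, 3, 1, 3, 0, 3, 3, 3],
  .comb 2 [7, 8, 6, 8] [0, 0, 3, 3, 1, 1, 3, 3, 1, 1, 2, 2],
  .comb 2 [7, 8, 7, 6] [3, 1, 3, 3, 3, 3, 3, 0, 0, 0, 3, 0, 3, 0, 0, 0],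
  .comb 2 [7, 8, 7, 8] [0, 3, 1, 3, 0, 2, 2, 0, 0, 0, 0, 2, 1],
  .comb 2 [8, 6, 6, 7] [2, 1, 3, 3, 3, 0, 2, 2, 2, 2, 1, 2, 1, 2, 1, 1],
  .comb 2 [8, 6, 6, 8] [0, 3, 0, 3, 3, 3, 1, 3, 1, 2, 2],
  .comb 2 [8, 6, 7, 8] [2, 2, 1, 3, 0, 3, 3, 1, 3, 3, 3, 1, 2, 2],
  .comb 2 [8, 6, 8, 6] [0, 3, 3, 1, 2, 2, 2, 0, 2, 1, 3, 0, 0],
  .comb 2 [8, 7, 6, 6] [0, 3, 3, 1, 3, 3, 1, 1, 3, 3, 1, 2, 2, 2],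
  .comb 2 [8, 7, 6, 8] [3, 1, 2, 0, 0, 2, 2, 2, 1, 3, 0, 3, 0, 3],
  .comb 2 [8, 7, 8, 6] [2, 0, 3, 3, 3, 3, 1, 1, 3, 1, 2, 0, 3],
  .comb 2 [8, 7, 8, 7] [0, 3, 0, 0, 0, 0, 3, 3, 1, 2, 0, 2, 1],
  .comb 2 [6, 6, 6, 6, 6] [1, 2, 2, 0, 3, 0, 2, 0, 2, 1, 2],
  .comb 2 [6, 6, 6, 6, 8] [2, 2, 0, 3, 0, 3, 1, 1, 2, 2, 2, 1, 1, 1, 3],
  .comb 2 [6, 6, 6, 7, 6] [3, 1, 3, 0, 0, 2, 0, 2, 1, 1, 2, 2, 0, 0],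
  .comb 2 [6, 6, 6, 7, 8] [2, 2, 2, 1, 1, 2, 2, 0, 3, 3, 3, 1, 3, 1],
  .comb 2 [6, 6, 6, 8, 7] [0, 2, 0, 2, 2, 2, 1, 3, 3, 0, 0, 3, 3, 3],
  .comb 2 [6, 6, 7, 6, 8] [1, 2, 0, 2, 1, 1, 3, 3, 1, 1, 3, 3, 1, 2, 0],
  .comb 2 [6, 6, 7, 8, 6] [1, 2, 2, 2, 2, 1, 3, 0, 0, 3, 0, 2],
  .comb 2 [6, 6, 7, 8, 7] [3, 1, 3, 0, 3, 3, 1, 3, 3, 1, 3, 1, 1, 1],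
  .comb 2 [6, 6, 8, 6, 6] [1, 3, 1, 3, 1, 2, 0, 2, 2, 2, 1, 1, 3, 1],
  .comb 2 [6, 6, 8, 6, 8] [3, 3, 0, 0, 2, 2, 0, 0, 2, 2, 0, 0],
  .comb 2 [6, 6, 8, 7, 8] [1, 1, 3, 3, 1, 3, 0, 0, 3, 0, 2, 0, 2, 0, 0],
  .comb 2 [6, 7, 6, 8, 7] [3, 3, 0, 2, 1, 3, 1, 3, 3, 1, 1, 3, 0, 2],
  .comb 2 [6, 7, 8, 6, 7] [3, 1, 3, 1, 3, 1, 2, 0, 3, 1, 3, 0, 3],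
  .comb 2 [6, 7, 8, 6, 8] [2, 2, 0, 3, 3, 1, 3, 0, 2, 1, 2, 1, 2],
  .comb 2 [6, 7, 8, 7, 8] [1, 1, 3, 1, 3, 1, 2, 1, 1, 2, 0, 2, 2, 1, 1],
  .comb 2 [6, 8, 6, 6, 7] [2, 2, 1, 2, 2, 0, 2, 0, 3, 3, 0, 2, 0],
  .comb 2 [6, 8, 6, 6, 8] [0, 0, 3, 3, 1, 3, 0, 0, 3, 0, 2, 0, 2, 0, 0],
  .comb 2 [6, 8, 6, 7, 8] [3, 0, 3, 0, 3, 1, 2, 0, 2, 2, 1, 3, 3],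
  .comb 2 [6, 8, 7, 8, 7] [1, 1, 2, 0, 0, 2, 1, 3, 1, 2, 0, 2, 2],
  .comb 2 [7, 6, 6, 7, 6] [0, 2, 1, 3, 0, 2, 2, 2, 1, 2, 2, 2, 0],
  .comb 2 [7, 6, 6, 8, 6] [3, 3, 3, 0, 2, 2, 0, 0, 2, 2, 0, 2, 2, 1],
  .comb 2 [7, 6, 6, 8, 7] [1, 3, 1, 3, 3, 0, 2, 0, 2, 0, 0, 0, 2],
  .comb 2 [7, 6, 7, 8, 6] [2, 0, 2, 1, 3, 1, 3, 1, 3, 0, 2, 2, 0],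
  .comb 2 [7, 6, 8, 6, 8] [2, 0, 0, 0, 3, 0, 3, 3, 3, 0, 2, 2, 0, 0, 0],
  .comb 2 [7, 6, 8, 7, 8] [3, 0, 3, 3, 0, 2, 0, 2, 1, 3, 3, 3, 1, 3],
  .comb 2 [7, 8, 6, 6, 8] [3, 1, 2, 0, 3, 1, 2, 2, 2, 0, 0, 2, 1, 3],
  .comb 2 [7, 8, 6, 7, 8] [3, 3, 0, 2, 0, 2, 2, 2, 1, 2, 1],
  .comb 2 [7, 8, 7, 6, 6] [3, 1, 1, 3, 0, 3, 0, 0, 3, 1, 2, 1, 2, 0],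
  .comb 2 [7, 8, 7, 6, 8] [0, 2, 2, 2, 0, 0, 2, 0, 2, 1, 1, 2, 0, 2, 0],
  .comb 2 [7, 8, 7, 8, 7] [3, 1, 2, 1, 1, 3, 0, 3, 3, 0, 0, 2, 0, 2],
  .comb 2 [8, 6, 6, 8, 7] [2, 0, 2, 1, 2, 2, 1, 1, 1, 2, 1, 1, 2, 0],
  .comb 2 [8, 7, 6, 6, 8] [3, 3, 0, 0, 2, 2, 0, 0, 2, 2, 1, 1],
  .comb 2 [8, 7, 8, 6, 6] [2, 0, 3, 1, 1, 3, 3, 3, 0, 2, 1, 3, 0, 2],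
  .comb 2 [8, 7, 8, 7, 8] [2, 2, 2, 1, 3, 0, 0, 3, 0, 3, 0, 2, 2, 2],
  .comb 2 [6, 6, 8, 6, 6, 8] [2, 0, 0, 0, 3, 0, 3, 3, 3, 0, 2, 2, 1],
  .comb 3 [9, 9] [2, 0, 3, 1, 3, 0, 2, 2, 0, 2, 1, 2, 2, 0, 0],
  .comb 3 [9, 10] [2, 2, 0, 3, 1, 3, 0, 3, 0, 0, 0, 3, 3, 0, 3, 1],
  .comb 3 [9, 11] [3, 1, 1, 2, 2, 0, 0, 3],
  .comb 3 [10, 9] [3, 1, 3, 3, 0, 0, 0, 3, 0, 2, 0, 2, 2, 0],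
  .comb 3 [10, 11] [3, 0, 3, 1, 1, 2, 2, 2, 0, 0, 3, 1, 2, 1, 3, 0],
  .comb 3 [11, 10] [3, 3, 3, 0, 2, 1, 1, 2, 2, 1, 1, 1],
  .comb 3 [11, 11] [3, 3, 0, 0, 3, 3, 3, 3, 0, 2, 1, 1, 1, 3],
  .comb 3 [9, 9, 11] [0, 3, 1, 3, 1, 2, 1, 3, 0, 3, 0, 3, 0, 2, 1],
  .comb 3 [9, 10, 11] [3, 3, 3, 0, 2, 1, 2, 2, 0, 2, 1, 3, 0, 2],
  .comb 3 [9, 11, 10] [0, 2, 2, 2, 1, 2, 0, 3, 0, 2, 2, 1, 1, 2, 1],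
  .comb 3 [9, 11, 11] [2, 2, 1, 3, 3, 0, 2, 2, 1, 3, 0, 0, 0, 3],
  .comb 3 [10, 9, 11] [0, 0, 3, 3, 0, 3, 0, 0, 3, 1, 2, 0, 2, 0],
  .comb 3 [10, 11, 10] [1, 2, 1, 1, 2, 2, 2, 1, 3, 3, 3, 1, 2, 1],
  .comb 3 [10, 11, 11] [3, 3, 3, 0, 2, 1, 1, 2, 2, 0],
  .comb 3 [11, 10, 9] [3, 3, 0, 2, 2, 2, 2, 1, 2, 1, 2, 0, 0, 2, 0, 0],
  .comb 3 [11, 11, 10] [0, 2, 2, 1, 1, 3, 1, 2, 0, 2, 0, 0, 3, 0, 2, 0],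
  .comb 3 [11, 11, 11] [0, 0, 0, 0],
  .comb 3 [9, 9, 11, 11] [2, 1, 1, 3, 0, 3, 1, 1, 2, 0],
  .comb 3 [9, 10, 11, 10] [3, 0, 3, 0, 2, 1, 1, 2, 1, 2, 1, 1, 2, 0, 0],
  .comb 3 [9, 10, 11, 11] [3, 0, 2, 0, 2, 0, 0, 2, 0, 2, 2, 1, 2, 1],
  .comb 3 [9, 11, 11, 10] [0, 2, 1, 3, 3, 3, 0, 2, 1, 3, 3, 3, 0],
  .comb 3 [9, 11, 11, 11] [3, 1, 2, 1, 3, 3, 1, 3, 0, 2, 0, 2, 2, 0, 0],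
  .comb 3 [10, 9, 11, 10] [2, 1, 1, 3, 3, 0, 0, 2],
  .comb 3 [10, 9, 11, 11] [3, 3, 3, 3, 0, 2, 2, 0, 0, 2, 2, 2, 2, 2, 0],
  .comb 3 [10, 11, 11, 10] [2, 0, 0, 0, 3, 1, 2, 2, 2, 2, 1, 1, 2, 2],
  .comb 3 [10, 11, 11, 11] [1, 2, 2, 1, 1, 2, 1, 2, 1, 2, 2, 0, 3, 0],
  .comb 3 [11, 11, 10, 9] [1, 3, 1, 3, 0, 2, 1, 1, 2, 1, 2, 2, 0, 0],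
  .comb 3 [9, 9, 11, 11, 11] [2, 2, 0, 0, 3, 0, 2, 2, 2, 0, 0, 3, 1, 2, 0],
  .comb 3 [9, 10, 11, 11, 10] [1, 3, 0, 0, 2, 1, 2, 0, 0, 3],
  .comb 3 [9, 10, 11, 11, 11] [2, 2, 2, 0, 2, 0, 3, 0, 2, 2, 1, 3, 0, 3, 1],
  .comb 3 [10, 9, 11, 11, 10] [2, 1, 1, 2, 2, 0, 2, 2, 2, 1, 2, 0, 2, 1],
  .comb 3 [10, 9, 11, 11, 11] [3, 3, 0, 2, 2, 0, 3, 3, 3, 3, 0, 3, 0, 3, 1],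
  .comb 4 [12, 15, 12, 16] [3, 3, 0, 3, 3, 3, 3, 3, 0, 3, 1, 1, 1],
  .comb 4 [13, 13] [1, 2, 0, 0, 3, 1, 2, 0, 0, 3],
  .comb 4 [12, 13] [2, 1, 1, 3, 1, 2, 1, 1, 3, 1],
  .comb 4 [15, 12, 16] [1, 2, 1, 2, 2, 2, 2, 2, 1, 2, 2],
  .comb 4 [12, 16] [0, 2, 1, 2, 1, 1, 1, 2, 1, 2],
  .comb 4 [13, 13, 16, 14] [1, 1, 3, 3, 3, 3, 1, 3, 1, 2, 1, 2],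
  .comb 4 [14, 16, 13] [3, 0, 3, 0, 2, 0, 2, 2, 2, 2, 0, 0],
  .comb 4 [12, 13, 16, 14, 16] [2, 1, 2, 1, 1, 2, 2, 0, 3, 1, 3],
  .comb 4 [16, 12] [3, 0, 3, 0, 0, 0, 3, 0, 3, 1],
  .comb 4 [12, 13, 13, 16, 14] [0, 0, 3, 3, 3, 3, 1, 3, 1, 2, 1, 2],
  .comb 4 [12, 16, 12] [2, 0, 2, 0, 3, 1, 3, 3, 3, 0, 2],
  .comb 4 [12, 13, 16, 12, 15] [0, 2, 2, 1, 2, 1, 1, 2, 2, 2],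
  .comb 4 [12, 16, 12, 13, 15] [3, 3, 3, 0, 0, 3, 0, 3, 3, 1],
  .comb 4 [13, 13, 16, 12, 13] [0, 3, 0, 3, 3, 0, 0, 2, 2, 0],
  .comb 4 [16, 12, 15] [3, 3, 0, 3, 3, 3, 3, 3, 0, 3, 0],
  .comb 4 [13, 14, 16, 15, 16] [2, 2, 1, 3, 1, 2, 1, 2, 0, 2, 2, 1, 3, 3, 1],
  .comb 4 [16, 13, 13] [1, 2, 1, 2, 0, 3, 0, 2, 2, 2, 1, 1, 3],
  .comb 4 [15, 16, 13, 14, 16] [3, 1, 3, 1, 2, 1, 3, 0, 3, 0, 3, 0, 2, 1, 1],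
  .comb 4 [13, 14, 16, 13, 15] [2, 1, 1, 2, 1, 2, 2, 2, 0, 2, 0, 2, 0],
  .comb 4 [13, 14, 16, 14, 16] [2, 0, 3, 3, 3, 3, 1, 2, 2, 1, 3, 3, 0, 3, 0, 0],
  .comb 4 [13, 15, 14, 16] [3, 3, 1, 3, 3, 0, 0, 0, 3, 0, 3, 3, 3, 0, 0],
  .comb 4 [12, 16, 13, 16, 12] [0, 3, 3, 3, 0, 3, 3, 1, 2, 2, 0, 0, 0],
  .comb 4 [13, 13, 16, 13] [0, 3, 0, 3, 3, 0, 0, 2, 2, 1, 1, 1],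
  .comb 4 [15, 14] [2, 2, 1, 3, 1, 2, 1, 3, 3, 0, 0, 0],
  .comb 4 [13, 14, 15, 16] [0, 3, 3, 3, 1, 2, 1, 3, 0, 3, 0, 2, 1],
  .comb 4 [13, 16, 13, 16] [3, 3, 1, 3, 0, 2, 2, 1, 2, 0, 2, 2, 1, 2, 2, 0],
  .comb 4 [15, 13, 16, 14] [0, 3, 1, 2, 1, 2, 0, 3, 0, 2, 2, 2, 1],
  .comb 4 [14, 15] [2, 2, 0, 2, 0, 0, 3, 0, 3, 3, 0, 0],
  .comb 4 [13, 16] [2, 0, 0, 3, 3, 3, 1, 2, 1, 3, 0, 3, 0],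
  .comb 4 [13, 15, 16, 14, 16] [1, 1, 1, 3, 3, 0, 2, 2, 1, 2, 2, 2, 1],
  .comb 4 [14, 13, 16, 15] [0, 3, 3, 3, 3, 1, 2, 2, 1, 2, 0, 2, 0, 2, 0],
  .comb 4 [13, 15, 16, 13, 14] [1, 3, 1, 3, 1, 3, 3, 3, 0, 3, 0, 0, 3],
  .comb 5 [17, 17] [0, 0, 3, 3, 0, 0, 0, 2, 0, 2, 0, 2, 0],
  .comb 5 [17, 18] [0, 2, 2, 2, 0, 3, 0, 0, 3, 3, 0, 2, 2, 1, 1],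
  .comb 5 [17, 19] [3, 1, 1, 3, 3, 0, 3, 0, 2, 1, 3, 0, 3, 3, 0],
  .comb 5 [18, 17] [2, 0, 2, 0, 0, 0, 2, 2, 2, 2, 0, 2, 0],
  .comb 5 [18, 18] [2, 0, 0, 0, 2, 1, 2, 1, 2, 1, 1, 1, 2, 0],
  .comb 5 [18, 19] [1, 3, 0, 2, 0, 2, 2, 1, 2, 2, 2, 0, 3],
  .comb 5 [19, 17] [2, 2, 0, 2, 0, 3, 3, 0, 3, 1, 2, 1, 2, 0, 0],
  .comb 5 [19, 18] [1, 2, 1, 2, 0, 2, 1, 2, 1, 1],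
  .comb 5 [19, 19] [3, 3, 1, 3, 0, 0, 0, 3, 0, 2, 1, 1, 3],
  .comb 5 [17, 17, 18] [3, 3, 0, 0, 3, 0, 2, 1, 2, 0, 0, 3, 3, 1],
  .comb 5 [17, 17, 19] [3, 1, 1, 2, 2, 2, 0, 3, 0, 3, 0, 2, 2, 0],
  .comb 5 [17, 18, 18] [0, 3, 0, 2, 1, 2, 0, 3, 3, 0, 3, 0, 0, 0],
  .comb 5 [17, 18, 19] [1, 1, 3, 3, 1, 3, 1, 2, 2, 1, 3, 0, 2],
  .comb 5 [17, 19, 17] [2, 1, 3, 1, 3, 3, 3, 1, 1, 1, 2, 1, 1],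
  .comb 5 [17, 19, 18] [1, 2, 1, 2, 2, 1, 3, 1, 1, 3, 0, 3, 0],
  .comb 5 [17, 19, 19] [1, 2, 0, 0, 3, 0, 2, 1, 1, 2, 2, 1, 2, 2],
  .comb 5 [18, 17, 17] [1, 1, 1, 2, 1, 2, 2, 1, 3, 0, 3, 1, 2, 1],
  .comb 5 [18, 17, 19] [3, 0, 0, 3, 3, 3, 3, 3, 0, 0, 0, 2, 2, 0, 0],
  .comb 5 [18, 18, 17] [0, 2, 2, 1, 1, 3, 0, 3, 1, 2, 1, 1, 2, 2],
  .comb 5 [18, 18, 19] [0, 2, 2, 0, 2, 2, 2, 1, 2, 1, 3, 3, 0, 0],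
  .comb 5 [18, 19, 17] [2, 1, 2, 2, 1, 1, 2, 1, 2, 2, 2, 1],
  .comb 5 [18, 19, 19] [0, 2, 1, 3, 3, 0, 2, 0, 0, 2, 2, 1],
  .comb 5 [19, 17, 17] [0, 3, 3, 1, 1, 3, 3, 1, 3, 1, 2, 1, 1, 1, 2],
  .comb 5 [19, 17, 18] [2, 0, 2, 1, 1, 3, 3, 3, 3, 0, 0, 3, 1],
  .comb 5 [19, 18, 17] [2, 2, 0, 2, 1, 2, 2, 2, 2, 2, 1, 3, 1],
  .comb 5 [19, 18, 18] [1, 1, 3, 1, 2, 2, 2, 2, 2, 0, 2, 1],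
  .comb 5 [19, 18, 19] [3, 1, 2, 0, 3, 3, 0, 2, 0, 2, 2, 0, 0],
  .comb 5 [19, 19, 17] [3, 0, 3, 3, 0, 0, 0, 3, 0, 2, 2, 2, 1],
  .comb 5 [19, 19, 18] [3, 3, 3, 3, 0, 0, 3, 1, 1, 1, 3, 3, 0],
  .comb 5 [19, 19, 19] [2, 0, 0, 3, 1, 2, 1, 1, 1, 2, 0, 2, 2],
  .comb 5 [17, 17, 18, 19] [3, 0, 3, 0, 2, 2, 0, 3, 3, 1, 3, 3, 1, 3, 0],
  .comb 5 [17, 17, 19, 17] [3, 0, 0, 0, 3, 0, 2, 0, 2, 2, 0, 0, 2, 2, 1],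
  .comb 5 [17, 17, 19, 18] [2, 1, 3, 1, 1, 1, 2, 1, 2, 0, 2],
  .comb 5 [17, 17, 19, 19] [3, 1, 1, 3, 3, 1, 3, 0, 0, 3, 1, 1, 1, 3, 1],
  .comb 5 [17, 18, 18, 17] [0, 2, 2, 0, 3, 3, 3, 3, 3, 0, 0, 0, 2, 2, 0],
  .comb 5 [17, 18, 19, 17] [1, 2, 0, 3, 1, 3, 0, 3, 1, 2, 2, 2, 1],
  .comb 5 [17, 18, 19, 19] [2, 1, 3, 3, 3, 0, 3, 3, 1, 3, 1, 2, 0],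
  .comb 5 [17, 19, 17, 17] [3, 0, 0, 0, 3, 0, 3, 3, 0, 3, 0, 2, 0, 0],
  .comb 5 [17, 19, 17, 18] [2, 2, 1, 3, 3, 3, 3, 3, 1, 3, 0, 3, 0, 0],
  .comb 5 [17, 19, 18, 17] [0, 0, 3, 0, 3, 1, 3, 0, 3, 0],
  .comb 5 [17, 19, 19, 17] [0, 3, 3, 3, 0, 2, 1, 2, 0, 2, 1, 3, 0],
  .comb 5 [17, 19, 19, 18] [0, 2, 1, 1, 1, 3, 3, 0, 2, 2, 2, 1, 3, 3, 0],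
  .comb 5 [17, 19, 19, 19] [2, 2, 1, 1, 1, 3, 3, 0, 2, 0, 2, 1, 2, 0],
  .comb 5 [18, 17, 19, 17] [0, 3, 1, 3, 3, 3, 3, 3, 0, 2, 0, 0],
  .comb 5 [18, 17, 19, 19] [0, 2, 2, 2, 0, 3, 1, 3, 0, 2, 2, 2, 2, 1],
  .comb 5 [18, 18, 19, 19] [2, 2, 2, 1, 2, 1, 1, 2, 2, 0, 0, 2, 2, 2, 0],
  .comb 5 [18, 19, 19, 19] [0, 3, 0, 2, 0, 3, 1, 3, 0, 2, 2, 1, 3, 0],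
  .comb 5 [19, 18, 17, 17] [0, 0, 3, 0, 3, 0, 2, 0, 3, 3, 0, 3, 0],
  .comb 5 [19, 18, 18, 19] [3, 3, 0, 2, 1, 1, 1, 3, 3, 0, 3, 0, 3, 0, 0],
  .comb 5 [19, 18, 19, 19] [3, 3, 3, 3, 0, 2, 2, 1, 1, 2, 2, 1, 2, 2, 1],
  .comb 5 [19, 19, 17, 17] [3, 3, 1, 2, 1, 2, 1, 2, 2, 1, 1, 2, 2, 2],
  .comb 5 [19, 19, 17, 18] [1, 2, 1, 2, 2, 1, 3, 1, 2, 1, 2, 1, 1],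
  .comb 5 [19, 19, 18, 17] [2, 2, 2, 2, 2, 2, 0, 3, 1, 1, 1, 3, 3, 0, 3],
  .comb 5 [17, 17, 18, 19, 17] [3, 3, 0, 3, 3, 0, 0, 3, 1, 2, 1, 1, 3, 0],
  .comb 5 [17, 17, 19, 19, 19] [0, 3, 3, 3, 1, 2, 1, 1, 1, 2, 2, 1, 2],
  .comb 5 [17, 19, 18, 17, 17] [3, 1, 3, 0, 3, 0, 2, 1, 3, 1, 1],
  .comb 6 [21, 21, 20, 21, 20, 20, 20, 21, 21] [3, 3, 3, 1, 3, 0, 3, 0],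
  .comb 6 [21, 20, 21, 20, 20, 21, 20, 21, 20, 21, 21] [0, 3, 1, 1, 2, 2, 0, 2, 1, 1],
  .comb 6 [20, 20, 20, 21, 20, 20, 21, 21, 20, 21] [3, 1, 1, 2, 0, 2, 2, 1, 3, 3],
  .comb 6 [20, 21, 20, 20, 20, 21, 21] [1, 3, 0, 3, 3, 1, 3, 1, 1],
  .comb 6 [20, 20, 20, 20, 20, 21, 20, 20, 21, 20, 20, 20, 20] [1, 2, 2, 2, 2, 1, 2, 1, 3],
  .comb 6 [20, 20, 20, 20, 20, 21, 20, 20, 20, 20] [3, 1, 1, 2, 2, 2, 1, 2, 2],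
  .comb 6 [21, 20, 20, 21, 20, 21, 20, 21, 21, 20] [2, 2, 0, 3, 1, 2, 0, 0, 3, 0],
  .comb 6 [20, 20, 21, 21, 20, 20, 21, 20, 20, 21, 21] [0, 3, 0, 2, 0, 2, 2, 1, 1, 2],
  .comb 6 [20, 21, 20, 21, 20, 21, 21, 20, 21, 20, 20, 21] [3, 3, 1, 2, 2, 1, 3, 0, 2, 0],
  .comb 6 [20, 20, 20, 21, 20, 20, 20, 21, 21, 20, 20, 21] [0, 2, 0, 2, 0, 3, 0, 3, 1],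
  .comb 6 [21, 20, 20, 20, 21, 20, 21, 21, 20, 21, 21] [0, 0, 2, 0, 2, 2, 1, 2, 0],
  .comb 6 [20, 20, 20, 21, 20, 21, 21, 20, 20, 20, 20] [2, 1, 3, 3, 3, 0, 2, 1, 3, 3, 1],
  .comb 6 [20, 21, 20, 20, 21, 20, 20, 21, 21] [1, 2, 0, 3, 3, 3, 3, 3, 0, 0],
  .comb 6 [20, 21, 20, 20, 20, 20, 21, 20, 20, 20, 21, 20] [2, 1, 2, 2, 2, 2, 2, 1, 1, 2, 0],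
  .comb 6 [20, 20, 21, 20, 20, 20, 21, 20, 20, 21, 20] [2, 2, 0, 0, 3, 3, 3, 0, 3],
  .comb 6 [20, 21, 21, 20, 20, 20, 21, 21, 20, 20, 20, 21] [3, 3, 1, 3, 0, 2, 2, 2, 0, 2],
  .comb 6 [21, 20, 20, 21, 20, 20, 21] [0, 2, 1, 2, 2, 1, 3, 0, 0, 3, 0],
  .comb 6 [20, 20, 21, 21, 20, 20, 20, 20, 21, 21, 20] [2, 0, 3, 0, 3, 3, 3, 3, 0],
  .comb 6 [20, 21, 20, 21, 21, 20, 20, 20, 20, 21] [2, 1, 1, 2, 1, 2, 1, 1, 1, 2, 0],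
  .comb 6 [21, 21, 20, 20, 20, 21, 20, 21, 20, 21, 21] [2, 1, 1, 1, 2, 0, 0, 2, 1, 2, 0],
  .comb 6 [20, 20, 21, 21, 20, 21, 20, 20, 21, 20, 21] [1, 1, 3, 1, 3, 1, 2, 1, 1, 2, 1],
  .comb 6 [20, 20, 20, 20, 21, 21, 20, 20, 20, 20, 21, 21] [1, 1, 3, 3, 3, 3, 0, 3, 0, 3, 0],
  .comb 6 [21, 20, 20, 20, 21, 20, 21, 21, 20] [1, 2, 1, 2, 0, 2, 2, 2],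
  .comb 6 [20, 21, 21, 20, 20, 20, 21, 20, 21, 21] [3, 0, 0, 3, 3, 1, 3, 1, 2, 1],
  .comb 6 [20, 20, 21, 21, 20, 21, 20, 20, 21, 20, 20, 20, 20] [0, 2, 2, 2, 2, 2, 1, 1, 3],
  .comb 6 [20, 20, 21, 21, 20, 20, 21, 21, 20, 21] [2, 1, 2, 2, 2, 1, 1, 3, 3],
  .comb 6 [20, 20, 20, 20, 20, 21, 20, 20, 20, 21, 20, 21, 20, 21] [2, 1, 1, 2, 2, 1, 1, 3, 0, 2, 1, 3, 0, 0],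
  .comb 6 [20, 20, 21, 20, 21, 20, 21, 21, 20, 20, 20, 21] [0, 2, 2, 2, 2, 1, 3, 0, 0, 0, 3, 3, 1, 1],
  .comb 6 [20, 20, 20, 20, 20, 21, 20, 21, 21, 20, 20, 20, 20] [1, 1, 3, 0, 0, 0, 2, 2, 0, 3, 3],
  .comb 6 [20, 21, 21, 20, 20, 21, 20, 20, 20, 21, 20] [2, 1, 3, 1, 3, 1, 3, 3, 3, 1, 3, 0, 0, 2],
  .comb 6 [21, 20, 21, 20, 20, 21, 20, 20, 21, 20, 20] [1, 2, 0, 3, 1, 1, 1, 2, 0, 2, 1, 3, 1],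
  .comb 6 [20, 21, 21, 20, 20, 21, 21, 20, 20, 21, 21, 20] [2, 0, 0, 0, 2, 1, 2, 0, 2, 2, 0, 3],
  .comb 6 [20, 20, 20, 20, 21, 21, 20, 20, 20, 20, 21, 20, 21] [3, 0, 0, 0, 2, 2, 2, 0, 0, 0, 2, 2, 1],
  .comb 6 [20, 21, 20, 20, 20, 21, 20] [1, 2, 0, 2, 1, 1, 3, 0, 3, 1, 2, 0, 2, 2],
  .comb 6 [20, 20, 20, 20, 21, 21, 20, 20, 21, 21, 20, 20, 21] [1, 2, 2, 0, 3, 1, 3, 1, 3, 0, 3, 1],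
  .comb 6 [20, 21, 21, 20, 20, 21, 21, 20] [3, 3, 3, 0, 0, 0, 3, 1, 2, 2, 1, 1, 2, 2],
  .comb 6 [20, 20, 20, 21, 21, 20, 20, 21, 20, 20, 21] [1, 3, 3, 1, 2, 0, 2, 2, 0, 0, 2, 2, 1, 3, 1],
  .comb 6 [20, 21, 20, 20, 21, 20, 20, 20, 20, 21, 21, 20] [3, 0, 0, 0, 3, 3, 1, 3, 0, 3, 1, 3, 1, 1, 1],
  .comb 6 [20, 20, 21, 20, 20, 21, 20, 20, 20, 21, 20, 20] [2, 2, 0, 3, 3, 0, 0, 2, 2, 2, 0, 3, 3],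
  .comb 6 [20, 20, 20, 20, 20, 21, 21, 20, 20, 20, 21, 20] [3, 0, 0, 3, 3, 0, 2, 0, 2, 0, 3, 1, 2, 1],
  .comb 6 [20, 20, 20, 21, 21, 20, 20, 21, 20, 20, 20, 21, 21] [0, 3, 0, 2, 1, 2, 0, 2, 2, 1, 3, 1, 3, 1],
  .comb 6 [20, 20, 21, 20, 21, 21, 20, 20, 20, 20, 21, 20] [1, 2, 2, 2, 2, 0, 3, 1, 3, 0, 2, 2, 2, 0],
  .comb 6 [21, 20, 20, 20, 21, 20, 21, 21, 20, 20] [3, 1, 1, 2, 2, 2, 1, 3, 1, 3, 0, 3, 0],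
  .comb 6 [20, 20, 21, 20, 20, 20, 20] [0, 3, 3, 0, 0, 3, 0, 3, 1, 1, 3, 3],
  .comb 6 [20, 20, 20, 20, 21, 21, 20, 20, 21, 20, 20, 21, 20] [0, 2, 0, 3, 3, 1, 1, 3, 3, 1, 3, 0, 2, 2, 0],
  .comb 6 [20, 20, 20, 20, 21, 20, 20, 20, 21, 20, 20] [1, 3, 0, 3, 1, 2, 1, 3, 3, 0, 2],
  .comb 6 [20, 21, 20, 20, 20, 21, 20, 20, 21, 21, 20] [0, 3, 3, 1, 1, 1, 3, 3, 3, 1, 1, 1, 2],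
  .comb 6 [20, 20, 20, 21, 20, 21, 21, 20, 20, 20, 21] [3, 3, 3, 1, 1, 3, 3, 3, 1, 3, 0, 3, 0, 0],
  .comb 6 [20, 20, 20, 21, 20, 20, 20, 20, 21, 21, 20, 21] [3, 0, 2, 0, 3, 1, 2, 0, 0, 3, 3, 3, 0, 0],
  .comb 6 [20, 21, 20, 20, 21, 20, 20, 20] [0, 2, 1, 2, 0, 2, 0, 2, 1, 3, 3, 0],
  .comb 6 [20, 20, 21, 20, 20, 20, 20, 21, 21, 20, 21, 21] [1, 3, 1, 3, 3, 3, 1, 3, 3, 1, 2, 0, 2, 0],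
  .comb 6 [20, 20, 21, 20, 21, 21, 20, 21, 20] [3, 0, 3, 0, 2, 2, 2, 2, 0, 2, 1, 2, 1, 3],
  .comb 6 [21, 20, 20, 21, 21, 20, 21, 20, 20, 20, 21] [1, 3, 0, 3, 0, 2, 2, 0, 0, 2, 0, 2, 0, 0],
  .comb 6 [20, 21, 20, 21, 20, 20, 20, 21, 21] [2, 1, 3, 3, 1, 3, 0, 3, 1, 1, 1, 3],
  .comb 6 [21, 20, 21, 21, 20, 20, 20, 21, 21, 20, 20, 20] [1, 1, 2, 2, 2, 1, 1, 3, 0, 2, 1, 3, 1, 2],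
  .comb 6 [20, 21, 21, 20, 20, 20, 21, 21, 20, 20, 20, 20] [1, 3, 1, 3, 0, 2, 2, 0, 2, 2, 2, 0, 2, 0],
  .comb 6 [20, 21, 20, 20, 20, 20, 21, 20, 20, 21] [1, 2, 0, 2, 1, 2, 2, 0, 0, 0, 2, 0, 2, 2],
  .comb 6 [20, 20, 21, 20, 20, 20, 21, 21, 20, 20, 20, 21, 20] [1, 1, 3, 1, 3, 1, 1, 3, 3, 1, 2, 1, 2, 0],
  .comb 6 [20, 20, 20, 21, 20, 21, 21, 20, 20, 20, 20, 21, 21] [3, 1, 1, 2, 0, 2, 2, 2, 0, 2, 0, 2, 0, 3],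
  .comb 6 [20, 21, 20, 21, 20, 20, 20, 21, 20, 21, 21] [1, 2, 1, 2, 0, 2, 0, 3, 3, 3, 0, 0, 2],
  .comb 6 [20, 20, 20, 20, 21, 20, 20, 21, 20, 21, 20, 21, 20] [0, 2, 0, 3, 1, 3, 0, 0, 0, 2, 1, 3, 0],
  .comb 6 [20, 20, 21, 21, 20, 20, 20, 20] [2, 2, 0, 0, 2, 1, 2, 1, 1, 2, 2, 1],
  .comb 6 [21, 21, 20, 21, 21] [2, 1, 1, 1, 2, 2, 2, 0, 3, 1, 1, 3, 3],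
  .comb 6 [20, 20, 20, 20, 20, 21, 21, 20, 20, 21, 20, 20, 20] [2, 0, 2, 2, 2, 2, 0, 3, 0, 2, 2, 2, 2, 1],
  .comb 6 [20, 20, 20, 21, 21, 20, 21, 20] [2, 2, 1, 3, 3, 1, 1, 1, 2, 0, 0],
  .comb 6 [21, 20, 21, 20, 20, 20, 20, 21, 20, 21, 20] [0, 2, 1, 2, 2, 2, 0, 2, 2, 2, 1],
  .comb 6 [20, 20, 20, 21, 21, 20, 20, 20, 21, 20, 20, 20] [0, 3, 3, 0, 2, 2, 2, 1, 3, 3, 0, 3, 0],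
  .comb 6 [20, 20, 20, 20, 21, 21, 20, 20, 20, 21, 21, 20, 20] [3, 1, 2, 2, 0, 3, 0, 2, 1, 2, 0],
  .comb 6 [20, 20, 21, 20, 20, 20, 21, 20, 20, 21, 21, 20, 21, 20] [0, 2, 0, 2, 0, 3, 3, 1, 3, 0, 3, 1, 2, 1],
  .comb 6 [20, 21, 20, 21, 21, 20, 20, 20, 20, 21, 20, 20] [2, 0, 0, 2, 1, 1, 1, 2, 2, 1, 2, 2, 1, 1, 1],
  .comb 6 [20, 21, 20, 20, 20, 21, 20, 21, 21, 20, 21, 21] [0, 2, 2, 2, 0, 3, 3, 0, 3, 1, 1, 2, 0],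
  .comb 6 [21, 20, 20, 21, 20, 21, 21, 20, 20, 20, 20, 21] [2, 2, 2, 1, 3, 1, 2, 2, 1, 1, 1, 2, 2, 0],
  .comb 6 [20, 21, 20, 21, 20, 20, 21] [2, 2, 2, 2, 0, 3, 1, 1, 1, 3, 3, 3, 1, 1],
  .comb 6 [21, 20, 20, 20, 21, 20, 20, 21, 20, 21] [0, 3, 3, 3, 1, 3, 3, 3, 0, 3, 1],
  .comb 6 [20, 20, 21, 20, 20, 21, 20, 21, 20, 21] [2, 0, 0, 0, 3, 0, 2, 0, 0, 3, 3, 0, 0, 3],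
  .comb 6 [20, 21, 21, 20] [2, 2, 0, 0, 2, 1, 3, 3, 3, 0, 0, 0, 3],
  .comb 6 [20, 20, 20, 21, 21, 20, 20, 20, 20, 21, 20] [3, 0, 3, 1, 1, 1, 3, 0, 2, 1, 1, 3, 3, 0],
  .comb 6 [21, 20, 20, 21, 20, 21, 20, 21, 21, 20, 21] [2, 2, 0, 3, 0, 3, 1, 1, 2, 0, 0, 2, 0, 0],
  .comb 6 [20, 20, 20, 20, 21, 20, 21, 20, 21] [2, 0, 3, 0, 3, 1, 3, 3, 3, 3, 1, 2, 1, 2]]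

/-- The steps. -/
def certSteps : List (Step) := certStepsPart0 ++ certStepsPart1

end CfsgLib.CoThreeRec
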