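import Mathlib.Data.Nat.Notation

/-!
# Certificate data: representatives, moves, identities and facts
-/

set_option autoImplicit false
set_option maxRecDepth 100000

namespace CfsgLib.CoThreeRec

/-- The representatives, a part. -/
def certRepsPart0 : List (List ℕ) := [
  [],
  [2],
  [3],
  [0, 2],
  [2, 2],
  [0, 3],
  [3, 3],
  [2, 0, 2],
  [3, 0, 2],
  [0, 2, 2],
  [1, 2, 2],
  [2, 2, 2],
  [2, 0, 3],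
  [3, 0, 3],
  [0, 3, 3],
  [1, 3, 3],
  [3, 3, 3],
  [0, 2, 0, 2],
  [1, 2, 0, 2],
  [2, 2, 0, 2],
  [0, 3, 0, 2],
  [1, 3, 0, 2],
  [3, 3, 0, 2],
  [0, 0, 2, 2],
  [2, 0, 2, 2],
  [3, 0, 2, 2],
  [1, 1, 2, 2],
  [2, 1, 2, 2],
  [3, 1, 2, 2],
  [0, 2, 2, 2],
  [1, 2, 2, 2],
  [2, 2, 2, 2],
  [0, 2, 0, 3],
  [2, 2, 0, 3],
  [0, 3, 0, 3],
  [1, 3, 0, 3],
  [3, 3, 0, 3],
  [0, 0, 3, 3],
  [2, 0, 3, 3],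
  [3, 0, 3, 3],
  [1, 1, 3, 3],
  [2, 1, 3, 3],
  [3, 1, 3, 3],
  [0, 3, 3, 3],
  [1, 3, 3, 3],
  [3, 3, 3, 3],
  [0, 0, 2, 0, 2],
  [2, 0, 2, 0, 2],
  [3, 0, 2, 0, 2],
  [1, 1, 2, 0, 2],
  [2, 1, 2, 0, 2],
  [3, 1, 2, 0, 2],
  [0, 2, 2, 0, 2],
  [1, 2, 2, 0, 2],
  [2, 2, 2, 0, 2],
  [0, 0, 3, 0, 2],
  [2, 0, 3, 0, 2],
  [3, 0, 3, 0, 2],
  [1, 1, 3, 0, 2],
  [2, 1, 3, 0, 2],
  [3, 1, 3, 0, 2],
  [0, 3, 3, 0, 2],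
  [1, 3, 3, 0, 2],
  [3, 3, 3, 0, 2],
  [0, 0, 0, 2, 2],
  [2, 0, 0, 2, 2],
  [3, 0, 0, 2, 2],
  [0, 2, 0, 2, 2],
  [1, 2, 0, 2, 2],
  [2, 2, 0, 2, 2],
  [0, 3, 0, 2, 2],
  [1, 3, 0, 2, 2],
  [3, 3, 0, 2, 2],
  [1, 1, 1, 2, 2],
  [3, 1, 1, 2, 2],
  [0, 2, 1, 2, 2],
  [1, 2, 1, 2, 2],
  [2, 2, 1, 2, 2],
  [0, 3, 1, 2, 2],
  [1, 3, 1, 2, 2],
  [3, 3, 1, 2, 2],
  [0, 0, 2, 2, 2],
  [2, 0, 2, 2, 2],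
  [3, 0, 2, 2, 2],
  [1, 1, 2, 2, 2],
  [2, 1, 2, 2, 2],
  [0, 2, 2, 2, 2],
  [1, 2, 2, 2, 2],
  [2, 2, 2, 2, 2],
  [2, 0, 2, 0, 3],
  [3, 0, 2, 0, 3],
  [2, 2, 2, 0, 3],
  [2, 0, 3, 0, 3],
  [3, 0, 3, 0, 3],
  [2, 1, 3, 0, 3],
  [3, 1, 3, 0, 3],
  [0, 3, 3, 0, 3],
  [1, 3, 3, 0, 3],
  [3, 3, 3, 0, 3],
  [3, 0, 0, 3, 3],
  [0, 2, 0, 3, 3],
  [1, 2, 0, 3, 3],
  [2, 2, 0, 3, 3],
  [0, 3, 0, 3, 3],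
  [1, 3, 0, 3, 3],
  [3, 3, 0, 3, 3],
  [3, 1, 1, 3, 3],
  [0, 2, 1, 3, 3],
  [2, 2, 1, 3, 3],
  [0, 3, 1, 3, 3],
  [1, 3, 1, 3, 3],
  [3, 3, 1, 3, 3],
  [0, 0, 3, 3, 3],
  [2, 0, 3, 3, 3],
  [3, 0, 3, 3, 3],
  [1, 1, 3, 3, 3],
  [2, 1, 3, 3, 3],
  [1, 3, 3, 3, 3],
  [0, 0, 0, 2, 0, 2],
  [2, 0, 0, 2, 0, 2],
  [3, 0, 0, 2, 0, 2],
  [0, 2, 0, 2, 0, 2],
  [2, 2, 0, 2, 0, 2],
  [0, 3, 0, 2, 0, 2],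
  [1, 3, 0, 2, 0, 2],
  [3, 3, 0, 2, 0, 2],
  [1, 1, 1, 2, 0, 2],
  [2, 1, 1, 2, 0, 2],
  [3, 1, 1, 2, 0, 2],
  [0, 2, 1, 2, 0, 2],
  [1, 2, 1, 2, 0, 2],
  [1, 3, 1, 2, 0, 2],
  [3, 3, 1, 2, 0, 2],
  [0, 0, 2, 2, 0, 2],
  [2, 0, 2, 2, 0, 2],
  [3, 0, 2, 2, 0, 2],
  [1, 1, 2, 2, 0, 2],
  [2, 1, 2, 2, 0, 2],
  [3, 1, 2, 2, 0, 2],
  [0, 2, 2, 2, 0, 2],
  [1, 2, 2, 2, 0, 2],
  [2, 2, 2, 2, 0, 2],
  [0, 0, 0, 3, 0, 2],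
  [2, 0, 0, 3, 0, 2],
  [3, 0, 0, 3, 0, 2],
  [0, 2, 0, 3, 0, 2],
  [2, 2, 0, 3, 0, 2],
  [0, 3, 0, 3, 0, 2],
  [1, 3, 0, 3, 0, 2],
  [3, 3, 0, 3, 0, 2],
  [1, 1, 1, 3, 0, 2],
  [2, 1, 1, 3, 0, 2],
  [3, 1, 1, 3, 0, 2],
  [2, 2, 1, 3, 0, 2],
  [0, 3, 1, 3, 0, 2],
  [1, 3, 1, 3, 0, 2],
  [3, 3, 1, 3, 0, 2],
  [0, 0, 3, 3, 0, 2],
  [2, 0, 3, 3, 0, 2],
  [1, 1, 3, 3, 0, 2],
  [2, 1, 3, 3, 0, 2],
  [0, 3, 3, 3, 0, 2],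
  [3, 3, 3, 3, 0, 2],
  [2, 0, 0, 0, 2, 2],
  [3, 0, 0, 0, 2, 2],
  [0, 2, 0, 0, 2, 2],
  [1, 2, 0, 0, 2, 2],
  [2, 2, 0, 0, 2, 2],
  [0, 0, 2, 0, 2, 2],
  [2, 0, 2, 0, 2, 2],
  [3, 0, 2, 0, 2, 2],
  [1, 1, 2, 0, 2, 2],
  [3, 1, 2, 0, 2, 2],
  [1, 2, 2, 0, 2, 2],
  [2, 2, 2, 0, 2, 2],
  [0, 0, 3, 0, 2, 2],
  [2, 0, 3, 0, 2, 2],
  [3, 0, 3, 0, 2, 2],
  [1, 1, 3, 0, 2, 2],
  [3, 1, 3, 0, 2, 2],
  [0, 3, 3, 0, 2, 2],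
  [1, 3, 3, 0, 2, 2],
  [3, 3, 3, 0, 2, 2],
  [2, 1, 1, 1, 2, 2],
  [3, 1, 1, 1, 2, 2],
  [0, 0, 2, 1, 2, 2],
  [2, 0, 2, 1, 2, 2],
  [3, 0, 2, 1, 2, 2],
  [2, 1, 2, 1, 2, 2],
  [3, 1, 2, 1, 2, 2],
  [0, 2, 2, 1, 2, 2],
  [1, 2, 2, 1, 2, 2],
  [2, 2, 2, 1, 2, 2],
  [0, 0, 3, 1, 2, 2],
  [2, 0, 3, 1, 2, 2],
  [3, 0, 3, 1, 2, 2],
  [1, 1, 3, 1, 2, 2],
  [2, 1, 3, 1, 2, 2],
  [3, 1, 3, 1, 2, 2],
  [0, 3, 3, 1, 2, 2],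
  [0, 0, 0, 2, 2, 2],
  [2, 0, 0, 2, 2, 2],
  [3, 0, 0, 2, 2, 2],
  [0, 2, 0, 2, 2, 2],
  [1, 2, 0, 2, 2, 2],
  [2, 2, 0, 2, 2, 2],
  [1, 3, 0, 2, 2, 2],
  [1, 1, 1, 2, 2, 2],
  [2, 1, 1, 2, 2, 2],
  [3, 1, 1, 2, 2, 2],
  [0, 0, 2, 2, 2, 2],
  [2, 0, 2, 2, 2, 2],
  [3, 0, 2, 2, 2, 2],
  [1, 1, 2, 2, 2, 2],
  [2, 1, 2, 2, 2, 2],
  [3, 1, 2, 2, 2, 2],
  [0, 2, 2, 2, 2, 2],
  [1, 2, 2, 2, 2, 2],
  [2, 2, 0, 2, 0, 3],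
  [0, 2, 2, 2, 0, 3],
  [2, 2, 2, 2, 0, 3],
  [0, 2, 0, 3, 0, 3],
  [2, 2, 0, 3, 0, 3],
  [0, 3, 0, 3, 0, 3],
  [1, 3, 0, 3, 0, 3],
  [3, 3, 0, 3, 0, 3],
  [0, 3, 1, 3, 0, 3],
  [1, 3, 1, 3, 0, 3],
  [3, 3, 1, 3, 0, 3],
  [1, 1, 3, 3, 0, 3],
  [2, 1, 3, 3, 0, 3],
  [3, 1, 3, 3, 0, 3],
  [0, 3, 3, 3, 0, 3],
  [1, 3, 3, 3, 0, 3],
  [3, 3, 3, 3, 0, 3],
  [1, 3, 0, 0, 3, 3],
  [2, 1, 2, 0, 3, 3],
  [3, 1, 2, 0, 3, 3],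
  [2, 2, 2, 0, 3, 3],
  [0, 0, 3, 0, 3, 3],
  [2, 0, 3, 0, 3, 3],
  [3, 0, 3, 0, 3, 3],
  [1, 1, 3, 0, 3, 3],
  [2, 1, 3, 0, 3, 3],
  [0, 3, 3, 0, 3, 3],
  [1, 3, 3, 0, 3, 3],
  [3, 3, 3, 0, 3, 3],
  [1, 3, 1, 1, 3, 3],
  [3, 3, 1, 1, 3, 3],
  [2, 0, 2, 1, 3, 3],
  [3, 0, 2, 1, 3, 3],
  [0, 2, 2, 1, 3, 3],
  [1, 2, 2, 1, 3, 3],
  [2, 2, 2, 1, 3, 3],
  [2, 0, 3, 1, 3, 3],
  [3, 0, 3, 1, 3, 3],
  [3, 1, 3, 1, 3, 3],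
  [0, 3, 3, 1, 3, 3],
  [1, 3, 3, 1, 3, 3],
  [3, 3, 3, 1, 3, 3],
  [2, 0, 0, 3, 3, 3],
  [3, 0, 0, 3, 3, 3],
  [0, 2, 0, 3, 3, 3],
  [1, 2, 0, 3, 3, 3],
  [2, 2, 0, 3, 3, 3],
  [3, 3, 0, 3, 3, 3],
  [1, 1, 1, 3, 3, 3],
  [3, 1, 1, 3, 3, 3],
  [2, 2, 1, 3, 3, 3],
  [1, 1, 3, 3, 3, 3],
  [2, 1, 3, 3, 3, 3],
  [3, 1, 3, 3, 3, 3],
  [1, 2, 0, 0, 2, 0, 2],
  [2, 2, 0, 0, 2, 0, 2],
  [2, 0, 2, 0, 2, 0, 2],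
  [3, 0, 2, 0, 2, 0, 2],
  [0, 2, 2, 0, 2, 0, 2],
  [2, 2, 2, 0, 2, 0, 2],
  [0, 0, 3, 0, 2, 0, 2],
  [3, 0, 3, 0, 2, 0, 2],
  [1, 1, 3, 0, 2, 0, 2],
  [0, 3, 3, 0, 2, 0, 2],
  [1, 3, 3, 0, 2, 0, 2],
  [3, 3, 3, 0, 2, 0, 2],
  [3, 1, 1, 1, 2, 0, 2],
  [0, 2, 1, 1, 2, 0, 2],
  [2, 2, 1, 1, 2, 0, 2],
  [3, 3, 1, 1, 2, 0, 2],
  [3, 1, 2, 1, 2, 0, 2],
  [0, 3, 3, 1, 2, 0, 2],
  [3, 3, 3, 1, 2, 0, 2],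
  [2, 0, 0, 2, 2, 0, 2],
  [1, 3, 0, 2, 2, 0, 2],
  [3, 3, 0, 2, 2, 0, 2],
  [2, 1, 1, 2, 2, 0, 2],
  [3, 1, 1, 2, 2, 0, 2],
  [0, 2, 1, 2, 2, 0, 2],
  [1, 2, 1, 2, 2, 0, 2],
  [0, 3, 1, 2, 2, 0, 2],
  [3, 3, 1, 2, 2, 0, 2]]

/-- The representatives, a part. -/
def certRepsPart1 : List (List ℕ) := [
  [0, 0, 2, 2, 2, 0, 2],
  [2, 0, 2, 2, 2, 0, 2],
  [3, 0, 2, 2, 2, 0, 2],
  [1, 1, 2, 2, 2, 0, 2],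
  [3, 1, 2, 2, 2, 0, 2],
  [1, 2, 2, 2, 2, 0, 2],
  [2, 2, 2, 2, 2, 0, 2],
  [3, 0, 0, 0, 3, 0, 2],
  [0, 3, 0, 0, 3, 0, 2],
  [3, 3, 0, 0, 3, 0, 2],
  [2, 2, 2, 0, 3, 0, 2],
  [0, 0, 3, 0, 3, 0, 2],
  [1, 1, 3, 0, 3, 0, 2],
  [3, 1, 3, 0, 3, 0, 2],
  [1, 3, 3, 0, 3, 0, 2],
  [3, 3, 3, 0, 3, 0, 2],
  [3, 1, 1, 1, 3, 0, 2],
  [1, 3, 1, 1, 3, 0, 2],
  [3, 3, 1, 1, 3, 0, 2],
  [1, 2, 2, 1, 3, 0, 2],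
  [2, 0, 3, 1, 3, 0, 2],
  [2, 1, 3, 1, 3, 0, 2],
  [3, 1, 3, 1, 3, 0, 2],
  [0, 3, 3, 1, 3, 0, 2],
  [1, 3, 3, 1, 3, 0, 2],
  [3, 0, 0, 3, 3, 0, 2],
  [0, 2, 0, 3, 3, 0, 2],
  [2, 1, 1, 3, 3, 0, 2],
  [3, 1, 1, 3, 3, 0, 2],
  [2, 2, 1, 3, 3, 0, 2],
  [0, 0, 3, 3, 3, 0, 2],
  [2, 0, 3, 3, 3, 0, 2],
  [3, 0, 3, 3, 3, 0, 2],
  [1, 3, 3, 3, 3, 0, 2],
  [0, 2, 0, 0, 0, 2, 2],
  [2, 2, 0, 0, 0, 2, 2],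
  [3, 3, 0, 0, 0, 2, 2],
  [0, 0, 2, 0, 0, 2, 2],
  [1, 1, 2, 0, 0, 2, 2],
  [2, 1, 2, 0, 0, 2, 2],
  [0, 2, 2, 0, 0, 2, 2],
  [1, 2, 2, 0, 0, 2, 2],
  [2, 2, 2, 0, 0, 2, 2],
  [0, 0, 0, 2, 0, 2, 2],
  [2, 0, 0, 2, 0, 2, 2],
  [3, 0, 0, 2, 0, 2, 2],
  [1, 1, 1, 2, 0, 2, 2],
  [2, 1, 1, 2, 0, 2, 2],
  [3, 1, 1, 2, 0, 2, 2],
  [0, 3, 1, 2, 0, 2, 2],
  [3, 3, 1, 2, 0, 2, 2],
  [1, 1, 2, 2, 0, 2, 2],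
  [2, 1, 2, 2, 0, 2, 2],
  [0, 0, 0, 3, 0, 2, 2],
  [2, 0, 0, 3, 0, 2, 2],
  [0, 2, 0, 3, 0, 2, 2],
  [1, 2, 0, 3, 0, 2, 2],
  [1, 3, 0, 3, 0, 2, 2],
  [3, 3, 0, 3, 0, 2, 2],
  [1, 1, 1, 3, 0, 2, 2],
  [2, 1, 1, 3, 0, 2, 2],
  [0, 3, 1, 3, 0, 2, 2],
  [1, 3, 1, 3, 0, 2, 2],
  [3, 3, 1, 3, 0, 2, 2],
  [0, 0, 3, 3, 0, 2, 2],
  [3, 0, 3, 3, 0, 2, 2],
  [1, 1, 3, 3, 0, 2, 2],
  [2, 1, 3, 3, 0, 2, 2],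
  [1, 3, 3, 3, 0, 2, 2],
  [3, 3, 3, 3, 0, 2, 2],
  [0, 3, 1, 1, 1, 2, 2],
  [1, 3, 1, 1, 1, 2, 2],
  [3, 0, 0, 2, 1, 2, 2],
  [1, 2, 0, 2, 1, 2, 2],
  [1, 3, 0, 2, 1, 2, 2],
  [3, 3, 0, 2, 1, 2, 2],
  [0, 2, 1, 2, 1, 2, 2],
  [1, 2, 1, 2, 1, 2, 2],
  [0, 3, 1, 2, 1, 2, 2],
  [1, 3, 1, 2, 1, 2, 2],
  [3, 3, 1, 2, 1, 2, 2],
  [0, 0, 2, 2, 1, 2, 2],
  [2, 0, 2, 2, 1, 2, 2],
  [2, 1, 2, 2, 1, 2, 2],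
  [0, 2, 2, 2, 1, 2, 2],
  [1, 2, 2, 2, 1, 2, 2],
  [2, 0, 0, 3, 1, 2, 2],
  [2, 2, 0, 3, 1, 2, 2],
  [2, 1, 1, 3, 1, 2, 2],
  [2, 2, 1, 3, 1, 2, 2],
  [0, 3, 1, 3, 1, 2, 2],
  [1, 3, 1, 3, 1, 2, 2],
  [2, 0, 3, 3, 1, 2, 2],
  [0, 2, 0, 0, 2, 2, 2],
  [2, 2, 0, 0, 2, 2, 2],
  [3, 3, 0, 0, 2, 2, 2],
  [2, 0, 2, 0, 2, 2, 2],
  [3, 0, 2, 0, 2, 2, 2],
  [1, 1, 2, 0, 2, 2, 2],
  [0, 2, 2, 0, 2, 2, 2],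
  [1, 2, 2, 0, 2, 2, 2],
  [2, 2, 2, 0, 2, 2, 2],
  [1, 1, 3, 0, 2, 2, 2],
  [3, 1, 3, 0, 2, 2, 2],
  [2, 1, 1, 1, 2, 2, 2],
  [3, 1, 1, 1, 2, 2, 2],
  [0, 2, 1, 1, 2, 2, 2],
  [2, 2, 1, 1, 2, 2, 2],
  [0, 0, 0, 2, 2, 2, 2],
  [2, 0, 0, 2, 2, 2, 2],
  [0, 2, 0, 2, 2, 2, 2],
  [2, 2, 0, 2, 2, 2, 2],
  [1, 3, 0, 2, 2, 2, 2],
  [2, 1, 1, 2, 2, 2, 2],
  [3, 1, 1, 2, 2, 2, 2],
  [1, 2, 1, 2, 2, 2, 2],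
  [2, 2, 1, 2, 2, 2, 2],
  [0, 3, 1, 2, 2, 2, 2],
  [3, 3, 1, 2, 2, 2, 2],
  [2, 0, 2, 2, 2, 2, 2],
  [3, 0, 2, 2, 2, 2, 2],
  [1, 1, 2, 2, 2, 2, 2],
  [2, 1, 2, 2, 2, 2, 2],
  [1, 2, 2, 0, 2, 0, 3],
  [0, 0, 2, 2, 2, 0, 3],
  [2, 0, 2, 2, 2, 0, 3],
  [0, 2, 2, 2, 2, 0, 3],
  [1, 2, 2, 2, 2, 0, 3],
  [2, 2, 2, 2, 2, 0, 3],
  [0, 3, 3, 0, 3, 0, 3],
  [1, 3, 3, 0, 3, 0, 3],
  [2, 0, 3, 1, 3, 0, 3],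
  [2, 1, 3, 1, 3, 0, 3],
  [3, 1, 3, 1, 3, 0, 3],
  [1, 3, 3, 1, 3, 0, 3],
  [3, 1, 1, 3, 3, 0, 3],
  [0, 2, 1, 3, 3, 0, 3],
  [0, 3, 1, 3, 3, 0, 3],
  [0, 0, 3, 3, 3, 0, 3],
  [2, 0, 3, 3, 3, 0, 3],
  [3, 0, 3, 3, 3, 0, 3],
  [1, 1, 3, 3, 3, 0, 3],
  [2, 1, 3, 3, 3, 0, 3],
  [3, 1, 3, 3, 3, 0, 3],
  [0, 2, 2, 2, 0, 3, 3],
  [2, 2, 2, 2, 0, 3, 3],
  [2, 0, 0, 3, 0, 3, 3],
  [3, 0, 0, 3, 0, 3, 3],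
  [0, 3, 0, 3, 0, 3, 3],
  [1, 2, 1, 3, 0, 3, 3],
  [2, 2, 1, 3, 0, 3, 3],
  [0, 0, 3, 3, 0, 3, 3],
  [3, 1, 3, 3, 0, 3, 3],
  [0, 3, 3, 3, 0, 3, 3],
  [1, 3, 3, 3, 0, 3, 3],
  [3, 3, 3, 3, 0, 3, 3],
  [0, 3, 3, 1, 1, 3, 3],
  [3, 3, 3, 1, 1, 3, 3],
  [2, 2, 0, 2, 1, 3, 3],
  [3, 3, 0, 2, 1, 3, 3],
  [0, 2, 2, 2, 1, 3, 3],
  [1, 2, 2, 2, 1, 3, 3],
  [2, 2, 0, 3, 1, 3, 3],
  [0, 3, 0, 3, 1, 3, 3],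
  [3, 3, 0, 3, 1, 3, 3],
  [0, 0, 3, 3, 1, 3, 3],
  [3, 0, 3, 3, 1, 3, 3],
  [3, 1, 3, 3, 1, 3, 3],
  [0, 3, 3, 3, 1, 3, 3],
  [1, 3, 3, 3, 1, 3, 3],
  [3, 3, 3, 3, 1, 3, 3],
  [1, 2, 0, 0, 3, 3, 3],
  [2, 0, 2, 0, 3, 3, 3],
  [2, 2, 2, 0, 3, 3, 3],
  [3, 3, 3, 0, 3, 3, 3],
  [3, 3, 1, 1, 3, 3, 3],
  [0, 2, 2, 1, 3, 3, 3],
  [2, 2, 2, 1, 3, 3, 3],
  [1, 1, 1, 3, 3, 3, 3],
  [3, 1, 1, 3, 3, 3, 3],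
  [2, 2, 1, 3, 3, 3, 3],
  [1, 3, 1, 3, 3, 3, 3],
  [2, 1, 2, 0, 0, 2, 0, 2],
  [0, 2, 2, 0, 0, 2, 0, 2],
  [1, 2, 2, 0, 0, 2, 0, 2],
  [2, 2, 0, 2, 0, 2, 0, 2],
  [0, 3, 0, 2, 0, 2, 0, 2],
  [0, 2, 2, 2, 0, 2, 0, 2],
  [1, 2, 2, 2, 0, 2, 0, 2],
  [2, 2, 2, 2, 0, 2, 0, 2],
  [0, 3, 0, 3, 0, 2, 0, 2],
  [1, 3, 0, 3, 0, 2, 0, 2],
  [0, 3, 3, 3, 0, 2, 0, 2],
  [1, 3, 3, 3, 0, 2, 0, 2],
  [1, 2, 2, 1, 1, 2, 0, 2],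
  [2, 2, 2, 1, 1, 2, 0, 2],
  [0, 3, 1, 2, 1, 2, 0, 2],
  [1, 3, 1, 2, 1, 2, 0, 2],
  [0, 3, 3, 3, 1, 2, 0, 2],
  [1, 3, 3, 3, 1, 2, 0, 2],
  [0, 2, 0, 0, 2, 2, 0, 2],
  [1, 2, 0, 0, 2, 2, 0, 2],
  [3, 3, 3, 0, 2, 2, 0, 2],
  [0, 2, 1, 1, 2, 2, 0, 2],
  [1, 2, 1, 1, 2, 2, 0, 2],
  [1, 1, 2, 1, 2, 2, 0, 2],
  [3, 1, 2, 1, 2, 2, 0, 2],
  [2, 0, 3, 1, 2, 2, 0, 2],
  [1, 2, 0, 2, 2, 2, 0, 2],
  [2, 2, 0, 2, 2, 2, 0, 2],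
  [0, 3, 0, 2, 2, 2, 0, 2],
  [3, 3, 0, 2, 2, 2, 0, 2],
  [2, 1, 1, 2, 2, 2, 0, 2],
  [0, 3, 1, 2, 2, 2, 0, 2],
  [1, 3, 1, 2, 2, 2, 0, 2],
  [3, 3, 1, 2, 2, 2, 0, 2],
  [0, 2, 2, 2, 2, 2, 0, 2],
  [0, 2, 2, 2, 0, 3, 0, 2],
  [2, 1, 1, 3, 0, 3, 0, 2],
  [3, 1, 1, 3, 0, 3, 0, 2],
  [1, 1, 3, 3, 0, 3, 0, 2],
  [3, 1, 3, 3, 0, 3, 0, 2],
  [0, 3, 3, 3, 0, 3, 0, 2],
  [1, 3, 1, 1, 1, 3, 0, 2],
  [2, 1, 3, 1, 1, 3, 0, 2],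
  [0, 3, 3, 1, 1, 3, 0, 2],
  [1, 3, 3, 1, 1, 3, 0, 2],
  [2, 1, 2, 2, 1, 3, 0, 2],
  [2, 2, 1, 3, 1, 3, 0, 2],
  [3, 3, 1, 3, 1, 3, 0, 2],
  [0, 0, 3, 3, 1, 3, 0, 2],
  [2, 1, 3, 3, 1, 3, 0, 2],
  [1, 3, 0, 0, 3, 3, 0, 2],
  [2, 0, 2, 0, 3, 3, 0, 2],
  [0, 3, 1, 1, 3, 3, 0, 2],
  [3, 3, 1, 1, 3, 3, 0, 2],
  [0, 2, 2, 1, 3, 3, 0, 2],
  [0, 0, 0, 3, 3, 3, 0, 2],
  [1, 2, 0, 3, 3, 3, 0, 2],
  [0, 3, 0, 3, 3, 3, 0, 2],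
  [3, 3, 0, 3, 3, 3, 0, 2],
  [1, 1, 3, 3, 3, 3, 0, 2],
  [3, 0, 2, 0, 0, 0, 2, 2],
  [0, 3, 3, 0, 0, 0, 2, 2],
  [3, 3, 3, 0, 0, 0, 2, 2],
  [2, 1, 1, 2, 0, 0, 2, 2],
  [0, 2, 1, 2, 0, 0, 2, 2],
  [2, 2, 1, 2, 0, 0, 2, 2],
  [2, 0, 2, 2, 0, 0, 2, 2],
  [3, 1, 2, 2, 0, 0, 2, 2],
  [0, 2, 2, 2, 0, 0, 2, 2],
  [1, 2, 2, 2, 0, 0, 2, 2],
  [2, 2, 2, 2, 0, 0, 2, 2],
  [0, 2, 0, 0, 2, 0, 2, 2],
  [2, 2, 1, 1, 2, 0, 2, 2],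
  [3, 3, 3, 1, 2, 0, 2, 2],
  [0, 2, 0, 0, 3, 0, 2, 2],
  [2, 2, 0, 0, 3, 0, 2, 2],
  [3, 0, 2, 0, 3, 0, 2, 2],
  [1, 1, 3, 0, 3, 0, 2, 2],
  [2, 1, 3, 0, 3, 0, 2, 2],
  [1, 3, 3, 0, 3, 0, 2, 2],
  [1, 3, 3, 1, 3, 0, 2, 2],
  [0, 3, 3, 3, 3, 0, 2, 2],
  [1, 3, 3, 3, 3, 0, 2, 2],
  [1, 1, 3, 0, 2, 1, 2, 2],
  [3, 1, 3, 0, 2, 1, 2, 2],
  [0, 0, 3, 1, 2, 1, 2, 2],
  [1, 1, 3, 1, 2, 1, 2, 2],
  [2, 0, 0, 2, 2, 1, 2, 2],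
  [2, 0, 2, 2, 2, 1, 2, 2],
  [2, 1, 2, 2, 2, 1, 2, 2],
  [3, 1, 2, 2, 2, 1, 2, 2],
  [2, 2, 0, 0, 3, 1, 2, 2],
  [1, 2, 1, 1, 3, 1, 2, 2],
  [0, 0, 3, 1, 3, 1, 2, 2],
  [2, 0, 3, 1, 3, 1, 2, 2],
  [0, 0, 2, 0, 0, 2, 2, 2],
  [3, 0, 2, 0, 0, 2, 2, 2],
  [2, 1, 1, 2, 0, 2, 2, 2],
  [2, 0, 2, 2, 0, 2, 2, 2],
  [3, 1, 2, 2, 0, 2, 2, 2],
  [2, 2, 2, 2, 0, 2, 2, 2],
  [3, 3, 1, 3, 0, 2, 2, 2],
  [0, 2, 1, 1, 1, 2, 2, 2],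
  [2, 2, 2, 1, 1, 2, 2, 2],
  [2, 0, 2, 0, 2, 2, 2, 2],
  [0, 2, 1, 1, 2, 2, 2, 2],
  [0, 2, 2, 1, 2, 2, 2, 2],
  [2, 0, 3, 1, 2, 2, 2, 2],
  [0, 3, 3, 1, 2, 2, 2, 2],
  [3, 3, 3, 1, 2, 2, 2, 2],
  [0, 2, 1, 2, 2, 2, 2, 2],
  [1, 2, 1, 2, 2, 2, 2, 2],
  [2, 1, 2, 2, 0, 2, 0, 3],
  [0, 2, 0, 2, 2, 2, 0, 3],
  [1, 2, 0, 2, 2, 2, 0, 3],
  [1, 1, 2, 2, 2, 2, 0, 3],
  [0, 2, 2, 2, 2, 2, 0, 3],
  [2, 0, 2, 1, 3, 3, 0, 3]]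

/-- The representatives, a part. -/
def certRepsPart2 : List (List ℕ) := [
  [3, 0, 0, 3, 3, 3, 0, 3],
  [0, 3, 1, 3, 3, 0, 3, 3],
  [0, 0, 3, 3, 3, 0, 3, 3],
  [2, 0, 3, 3, 3, 0, 3, 3],
  [2, 1, 3, 3, 3, 0, 3, 3],
  [0, 0, 2, 2, 2, 1, 3, 3],
  [2, 0, 2, 2, 2, 1, 3, 3],
  [0, 3, 0, 3, 3, 1, 3, 3],
  [1, 3, 1, 3, 3, 1, 3, 3],
  [2, 1, 3, 3, 3, 1, 3, 3],
  [1, 2, 0, 2, 0, 3, 3, 3],
  [0, 3, 3, 3, 0, 3, 3, 3],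
  [3, 3, 3, 3, 0, 3, 3, 3],
  [0, 2, 2, 2, 1, 3, 3, 3],
  [1, 3, 1, 1, 3, 3, 3, 3],
  [3, 3, 1, 1, 3, 3, 3, 3],
  [1, 1, 3, 1, 3, 3, 3, 3],
  [3, 1, 2, 2, 2, 0, 2, 0, 2],
  [3, 0, 3, 0, 3, 0, 2, 0, 2],
  [2, 1, 3, 3, 3, 0, 2, 0, 2],
  [1, 1, 3, 1, 2, 1, 2, 0, 2],
  [3, 0, 3, 3, 3, 1, 2, 0, 2],
  [3, 0, 3, 0, 2, 2, 2, 0, 2],
  [1, 3, 3, 0, 2, 2, 2, 0, 2],
  [1, 2, 2, 1, 3, 1, 3, 0, 2],
  [1, 3, 3, 0, 3, 3, 3, 0, 2],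
  [3, 3, 3, 0, 3, 3, 3, 0, 2],
  [1, 2, 1, 1, 2, 0, 0, 2, 2],
  [0, 3, 1, 2, 2, 0, 0, 2, 2],
  [0, 2, 0, 3, 3, 3, 0, 3, 3]]

/-- The representatives. -/
def certReps : List (List ℕ) := certRepsPart0 ++ certRepsPart1 ++ certRepsPart2

/-- The identities, a part. -/
def certIdsPart0 : List (ℕ × List ℕ × ℕ × List ℕ) := [
  (0, [], 1, []),
  (1, [2, 2], 2, []),
  (1, [2, 2, 2], 3, []),
  (1, [2, 2, 0, 2], 4, []),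
  (2, [2, 0, 2], 5, []),
  (3, [3, 0, 2, 0, 2], 6, []),
  (1, [], 0, []),
  (1, [2, 0, 2, 1, 1, 2, 0, 2, 0, 3, 1, 3], 1, [3]),
  (2, [], 1, [2, 2]),
  (1, [0, 3, 0, 2, 1, 2, 0, 2, 0, 3, 1, 1, 3], 1, [0, 3]),
  (3, [], 1, [2, 2, 2]),
  (4, [], 1, [2, 2, 0, 2]),
  (1, [3, 1, 2, 1, 2, 2, 1, 3, 3, 3, 3, 0, 0, 0], 1, [2, 2, 2, 1, 2, 2]),
  (1, [0, 2, 2, 2, 0, 3, 1, 2, 0, 0, 2, 1, 2, 0], 1, [3, 3, 1, 1, 2, 0, 2]),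
  (1, [3, 0, 2, 2, 2, 2, 1, 1, 2, 2, 2, 1, 1, 3, 0], 1, [3, 3, 3, 1, 2, 0, 2]),
  (1, [2, 2, 0, 3, 3, 1, 3, 3, 0, 3, 3, 0, 2, 2], 1, [0, 2, 2, 2, 1, 2, 2]),
  (2, [0, 3, 3, 3, 0, 2, 2, 2, 1, 1, 3, 1, 1, 1], 1, [3, 0, 2, 2, 2, 2, 2]),
  (2, [3, 3, 1, 1, 1, 2, 0, 2, 2, 1, 3, 3, 0, 0], 1, [3, 0, 3, 3, 3, 0, 3]),
  (3, [0, 3, 0, 2, 0, 3, 0, 2, 2, 2, 1, 3], 2, [3]),
  (4, [0, 3, 3, 1, 1, 3, 0, 3, 3, 3, 1, 3, 0, 2], 2, [0, 3]),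
  (5, [], 2, [2, 0, 2]),
  (2, [1, 1, 2, 2, 2, 1, 1, 3, 0, 2, 0, 3, 1, 1], 2, [3, 0, 3, 0, 2, 2]),
  (2, [1, 1, 2, 1, 2, 0, 0, 2, 2, 2, 2, 1, 2, 0], 2, [2, 2, 2, 1, 2, 2]),
  (4, [2, 2, 1, 3, 1, 3, 3, 1, 2, 2, 2, 1, 3, 0, 2], 2, [0, 0, 3, 1, 2, 2]),
  (2, [2, 0, 3, 1, 3, 3, 3, 1, 2, 1, 2, 2, 1], 2, [2, 0, 2, 2, 2, 2]),
  (5, [2, 1, 3, 3, 3, 0, 3, 3, 1, 1, 3, 1, 1, 1], 2, [1, 1, 2, 2, 2, 2]),
  (5, [0, 0, 2, 2, 0, 2, 1, 2, 1, 3, 3, 0, 3, 1], 2, [2, 1, 2, 0, 3, 3]),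
  (5, [2, 0, 2, 2, 1, 3, 1, 2, 0, 0, 2, 2, 1, 2], 2, [3, 3, 1, 1, 3, 3]),
  (1, [3, 3, 1, 3, 3, 1, 1, 3, 0, 2, 2, 0, 3, 0], 2, [3, 3, 0, 3, 3, 3]),
  (3, [2, 1, 1, 2, 2, 0, 3, 0, 2, 1, 2, 1, 3, 3, 0], 2, [3, 3, 3, 1, 2, 0, 2]),
  (3, [3, 0, 3, 1, 3, 3, 0, 3, 3, 3, 0, 3, 0, 0, 0], 2, [0, 3, 1, 3, 3, 0, 3]),
  (3, [3, 3, 0, 3, 3, 0, 0, 3, 0, 0, 0, 0], 2, [2, 2, 2, 1, 1, 2, 0, 2]),
  (2, [2, 0, 3, 0, 3, 3, 1, 3, 3, 0, 2, 1, 3, 0, 0], 2, [0, 3, 3, 3, 1, 2, 0, 2]),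
  (5, [0, 0, 0, 3, 3, 1, 3, 0, 0, 3, 3, 0, 0, 0, 0], 2, [2, 2, 1, 2, 0, 0, 2, 2]),
  (4, [1, 2, 2, 2, 1, 3, 1, 2, 2, 0, 2, 2, 1], 2, [2, 0, 0, 2, 2, 1, 2, 2]),
  (3, [0, 3, 0, 2, 2, 2, 1, 2, 2, 2, 1], 3, [3]),
  (4, [2, 0, 0, 3, 3, 1, 3, 1, 2, 0, 0, 3, 0, 3], 3, [0, 3]),
  (6, [], 3, [3, 0, 2, 0, 2]),
  (2, [1, 2, 1, 1, 3, 1, 2, 2, 2, 1, 2, 2], 3, [2, 1, 1, 3, 0, 2]),
  (2, [2, 2, 1, 2, 2, 1, 3, 1, 3, 3, 1, 2, 2, 2], 3, [0, 3, 3, 3, 0, 2]),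
  (3, [2, 1, 3, 3, 3, 3, 1, 1, 3, 3, 1, 1, 1, 2], 3, [3, 0, 3, 0, 2, 2]),
  (3, [3, 0, 2, 1, 3, 0, 2, 1, 2, 0, 3, 0, 0], 3, [3, 1, 2, 1, 2, 2]),
  (3, [2, 1, 2, 2, 2, 1, 1, 3, 0, 2, 0, 3, 3, 3], 3, [0, 3, 3, 1, 2, 2]),
  (3, [2, 2, 0, 3, 1, 1, 3, 1, 1, 3, 3, 3, 0], 3, [2, 0, 2, 2, 2, 2]),
  (3, [1, 2, 1, 2, 0, 2, 2, 0, 3, 1, 3, 1, 2], 3, [1, 2, 2, 2, 2, 2]),
  (3, [1, 2, 0, 3, 0, 3, 0, 2, 0, 0, 2, 1, 1], 3, [0, 2, 0, 3, 0, 3]),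
  (3, [0, 0, 3, 3, 3, 0, 3, 1, 2, 0, 3, 0, 2], 3, [0, 3, 0, 3, 0, 3]),
  (3, [1, 1, 1, 3, 3, 0, 2, 2, 1, 1, 2, 0, 2, 0, 0], 3, [1, 3, 1, 3, 0, 3]),
  (3, [0, 0, 0, 0, 3, 3, 1, 2, 2, 2, 1, 3, 0, 0], 3, [1, 1, 3, 3, 0, 3]),
  (3, [1, 2, 2, 2, 1, 3, 0, 3, 1, 3, 3, 1, 1, 3], 3, [2, 1, 3, 3, 0, 3]),
  (3, [2, 0, 0, 3, 3, 3, 0, 2, 1, 1, 3, 0, 3, 1], 3, [3, 3, 3, 3, 0, 3]),
  (6, [0, 0, 3, 1, 1, 3, 1, 1, 3, 1, 2, 2, 2], 3, [1, 3, 0, 0, 3, 3]),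
  (6, [1, 1, 1, 3, 3, 1, 2, 2, 2, 0, 2], 3, [1, 3, 0, 0, 3, 3]),
  (6, [0, 3, 3, 0, 0, 0, 0, 2, 2, 0, 0, 0], 3, [1, 3, 0, 0, 3, 3]),
  (3, [3, 3, 0, 2, 1, 3, 0, 0, 0, 3, 3, 3, 1, 3, 3], 3, [1, 3, 1, 1, 3, 3]),
  (2, [3, 0, 2, 2, 1, 2, 1, 1, 2, 0, 3, 0, 0, 3], 3, [3, 3, 0, 3, 3, 3]),
  (3, [1, 3, 1, 3, 0, 3, 1, 3, 0, 0, 0, 0, 2], 3, [0, 2, 2, 0, 2, 0, 2]),
  (4, [0, 2, 0, 0, 3, 3, 3, 1, 1, 2, 1, 2, 0], 3, [3, 3, 1, 1, 2, 0, 2]),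
  (6, [0, 3, 1, 2, 2, 2, 2, 2, 1, 2, 1, 3, 0], 3, [1, 2, 1, 2, 2, 0, 2]),
  (6, [2, 1, 1, 3, 0, 3, 3, 1, 1, 2, 1, 2, 0], 3, [1, 2, 1, 2, 2, 0, 2]),
  (3, [2, 2, 2, 2, 0, 3, 0, 0, 3, 3, 1, 2], 3, [0, 3, 3, 1, 3, 0, 2]),
  (5, [0, 3, 1, 3, 3, 1, 3, 0, 2, 0, 3, 0, 3], 3, [3, 0, 0, 3, 3, 0, 2]),
  (2, [1, 3, 3, 1, 3, 0, 0, 0, 3, 3, 0, 0], 3, [2, 1, 2, 0, 0, 2, 2]),
  (3, [0, 0, 2, 0, 2, 2, 0, 3, 1, 3, 3, 3, 3, 1], 3, [0, 2, 2, 0, 0, 2, 2]),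
  (3, [2, 1, 3, 3, 3, 3, 3, 1, 1, 3, 3, 3, 3], 3, [3, 3, 0, 3, 0, 2, 2]),
  (6, [0, 3, 3, 3, 3, 1, 2, 1, 2, 0, 2, 0, 3], 3, [0, 0, 2, 2, 2, 0, 3]),
  (6, [3, 3, 0, 2, 2, 0, 2, 0, 3, 3, 1, 2, 1, 1, 3, 1], 3, [0, 0, 2, 2, 2, 0, 3]),
  (2, [3, 3, 1, 1, 1, 3, 3, 1, 1, 2, 0, 2, 1, 1], 3, [3, 1, 2, 2, 0, 0, 2, 2]),
  (2, [2, 0, 0, 3, 3, 0, 2, 2, 2, 1, 1, 3, 0, 0], 4, [3]),
  (2, [1, 1, 1, 3, 3, 0, 2, 0, 0, 2, 2, 0, 3], 4, [0, 3]),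
  (5, [3, 0, 2, 1, 1, 2, 0, 3, 3, 3, 3, 1, 2, 0], 4, [3, 3]),
  (3, [1, 3, 3, 0, 3, 0, 2, 1, 1, 2, 1, 2, 2, 1], 4, [0, 2, 0, 3]),
  (3, [3, 1, 2, 2, 1, 2, 2, 1, 2, 0, 2, 2, 1, 3], 4, [0, 0, 3, 3]),
  (4, [3, 0, 3, 3, 1, 1, 1, 2, 1, 2, 1, 1], 4, [1, 3, 0, 3, 3]),
  (5, [2, 2, 1, 3, 3, 3, 3, 1, 3, 1, 2, 1, 3, 3, 1], 4, [3, 3, 0, 3, 3]),
  (5, [3, 0, 2, 1, 2, 0, 0, 2, 2, 1, 1, 1, 3, 3], 4, [1, 3, 1, 3, 3]),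
  (3, [1, 1, 2, 2, 1, 1, 3, 1, 2, 1, 3], 4, [2, 0, 3, 3, 3]),
  (5, [2, 1, 2, 0, 2, 0, 3, 3, 3, 0, 3, 3, 0, 0], 4, [0, 0, 0, 2, 0, 2]),
  (5, [3, 0, 2, 0, 2, 1, 1, 3, 3, 3, 3, 1, 3, 1], 4, [3, 0, 3, 0, 2, 2]),
  (3, [3, 1, 2, 0, 3, 1, 1, 1, 3, 3, 0, 0, 3], 4, [0, 0, 0, 2, 2, 2]),
  (4, [2, 1, 3, 0, 2, 1, 3, 0, 3, 1, 2, 1, 1, 3, 0], 5, [2]),
  (4, [3, 3, 1, 2, 0, 2, 0, 3, 3, 3, 3, 3, 0, 0], 5, [2, 0, 3]),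
  (3, [0, 0, 0, 2, 2, 2, 0, 0, 2, 2, 1, 3, 1, 2], 5, [2, 1, 3, 3]),
  (2, [1, 2, 1, 3, 0, 3, 1, 3, 3, 0, 3, 1, 1, 3, 0], 5, [3, 1, 3, 0, 2]),
  (5, [2, 1, 1, 2, 0, 2, 2, 2, 0, 3, 3, 0, 2, 0], 5, [0, 3, 3, 0, 2]),
  (3, [0, 0, 3, 3, 3, 3, 1, 3, 1, 1, 3, 3, 3, 0, 0], 5, [3, 3, 3, 0, 2]),
  (5, [0, 0, 3, 3, 3, 1, 2, 0, 2, 0, 2, 0, 3, 0], 5, [0, 0, 0, 2, 2]),
  (3, [1, 1, 3, 3, 0, 0, 0, 2, 2, 2, 1, 1], 5, [2, 0, 0, 2, 2]),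
  (5, [0, 2, 1, 2, 0, 3, 3, 1, 2, 2, 0, 0, 2, 1], 5, [1, 1, 1, 2, 2]),
  (3, [1, 3, 1, 1, 3, 0, 0, 3, 3, 0, 2, 1, 1], 5, [1, 2, 1, 2, 2]),
  (3, [0, 3, 0, 2, 2, 0, 3, 0, 2, 1, 2, 0, 3, 1], 5, [2, 2, 1, 2, 2]),
  (3, [3, 1, 1, 3, 1, 2, 0, 2, 0, 3, 1], 5, [3, 0, 2, 2, 2]),
  (2, [2, 2, 0, 3, 0, 3, 3, 3, 3, 1, 3, 0, 3, 3], 5, [2, 1, 2, 2, 2]),
  (3, [1, 2, 2, 1, 1, 1, 2, 2, 0, 3, 3, 1, 2, 2, 0], 5, [0, 2, 2, 2, 2]),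
  (5, [0, 0, 0, 0, 2, 0, 0, 2, 2, 1, 2, 2, 1], 5, [1, 2, 2, 2, 2]),
  (5, [0, 3, 3, 1, 2, 1, 2, 0, 3, 0, 3, 1, 2], 5, [3, 1, 1, 2, 0, 2]),
  (5, [1, 1, 1, 2, 2, 2, 0, 3, 1, 1, 3, 0, 2, 1, 1], 5, [3, 0, 0, 0, 2, 2]),
  (5, [0, 2, 1, 1, 3, 0, 2, 1, 3, 1, 3, 3, 1], 5, [2, 2, 0, 2, 0, 3]),
  (3, [3, 0, 3, 0, 3, 1, 1, 3, 0, 0, 3, 3, 0, 2], 6, [0, 2]),
  (5, [1, 3, 3, 3, 3, 3, 3, 3, 0, 0, 0, 0], 6, [3, 3]),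
  (2, [1, 1, 2, 0, 2, 1, 3, 1, 3, 3, 1, 3, 1], 2, [3, 3]),
  (3, [0, 3, 3, 1, 2, 0, 2, 0, 3, 0, 2, 2, 1], 2, [1, 3, 3]),
  (3, [2, 1, 1, 1, 2, 0, 3, 3, 3, 3, 3, 0, 3, 1], 2, [2, 2, 0, 2]),
  (3, [3, 0, 2, 2, 1, 3, 3, 0, 3, 0, 3, 1], 2, [1, 3, 0, 2]),
  (3, [1, 3, 3, 1, 1, 3, 3, 0, 2, 0, 0, 2, 2, 2], 2, [2, 1, 2, 2]),
  (3, [0, 3, 1, 3, 0, 0, 0, 3, 3, 3, 3, 0, 0, 0], 2, [0, 0, 3, 3]),
  (2, [0, 3, 0, 0, 3, 0, 2, 1, 2, 2, 2, 2, 2, 0], 2, [3, 0, 2, 0, 3]),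
  (5, [0, 2, 2, 2, 0, 2, 0, 0, 2, 2, 2, 0, 0, 2], 3, [2, 2]),
  (5, [2, 2, 1, 2, 0, 3, 1, 3, 0, 0, 2, 2, 1], 3, [2, 0, 2]),
  (4, [1, 3, 1, 3, 1, 1, 1, 2, 2, 2, 0, 2, 0, 3], 3, [2, 2, 2]),
  (5, [0, 2, 2, 2, 2, 2, 2, 0, 0, 0, 0], 3, [3, 3, 0, 2]),
  (5, [2, 0, 2, 0, 3, 0, 3, 0, 0, 3, 3, 3, 0, 2], 3, [3, 0, 2, 2]),
  (5, [2, 1, 3, 3, 0, 0, 0, 2, 1, 2, 1], 3, [2, 1, 2, 2]),
  (3, [1, 1, 3, 3, 3, 3, 1, 2, 2, 0, 2, 2, 2, 1], 3, [2, 0, 2, 0, 2]),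
  (2, [0, 0, 2, 0, 2, 2, 0, 2, 2, 1, 2, 2, 0], 3, [0, 3, 3, 0, 2]),
  (2, [1, 1, 3, 1, 2, 0, 0, 0, 0, 3, 1, 3, 1], 3, [2, 2, 2, 2, 2]),
  (5, [1, 1, 2, 1, 1, 1, 2, 0, 0, 0, 2, 2], 3, [2, 2, 2, 0, 3]),
  (4, [2, 1, 1, 1, 2, 2, 1, 2, 1, 2], 3, [2, 0, 0, 0, 2, 2]),
  (6, [2, 2, 2, 2, 2, 2, 2, 2, 0, 0, 0, 0], 5, [1, 2, 2, 2])]

/-- The identities. -/
def certIds : List (ℕ × List ℕ × ℕ × List ℕ) := certIdsPart0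

/-- The stabiliser facts, a part. -/
def certStsPart0 : List (ℕ × List ℕ) := [
  (1, [0, 3, 0, 3, 1, 1, 2, 2, 2, 1, 1, 3, 0, 2, 0]),
  (1, [0, 3, 3, 1, 2, 1, 2, 1, 3, 0, 0, 3, 3, 3]),
  (1, [3, 1, 3, 0, 2, 1, 1, 2, 1, 2, 2, 0, 0, 0]),
  (1, [0, 0, 2, 2, 0, 3, 0, 3, 1, 3, 3, 3, 0]),
  (1, [3, 3, 0, 2, 1, 2, 1, 2, 1, 3, 3, 3]),
  (1, [2, 2, 2, 2, 2, 2, 2, 2, 2, 0, 0, 2]),
  (2, [3, 0, 3, 1, 3, 1, 2, 1, 3, 3, 0]),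
  (2, [2, 1, 1, 2, 2, 1, 1, 2, 0, 3, 0, 2, 2, 0]),
  (2, [0, 0, 2, 2, 1, 2, 2, 2, 2, 0, 0, 2, 2, 2, 0]),
  (3, [1, 2, 0, 3, 1, 3, 0, 2, 2, 0, 2, 1, 2, 2, 0]),
  (3, [2, 1, 3, 1, 3, 3, 3, 3, 1, 1, 3, 1, 3, 1]),
  (3, [0, 3, 0, 2, 2, 2, 0, 3, 3, 3, 0, 0, 3, 0]),
  (4, [0, 0, 0, 0]),
  (4, [2, 1, 1, 3, 0, 2, 1, 1, 3, 0]),
  (4, [3, 3, 0, 0, 0, 3, 3, 0, 2, 0, 3, 3, 3, 1]),
  (4, [3, 3, 3, 0, 2, 2, 1, 2, 2, 0, 2, 2, 1]),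
  (4, [3, 0, 3, 0, 0, 0, 3, 0, 3, 0, 0, 0]),
  (5, [1, 3, 1, 3, 1, 3, 1, 1, 1, 2, 2, 1, 1]),
  (5, [2, 0, 3, 0, 2, 1, 3, 3, 1, 2, 2, 1, 1, 1]),
  (5, [0, 0, 3, 0, 0, 0, 2, 2, 2, 0, 2, 0, 3]),
  (6, [3, 0, 0, 3, 3, 0, 2, 0, 0, 2, 0, 0, 2, 1]),
  (6, [0, 3, 3, 0, 0, 2, 2, 0, 0, 3]),
  (1, [2, 0, 0, 0, 0, 3]),
  (1, [3, 0, 2, 2, 2, 0, 3, 3, 3, 3]),
  (1, [2, 2, 2, 2, 1, 3, 3, 3, 0, 2, 1]),
  (1, [3, 1, 2, 2, 2, 0, 3, 3, 3, 3]),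
  (1, [0]),
  (1, [3, 1, 1, 3, 0, 0, 3, 1, 2, 2, 2]),
  (1, [3, 3, 3, 0, 2, 1, 1, 2, 2, 0]),
  (1, [0, 2, 2, 2, 2, 1, 3, 3, 3, 1, 2]),
  (1, [2, 2, 2, 2, 1, 3, 3, 3, 1, 2]),
  (1, [3, 0, 0, 0, 0, 2]),
  (1, [2, 2, 2, 0, 2, 0, 2, 0, 3, 3]),
  (1, [2, 2, 0, 3, 0, 3, 1, 3, 3, 3]),
  (1, [2, 0, 0, 3, 1]),
  (1, [1, 2, 0, 0, 0, 0, 3, 0]),
  (1, [1, 3, 3, 3, 0, 2, 1, 1, 2, 2]),
  (1, [3, 1, 3, 0, 2, 1, 1, 2, 1, 2, 2]),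
  (1, [0, 3, 3, 0, 0, 3, 1, 2, 2, 2]),
  (1, [3, 3, 0, 0, 3, 1, 2, 2, 2, 0]),
  (1, [2, 1, 3, 1, 2, 2, 2, 1, 2, 2, 2]),
  (1, [3, 3, 3, 0, 3, 1, 2, 0, 2, 0, 2]),
  (1, [2, 0, 0, 0, 0, 3, 1]),
  (1, [3, 0, 0, 0, 0, 2, 1]),
  (1, [2, 2, 1, 1, 3, 3, 3, 1, 2, 2, 2, 0]),
  (1, [2, 1, 3, 0, 2, 2, 2, 1, 2, 2, 2]),
  (1, [1, 2, 1, 1, 3, 0]),
  (1, [2, 2, 2, 0, 2, 1, 2, 1, 3, 3]),
  (1, [3, 3, 3, 0, 2, 1, 1, 2, 1, 1, 2]),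
  (1, [3, 0, 3, 0, 3, 3, 3, 1, 3, 3, 3]),
  (1, [2, 1, 1, 3, 0]),
  (1, [3, 3, 0, 0, 3, 1, 2, 2, 1, 1, 2]),
  (1, [2, 2, 0, 3, 0, 3, 1, 3, 3, 3, 1]),
  (1, [3, 0, 3, 0, 2, 1, 1, 2, 1, 2, 2]),
  (1, [2, 2, 2, 0, 2, 2, 2, 1, 2, 0, 2]),
  (1, [3, 1, 1, 2]),
  (1, [2, 2, 2, 0, 3, 1, 2, 2, 2, 0, 3]),
  (1, [1, 2, 0, 0, 0, 0, 3]),
  (1, [3, 3, 0, 0, 3, 1, 2, 2, 2]),
  (1, [0, 2, 0, 0, 3]),
  (1, [2, 0, 0, 3]),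
  (1, [2, 2, 2, 0, 3, 1, 2, 2, 2, 1, 3]),
  (1, [0, 2, 2, 2, 0, 2, 0, 2, 0, 3, 3]),
  (1, [3, 3, 3, 0, 2, 1, 1, 2, 2]),
  (1, [3, 0, 0, 2, 0]),
  (1, [2, 1, 1, 3]),
  (1, [1, 2, 2, 1, 3, 1, 3, 1, 3, 3, 3]),
  (1, [1, 2, 2, 2, 2, 1, 3, 3, 3, 1, 2]),
  (1, [2, 2, 2, 1, 2, 0, 3, 0, 2, 2, 2]),
  (1, [3, 3, 0, 3, 0, 3, 3, 0, 2, 1, 3, 0, 2, 1, 1, 1]),
  (1, [2, 0, 0, 3, 3, 0, 0, 2]),
  (1, [0, 3, 3, 0, 3, 3, 3, 3, 3, 3, 1, 2, 1, 2, 2, 0]),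
  (1, [0, 3, 3, 0, 2, 2, 2, 2, 1, 2, 1, 2, 0, 0, 2]),
  (1, [3, 1, 1, 2, 2, 1, 1, 3, 1, 1]),
  (1, [1, 2, 1, 1, 3, 0, 2, 1, 1, 3]),
  (1, [3, 3, 3, 3, 0, 2, 2, 0, 0, 2, 2, 2, 2, 2]),
  (1, [2, 2, 1, 1, 3, 0, 2, 2, 1, 1, 3, 0, 2]),
  (1, [0, 2, 0, 2, 0, 3, 3, 0, 2, 0, 3, 0, 3, 3, 3]),
  (1, [1, 1]),
  (1, [1, 2, 1, 1, 3, 3, 1, 1, 2, 1]),
  (1, [2, 0, 0, 3, 0, 2, 0, 0, 3, 0]),
  (1, [3, 3, 0, 3, 0, 3, 3, 0, 2, 1, 3, 0, 2, 0, 0, 0]),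
  (1, [1, 3, 3, 1, 2, 1, 1, 2, 1, 1, 1, 2, 1, 2]),
  (1, [0, 2, 2, 2, 1, 3, 1, 2, 2, 0, 2, 2, 1, 3, 0]),
  (1, [3, 3, 0, 0, 2, 1, 2, 0, 2, 0, 0, 3, 0, 2, 0, 0]),
  (1, [3, 3, 0, 3, 0, 3, 3, 0, 2, 1, 3, 0, 2, 1]),
  (1, [2, 0, 0, 3, 3, 0, 0, 2, 1, 1]),
  (1, [0, 3, 0, 2, 0, 0, 3, 3, 0, 2, 0, 0, 3, 3, 0]),
  (1, [2, 1, 1, 3, 3, 0, 0, 2, 0, 2, 0, 0, 3]),
  (1, [3, 1, 2, 2, 1, 2, 0, 2, 1, 2, 0, 2]),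
  (1, [0, 0]),
  (1, [3, 3, 3, 0, 3, 3, 0, 3, 1, 2, 2, 0, 2, 2, 0]),
  (1, [1, 2, 0, 0, 3, 3, 1, 1, 2, 1, 2, 1, 1, 3, 0]),
  (1, [3, 3, 3, 3, 3, 1, 1, 3, 3, 1, 2, 2, 2, 2]),
  (1, [3, 1, 2, 0, 0, 3, 3, 1, 2, 0, 0, 3, 3]),
  (1, [2, 2, 2, 0, 2, 0, 3, 0, 2, 2, 1, 3, 1, 3, 1]),
  (1, [1, 3, 3, 0, 2, 2, 2, 2, 1, 2, 1, 2, 0, 0, 2]),
  (1, [1, 3, 0, 0, 2, 1, 2, 1, 1, 3]),
  (1, [2, 2, 0, 0, 2, 1, 2, 0, 2, 0, 2, 2, 2, 0, 0, 3, 0]),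
  (1, [1, 2, 1, 1, 3, 1, 2, 1, 1, 3]),
  (1, [3, 0, 3, 0, 0, 0, 3, 0, 0, 3, 0, 2, 2, 0]),
  (1, [2, 0, 0, 3, 3, 0, 0, 2, 0, 0]),
  (1, [0, 2, 1, 1, 3, 0, 2, 1, 1, 3]),
  (1, [3, 3, 3, 3, 0, 2, 2, 0, 0, 2, 2, 2, 2, 2, 1, 1]),
  (1, [2, 1, 1, 2, 1, 2, 0, 2, 0, 2, 2, 2, 1, 1, 3, 0, 2]),
  (1, [3, 1, 1, 2, 1, 2, 0, 0, 3, 0]),
  (1, [3, 3, 1, 3, 1, 3, 0, 3, 1, 1, 3, 0, 0, 3, 0]),
  (1, [2, 0, 2, 0, 0, 3, 0, 2, 0, 2, 0, 0, 3, 0, 2, 0]),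
  (1, [3, 3, 0, 2, 2, 2, 2, 1, 2, 1, 2, 0, 0, 2, 1]),
  (1, [2, 2, 1, 1, 3, 0, 2, 2, 1, 1, 3, 0, 2, 0, 0]),
  (1, [2, 1, 2, 0, 0, 3, 1, 2, 2, 1, 1, 3, 0, 2, 1]),
  (1, [0, 0, 0, 0]),
  (1, [3, 0, 0, 2, 2, 1, 2, 0, 0, 0, 0, 3, 3, 1]),
  (1, [0, 2, 2, 1, 1, 3, 1, 2, 2, 1, 1, 3, 1, 2, 0]),
  (1, [1, 2, 1, 1, 3, 1, 3, 0, 0, 2]),
  (1, [2, 0, 0, 3, 1, 2, 0, 0, 3, 0]),
  (1, [3, 1, 1, 2, 2, 1, 1, 3]),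
  (1, [1, 2, 1, 1, 3, 3, 1, 1, 2, 0]),
  (1, [2, 0, 0, 3, 0, 2, 0, 0, 3, 0, 0, 0]),
  (1, [3, 3, 0, 3, 0, 3, 3, 0, 2, 1, 3, 0, 2, 0]),
  (1, [2, 2, 1, 3, 3, 3, 0, 2, 2, 2, 2, 0, 2, 0]),
  (1, [3, 3, 3, 0, 0, 0, 0, 2, 2, 0, 3, 3, 0]),
  (1, [2, 2, 1, 3, 3, 0, 0, 0, 0, 2, 2, 2, 1]),
  (1, [0, 2, 2, 2, 1, 3, 1, 2, 2, 0, 2, 2, 1, 3, 1]),
  (1, [3, 3, 0, 0, 2, 1, 2, 0, 2, 0, 0, 3, 0, 2]),
  (1, [1, 2, 2, 2, 1, 3, 1, 2, 2, 0, 2, 2, 1, 3, 0]),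
  (1, [3, 0, 3, 1, 1, 2, 2, 2, 1, 1, 3, 0, 2, 1, 1]),
  (1, [2, 0, 0, 3, 0, 3, 1, 1, 2, 0]),
  (1, [1, 3, 0, 0, 2, 2, 0, 0, 3, 1]),
  (1, [1, 2, 2, 0, 3, 0, 3, 3, 1, 2, 2, 2, 0, 3]),
  (1, [0, 3, 1, 3, 3, 3, 3, 1, 2, 2, 2, 0, 3, 3]),
  (1, [2, 1, 1, 3, 3, 0, 0, 2, 1, 2, 0, 0, 3]),
  (1, [2, 2, 2, 2, 2, 2, 2, 2, 2, 1, 1, 2, 0]),
  (1, [2, 1, 1, 3, 0, 3, 1, 1, 2, 2, 0, 0, 3]),
  (1, [1, 2, 2, 2, 2, 2, 2, 2, 2, 2, 0, 0, 2]),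
  (1, [2, 2, 2, 0, 2, 0, 3, 0, 2, 2, 1, 3, 1, 3, 0]),
  (1, [0, 2, 2, 1, 3, 3, 0, 0, 0, 0, 2, 2, 2]),
  (1, [3, 0, 0, 2, 2, 1, 2, 0, 0, 0, 0, 3, 3, 0]),
  (1, [1, 2, 2, 0, 0, 0, 0, 3, 0, 3, 3, 1, 1, 2]),
  (1, [3, 3, 3, 3, 3, 1, 1, 3, 3, 1, 2, 2, 2, 2, 1, 1]),
  (1, [3, 1, 2, 0, 0, 3, 3, 1, 2, 0, 0, 3, 3, 1, 1]),
  (1, [3, 1, 2, 0, 0, 3, 3, 1, 2, 0, 0, 3, 3, 0, 0]),
  (1, [3, 1, 1, 2, 2, 1, 1, 3, 0, 0]),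
  (1, [3, 0, 2, 0, 0, 3, 3, 1, 2, 1, 1, 3, 1, 3]),
  (1, [3, 3, 0, 2, 2, 2, 2, 0, 0, 0, 2, 0, 2, 1, 3, 3]),
  (1, [2, 2, 0, 3, 1, 3, 1, 1, 1, 3, 3, 3, 3, 1, 2, 2]),
  (1, [0, 2, 1, 1, 3, 0, 2, 1, 1, 3, 0, 0]),
  (1, [0, 3, 3, 3, 0, 0, 0, 0, 2, 2, 0, 3, 3]),
  (1, [1, 2, 2, 1, 3, 3, 0, 0, 0, 0, 2, 2, 2]),
  (1, [3, 3, 0, 2, 2, 2, 2, 1, 2, 1, 2, 0, 0, 2, 0]),
  (1, [1, 3, 0, 0, 2, 2, 0, 0, 3, 0]),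
  (1, [3, 1, 1, 2, 0, 2, 0, 0, 3, 0]),
  (1, [2, 0, 2, 0, 0, 3, 0, 2, 2, 1, 1, 3, 1, 2]),
  (1, [2, 1, 2, 0, 0, 3, 1, 2, 2, 1, 1, 3, 0, 2, 0]),
  (1, [2, 1, 3, 3, 3, 0, 2, 2, 1, 2, 1, 3, 3, 0]),
  (1, [2, 2, 1, 3, 3, 3, 0, 2, 2, 2, 2, 0, 2, 1]),
  (1, [0, 2, 1, 1, 3, 3, 1, 1, 2, 0]),
  (1, [2, 0, 0, 3, 1, 2, 0, 0, 3, 1]),
  (1, [2, 2, 1, 3, 3, 0, 0, 0, 0, 2, 2, 2, 0]),
  (1, [1, 2, 2, 2, 1, 3, 1, 2, 2, 0, 2, 2, 1, 3, 0, 0, 0]),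
  (1, [3, 0, 3, 1, 1, 2, 2, 2, 1, 1, 3, 0, 2]),
  (1, [0, 2, 2, 0, 3, 0, 3, 3, 1, 2, 2, 2, 0, 3]),
  (1, [3, 0, 0, 0, 3, 0, 3, 3, 0, 2, 0, 3, 3, 1]),
  (1, [2, 2, 2, 2, 2, 2, 2, 2, 2, 1, 1, 2, 1]),
  (2, [3, 0, 0, 2, 0, 2, 0, 2, 2, 2, 1, 1, 2, 0]),
  (2, [1, 1, 3, 1, 3, 1, 2, 1, 1, 2, 0, 2, 2, 0, 0]),
  (2, [2, 1, 1, 2, 2, 0, 0, 3, 1, 2, 2, 0, 3]),
  (2, [2, 1, 2, 1, 2, 0, 3, 3, 3, 1, 1, 3, 0, 2]),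
  (2, [3, 1, 2, 0, 3, 3, 3, 0, 2, 0, 0, 2, 1, 2]),
  (2, [3, 1, 1, 1, 3, 1, 3, 1, 2, 2, 0, 2, 0]),
  (2, [3, 0, 3, 1, 1, 3, 1, 2, 2, 2, 1, 3, 0, 2]),
  (2, [0, 3, 0, 3, 1, 1, 2, 2, 2, 1, 1, 3, 0, 2, 0]),
  (2, [3, 3, 3, 3, 3, 3, 0, 2, 2, 0, 2, 2, 2, 1]),
  (2, [2, 2, 2, 0, 2, 0, 2, 0, 0, 2, 1, 2, 2, 1]),
  (2, [3, 3, 1, 3, 0, 2, 0, 3, 1, 1, 3, 1, 1]),
  (2, [3, 1, 2, 1, 1, 2, 0, 3, 3, 3, 3, 0]),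
  (2, [0, 2, 0, 0, 3, 3, 3, 1, 3, 0, 2, 0, 2, 0]),
  (2, [0, 2, 2, 1, 1, 2, 2, 2, 2, 1, 2, 1, 3, 0]),
  (2, [2, 1, 3, 0, 2, 0, 0, 2, 2, 2, 2, 1, 3]),
  (2, [1, 3, 1, 3, 0, 0, 3, 1, 3, 1, 1, 3, 3, 3, 1]),
  (2, [2, 0, 2, 1, 1, 3, 3, 1, 1, 2, 2, 0, 3]),
  (2, [1, 2, 0, 2, 2, 0, 2, 2, 1, 2, 0, 2]),
  (2, [2, 2, 1, 2, 2, 1, 3, 3, 0, 2, 2, 0, 3, 1, 1]),
  (2, [2, 0, 0, 0, 3, 3, 3, 0, 0, 2, 1, 2, 1, 3, 3]),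
  (2, [1, 3, 1, 2, 0, 2, 2, 0, 3, 0, 0, 3, 1, 1]),
  (2, [2, 0, 2, 2, 2, 0, 3, 1, 3, 1, 2, 2, 1, 2]),
  (2, [2, 1, 2, 2, 0, 0, 0, 2, 2, 1, 3, 3, 1]),
  (2, [0, 0, 0, 0]),
  (2, [1, 3, 0, 0, 3, 3, 3, 1, 3, 3, 0, 0, 2, 0]),
  (2, [0, 3, 3, 0, 3, 3, 0, 0, 2, 2, 1, 1, 2, 1]),
  (2, [3, 0, 3, 3, 1, 2, 0, 2, 1, 3, 3, 0, 3, 3, 1]),
  (2, [0, 3, 3, 1, 2, 2, 2, 0, 2, 1, 3, 1, 1]),
  (2, [2, 2, 2, 0, 2, 0, 2, 0, 0, 2, 1, 2, 2, 0, 0, 0]),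
  (2, [2, 1, 3, 3, 3, 0, 2, 2, 2, 2, 1, 2, 1, 2, 0, 0]),
  (2, [0, 0, 2, 2, 0, 3, 0, 0, 3, 1, 3, 0, 2, 0]),
  (2, [2, 2, 1, 1, 2, 0, 2, 0, 3, 0, 3, 3, 1]),
  (2, [3, 3, 0, 0, 3, 1, 3, 0, 0, 0, 3, 3, 0, 2]),
  (2, [3, 3, 3, 0, 2, 1, 1, 2, 2, 1, 1, 1]),
  (2, [1, 3, 1, 2, 0, 2, 2, 0, 3, 0, 0, 3, 0, 0]),
  (2, [1, 3, 1, 3, 1, 2, 0, 2, 2, 2, 1, 1, 3, 0, 0, 0]),
  (2, [1, 3, 3, 3, 0, 3, 3, 3, 1, 2, 0, 3, 1]),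
  (2, [3, 0, 3, 1, 3, 1, 2, 1, 3, 3, 1, 1, 1]),
  (2, [1, 1, 3, 3, 1, 1, 3, 3, 1, 1, 2, 2]),
  (2, [3, 1, 3, 0, 3, 3, 1, 3, 3, 1, 3, 0]),
  (2, [3, 3, 1, 3, 0, 2, 0, 3, 1, 1, 3, 0, 0]),
  (2, [2, 1, 2, 0, 0, 3, 3, 0, 0, 2, 2, 0, 3]),
  (2, [2, 0, 3, 0, 2, 1, 2, 2, 2, 0, 2, 1]),
  (2, [2, 1, 3, 3, 0, 2, 1, 1, 3, 3, 0, 0, 3]),
  (2, [3, 3, 3, 0, 2, 1, 1, 2, 2, 0]),
  (2, [3, 3, 1, 3, 1, 1, 3, 3, 1, 3, 0, 3, 3, 3]),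
  (2, [0, 0, 3, 3, 1, 1, 3, 3, 1, 1, 2, 2]),
  (2, [3, 1, 3, 3, 3, 3, 3, 0, 0, 0, 3, 0, 3, 0, 0, 0]),
  (2, [0, 3, 1, 3, 0, 2, 2, 0, 0, 0, 0, 2, 1]),
  (2, [2, 1, 3, 3, 3, 0, 2, 2, 2, 2, 1, 2, 1, 2, 1, 1]),
  (2, [0, 3, 0, 3, 3, 3, 1, 3, 1, 2, 2]),
  (2, [2, 2, 1, 3, 0, 3, 3, 1, 3, 3, 3, 1, 2, 2]),
  (2, [0, 3, 3, 1, 2, 2, 2, 0, 2, 1, 3, 0, 0]),
  (2, [0, 3, 3, 1, 3, 3, 1, 1, 3, 3, 1, 2, 2, 2]),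
  (2, [3, 1, 2, 0, 0, 2, 2, 2, 1, 3, 0, 3, 0, 3]),
  (2, [2, 0, 3, 3, 3, 3, 1, 1, 3, 1, 2, 0, 3]),
  (2, [0, 3, 0, 0, 0, 0, 3, 3, 1, 2, 0, 2, 1]),
  (2, [1, 2, 2, 0, 3, 0, 2, 0, 2, 1, 2]),
  (2, [2, 2, 0, 3, 0, 3, 1, 1, 2, 2, 2, 1, 1, 1, 3]),
  (2, [3, 1, 3, 0, 0, 2, 0, 2, 1, 1, 2, 2, 0, 0]),
  (2, [2, 2, 2, 1, 1, 2, 2, 0, 3, 3, 3, 1, 3, 1]),
  (2, [0, 2, 0, 2, 2, 2, 1, 3, 3, 0, 0, 3, 3, 3]),
  (2, [1, 2, 0, 2, 1, 1, 3, 3, 1, 1, 3, 3, 1, 2, 0]),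
  (2, [1, 2, 2, 2, 2, 1, 3, 0, 0, 3, 0, 2]),
  (2, [3, 1, 3, 0, 3, 3, 1, 3, 3, 1, 3, 1, 1, 1]),
  (2, [1, 3, 1, 3, 1, 2, 0, 2, 2, 2, 1, 1, 3, 1]),
  (2, [3, 3, 0, 0, 2, 2, 0, 0, 2, 2, 0, 0]),
  (2, [1, 1, 3, 3, 1, 3, 0, 0, 3, 0, 2, 0, 2, 0, 0]),
  (2, [3, 3, 0, 2, 1, 3, 1, 3, 3, 1, 1, 3, 0, 2]),
  (2, [3, 1, 3, 1, 3, 1, 2, 0, 3, 1, 3, 0, 3]),
  (2, [2, 2, 0, 3, 3, 1, 3, 0, 2, 1, 2, 1, 2]),
  (2, [1, 1, 3, 1, 3, 1, 2, 1, 1, 2, 0, 2, 2, 1, 1]),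
  (2, [2, 2, 1, 2, 2, 0, 2, 0, 3, 3, 0, 2, 0]),
  (2, [0, 0, 3, 3, 1, 3, 0, 0, 3, 0, 2, 0, 2, 0, 0]),
  (2, [3, 0, 3, 0, 3, 1, 2, 0, 2, 2, 1, 3, 3]),
  (2, [1, 1, 2, 0, 0, 2, 1, 3, 1, 2, 0, 2, 2]),
  (2, [0, 2, 1, 3, 0, 2, 2, 2, 1, 2, 2, 2, 0]),
  (2, [3, 3, 3, 0, 2, 2, 0, 0, 2, 2, 0, 2, 2, 1]),
  (2, [1, 3, 1, 3, 3, 0, 2, 0, 2, 0, 0, 0, 2]),
  (2, [2, 0, 2, 1, 3, 1, 3, 1, 3, 0, 2, 2, 0]),
  (2, [2, 0, 0, 0, 3, 0, 3, 3, 3, 0, 2, 2, 0, 0, 0]),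
  (2, [3, 0, 3, 3, 0, 2, 0, 2, 1, 3, 3, 3, 1, 3]),
  (2, [3, 1, 2, 0, 3, 1, 2, 2, 2, 0, 0, 2, 1, 3]),
  (2, [3, 3, 0, 2, 0, 2, 2, 2, 1, 2, 1]),
  (2, [3, 1, 1, 3, 0, 3, 0, 0, 3, 1, 2, 1, 2, 0]),
  (2, [0, 2, 2, 2, 0, 0, 2, 0, 2, 1, 1, 2, 0, 2, 0]),
  (2, [3, 1, 2, 1, 1, 3, 0, 3, 3, 0, 0, 2, 0, 2]),
  (2, [2, 0, 2, 1, 2, 2, 1, 1, 1, 2, 1, 1, 2, 0]),
  (2, [3, 3, 0, 0, 2, 2, 0, 0, 2, 2, 1, 1]),
  (2, [2, 0, 3, 1, 1, 3, 3, 3, 0, 2, 1, 3, 0, 2]),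
  (2, [2, 2, 2, 1, 3, 0, 0, 3, 0, 3, 0, 2, 2, 2]),
  (2, [2, 0, 0, 0, 3, 0, 3, 3, 3, 0, 2, 2, 1]),
  (3, [2, 0, 3, 1, 3, 0, 2, 2, 0, 2, 1, 2, 2, 0, 0]),
  (3, [2, 2, 0, 3, 1, 3, 0, 3, 0, 0, 0, 3, 3, 0, 3, 1]),
  (3, [3, 1, 1, 2, 2, 0, 0, 3]),
  (3, [3, 1, 3, 3, 0, 0, 0, 3, 0, 2, 0, 2, 2, 0]),
  (3, [3, 0, 3, 1, 1, 2, 2, 2, 0, 0, 3, 1, 2, 1, 3, 0]),
  (3, [3, 3, 3, 0, 2, 1, 1, 2, 2, 1, 1, 1]),
  (3, [3, 3, 0, 0, 3, 3, 3, 3, 0, 2, 1, 1, 1, 3]),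
  (3, [0, 3, 1, 3, 1, 2, 1, 3, 0, 3, 0, 3, 0, 2, 1]),
  (3, [3, 3, 3, 0, 2, 1, 2, 2, 0, 2, 1, 3, 0, 2]),
  (3, [0, 2, 2, 2, 1, 2, 0, 3, 0, 2, 2, 1, 1, 2, 1]),
  (3, [2, 2, 1, 3, 3, 0, 2, 2, 1, 3, 0, 0, 0, 3]),
  (3, [0, 0, 3, 3, 0, 3, 0, 0, 3, 1, 2, 0, 2, 0]),
  (3, [1, 2, 1, 1, 2, 2, 2, 1, 3, 3, 3, 1, 2, 1]),
  (3, [3, 3, 3, 0, 2, 1, 1, 2, 2, 0]),
  (3, [3, 3, 0, 2, 2, 2, 2, 1, 2, 1, 2, 0, 0, 2, 0, 0]),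
  (3, [0, 2, 2, 1, 1, 3, 1, 2, 0, 2, 0, 0, 3, 0, 2, 0]),
  (3, [0, 0, 0, 0]),
  (3, [2, 1, 1, 3, 0, 3, 1, 1, 2, 0]),
  (3, [3, 0, 3, 0, 2, 1, 1, 2, 1, 2, 1, 1, 2, 0, 0]),
  (3, [3, 0, 2, 0, 2, 0, 0, 2, 0, 2, 2, 1, 2, 1]),
  (3, [0, 2, 1, 3, 3, 3, 0, 2, 1, 3, 3, 3, 0]),
  (3, [3, 1, 2, 1, 3, 3, 1, 3, 0, 2, 0, 2, 2, 0, 0]),
  (3, [2, 1, 1, 3, 3, 0, 0, 2]),
  (3, [3, 3, 3, 3, 0, 2, 2, 0, 0, 2, 2, 2, 2, 2, 0]),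
  (3, [2, 0, 0, 0, 3, 1, 2, 2, 2, 2, 1, 1, 2, 2]),
  (3, [1, 2, 2, 1, 1, 2, 1, 2, 1, 2, 2, 0, 3, 0]),
  (3, [1, 3, 1, 3, 0, 2, 1, 1, 2, 1, 2, 2, 0, 0]),
  (3, [2, 2, 0, 0, 3, 0, 2, 2, 2, 0, 0, 3, 1, 2, 0]),
  (3, [1, 3, 0, 0, 2, 1, 2, 0, 0, 3]),
  (3, [2, 2, 2, 0, 2, 0, 3, 0, 2, 2, 1, 3, 0, 3, 1]),
  (3, [2, 1, 1, 2, 2, 0, 2, 2, 2, 1, 2, 0, 2, 1]),
  (3, [3, 3, 0, 2, 2, 0, 3, 3, 3, 3, 0, 3, 0, 3, 1]),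
  (4, [3, 3, 0, 3, 3, 3, 3, 3, 0, 3, 1, 1, 1]),
  (4, [1, 2, 0, 0, 3, 1, 2, 0, 0, 3]),
  (4, [2, 1, 1, 3, 1, 2, 1, 1, 3, 1]),
  (4, [1, 2, 1, 2, 2, 2, 2, 2, 1, 2, 2]),
  (4, [0, 2, 1, 2, 1, 1, 1, 2, 1, 2]),
  (4, [1, 1, 3, 3, 3, 3, 1, 3, 1, 2, 1, 2]),
  (4, [3, 0, 3, 0, 2, 0, 2, 2, 2, 2, 0, 0]),
  (4, [2, 1, 2, 1, 1, 2, 2, 0, 3, 1, 3]),
  (4, [3, 0, 3, 0, 0, 0, 3, 0, 3, 1]),
  (4, [0, 0, 3, 3, 3, 3, 1, 3, 1, 2, 1, 2]),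
  (4, [2, 0, 2, 0, 3, 1, 3, 3, 3, 0, 2]),
  (4, [0, 2, 2, 1, 2, 1, 1, 2, 2, 2])]

/-- The stabiliser facts, a part. -/
def certStsPart1 : List (ℕ × List ℕ) := [
  (4, [3, 3, 3, 0, 0, 3, 0, 3, 3, 1]),
  (4, [0, 3, 0, 3, 3, 0, 0, 2, 2, 0]),
  (4, [3, 3, 0, 3, 3, 3, 3, 3, 0, 3, 0]),
  (4, [2, 2, 1, 3, 1, 2, 1, 2, 0, 2, 2, 1, 3, 3, 1]),
  (4, [1, 2, 1, 2, 0, 3, 0, 2, 2, 2, 1, 1, 3]),
  (4, [3, 1, 3, 1, 2, 1, 3, 0, 3, 0, 3, 0, 2, 1, 1]),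
  (4, [2, 1, 1, 2, 1, 2, 2, 2, 0, 2, 0, 2, 0]),
  (4, [2, 0, 3, 3, 3, 3, 1, 2, 2, 1, 3, 3, 0, 3, 0, 0]),
  (4, [3, 3, 1, 3, 3, 0, 0, 0, 3, 0, 3, 3, 3, 0, 0]),
  (4, [0, 3, 3, 3, 0, 3, 3, 1, 2, 2, 0, 0, 0]),
  (4, [0, 3, 0, 3, 3, 0, 0, 2, 2, 1, 1, 1]),
  (4, [2, 2, 1, 3, 1, 2, 1, 3, 3, 0, 0, 0]),
  (4, [0, 3, 3, 3, 1, 2, 1, 3, 0, 3, 0, 2, 1]),
  (4, [3, 3, 1, 3, 0, 2, 2, 1, 2, 0, 2, 2, 1, 2, 2, 0]),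
  (4, [0, 3, 1, 2, 1, 2, 0, 3, 0, 2, 2, 2, 1]),
  (4, [2, 2, 0, 2, 0, 0, 3, 0, 3, 3, 0, 0]),
  (4, [2, 0, 0, 3, 3, 3, 1, 2, 1, 3, 0, 3, 0]),
  (4, [1, 1, 1, 3, 3, 0, 2, 2, 1, 2, 2, 2, 1]),
  (4, [0, 3, 3, 3, 3, 1, 2, 2, 1, 2, 0, 2, 0, 2, 0]),
  (4, [1, 3, 1, 3, 1, 3, 3, 3, 0, 3, 0, 0, 3]),
  (5, [0, 0, 3, 3, 0, 0, 0, 2, 0, 2, 0, 2, 0]),
  (5, [0, 2, 2, 2, 0, 3, 0, 0, 3, 3, 0, 2, 2, 1, 1]),
  (5, [3, 1, 1, 3, 3, 0, 3, 0, 2, 1, 3, 0, 3, 3, 0]),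
  (5, [2, 0, 2, 0, 0, 0, 2, 2, 2, 2, 0, 2, 0]),
  (5, [2, 0, 0, 0, 2, 1, 2, 1, 2, 1, 1, 1, 2, 0]),
  (5, [1, 3, 0, 2, 0, 2, 2, 1, 2, 2, 2, 0, 3]),
  (5, [2, 2, 0, 2, 0, 3, 3, 0, 3, 1, 2, 1, 2, 0, 0]),
  (5, [1, 2, 1, 2, 0, 2, 1, 2, 1, 1]),
  (5, [3, 3, 1, 3, 0, 0, 0, 3, 0, 2, 1, 1, 3]),
  (5, [3, 3, 0, 0, 3, 0, 2, 1, 2, 0, 0, 3, 3, 1]),
  (5, [3, 1, 1, 2, 2, 2, 0, 3, 0, 3, 0, 2, 2, 0]),
  (5, [0, 3, 0, 2, 1, 2, 0, 3, 3, 0, 3, 0, 0, 0]),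
  (5, [1, 1, 3, 3, 1, 3, 1, 2, 2, 1, 3, 0, 2]),
  (5, [2, 1, 3, 1, 3, 3, 3, 1, 1, 1, 2, 1, 1]),
  (5, [1, 2, 1, 2, 2, 1, 3, 1, 1, 3, 0, 3, 0]),
  (5, [1, 2, 0, 0, 3, 0, 2, 1, 1, 2, 2, 1, 2, 2]),
  (5, [1, 1, 1, 2, 1, 2, 2, 1, 3, 0, 3, 1, 2, 1]),
  (5, [3, 0, 0, 3, 3, 3, 3, 3, 0, 0, 0, 2, 2, 0, 0]),
  (5, [0, 2, 2, 1, 1, 3, 0, 3, 1, 2, 1, 1, 2, 2]),
  (5, [0, 2, 2, 0, 2, 2, 2, 1, 2, 1, 3, 3, 0, 0]),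
  (5, [2, 1, 2, 2, 1, 1, 2, 1, 2, 2, 2, 1]),
  (5, [0, 2, 1, 3, 3, 0, 2, 0, 0, 2, 2, 1]),
  (5, [0, 3, 3, 1, 1, 3, 3, 1, 3, 1, 2, 1, 1, 1, 2]),
  (5, [2, 0, 2, 1, 1, 3, 3, 3, 3, 0, 0, 3, 1]),
  (5, [2, 2, 0, 2, 1, 2, 2, 2, 2, 2, 1, 3, 1]),
  (5, [1, 1, 3, 1, 2, 2, 2, 2, 2, 0, 2, 1]),
  (5, [3, 1, 2, 0, 3, 3, 0, 2, 0, 2, 2, 0, 0]),
  (5, [3, 0, 3, 3, 0, 0, 0, 3, 0, 2, 2, 2, 1]),
  (5, [3, 3, 3, 3, 0, 0, 3, 1, 1, 1, 3, 3, 0]),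
  (5, [2, 0, 0, 3, 1, 2, 1, 1, 1, 2, 0, 2, 2]),
  (5, [3, 0, 3, 0, 2, 2, 0, 3, 3, 1, 3, 3, 1, 3, 0]),
  (5, [3, 0, 0, 0, 3, 0, 2, 0, 2, 2, 0, 0, 2, 2, 1]),
  (5, [2, 1, 3, 1, 1, 1, 2, 1, 2, 0, 2]),
  (5, [3, 1, 1, 3, 3, 1, 3, 0, 0, 3, 1, 1, 1, 3, 1]),
  (5, [0, 2, 2, 0, 3, 3, 3, 3, 3, 0, 0, 0, 2, 2, 0]),
  (5, [1, 2, 0, 3, 1, 3, 0, 3, 1, 2, 2, 2, 1]),
  (5, [2, 1, 3, 3, 3, 0, 3, 3, 1, 3, 1, 2, 0]),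
  (5, [3, 0, 0, 0, 3, 0, 3, 3, 0, 3, 0, 2, 0, 0]),
  (5, [2, 2, 1, 3, 3, 3, 3, 3, 1, 3, 0, 3, 0, 0]),
  (5, [0, 0, 3, 0, 3, 1, 3, 0, 3, 0]),
  (5, [0, 3, 3, 3, 0, 2, 1, 2, 0, 2, 1, 3, 0]),
  (5, [0, 2, 1, 1, 1, 3, 3, 0, 2, 2, 2, 1, 3, 3, 0]),
  (5, [2, 2, 1, 1, 1, 3, 3, 0, 2, 0, 2, 1, 2, 0]),
  (5, [0, 3, 1, 3, 3, 3, 3, 3, 0, 2, 0, 0]),
  (5, [0, 2, 2, 2, 0, 3, 1, 3, 0, 2, 2, 2, 2, 1]),
  (5, [2, 2, 2, 1, 2, 1, 1, 2, 2, 0, 0, 2, 2, 2, 0]),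
  (5, [0, 3, 0, 2, 0, 3, 1, 3, 0, 2, 2, 1, 3, 0]),
  (5, [0, 0, 3, 0, 3, 0, 2, 0, 3, 3, 0, 3, 0]),
  (5, [3, 3, 0, 2, 1, 1, 1, 3, 3, 0, 3, 0, 3, 0, 0]),
  (5, [3, 3, 3, 3, 0, 2, 2, 1, 1, 2, 2, 1, 2, 2, 1]),
  (5, [3, 3, 1, 2, 1, 2, 1, 2, 2, 1, 1, 2, 2, 2]),
  (5, [1, 2, 1, 2, 2, 1, 3, 1, 2, 1, 2, 1, 1]),
  (5, [2, 2, 2, 2, 2, 2, 0, 3, 1, 1, 1, 3, 3, 0, 3]),
  (5, [3, 3, 0, 3, 3, 0, 0, 3, 1, 2, 1, 1, 3, 0]),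
  (5, [0, 3, 3, 3, 1, 2, 1, 1, 1, 2, 2, 1, 2]),
  (5, [3, 1, 3, 0, 3, 0, 2, 1, 3, 1, 1]),
  (6, [3, 3, 3, 1, 3, 0, 3, 0]),
  (6, [0, 3, 1, 1, 2, 2, 0, 2, 1, 1]),
  (6, [3, 1, 1, 2, 0, 2, 2, 1, 3, 3]),
  (6, [1, 3, 0, 3, 3, 1, 3, 1, 1]),
  (6, [1, 2, 2, 2, 2, 1, 2, 1, 3]),
  (6, [3, 1, 1, 2, 2, 2, 1, 2, 2]),
  (6, [2, 2, 0, 3, 1, 2, 0, 0, 3, 0]),
  (6, [0, 3, 0, 2, 0, 2, 2, 1, 1, 2]),
  (6, [3, 3, 1, 2, 2, 1, 3, 0, 2, 0]),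
  (6, [0, 2, 0, 2, 0, 3, 0, 3, 1]),
  (6, [0, 0, 2, 0, 2, 2, 1, 2, 0]),
  (6, [2, 1, 3, 3, 3, 0, 2, 1, 3, 3, 1]),
  (6, [1, 2, 0, 3, 3, 3, 3, 3, 0, 0]),
  (6, [2, 1, 2, 2, 2, 2, 2, 1, 1, 2, 0]),
  (6, [2, 2, 0, 0, 3, 3, 3, 0, 3]),
  (6, [3, 3, 1, 3, 0, 2, 2, 2, 0, 2]),
  (6, [0, 2, 1, 2, 2, 1, 3, 0, 0, 3, 0]),
  (6, [2, 0, 3, 0, 3, 3, 3, 3, 0]),
  (6, [2, 1, 1, 2, 1, 2, 1, 1, 1, 2, 0]),
  (6, [2, 1, 1, 1, 2, 0, 0, 2, 1, 2, 0]),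
  (6, [1, 1, 3, 1, 3, 1, 2, 1, 1, 2, 1]),
  (6, [1, 1, 3, 3, 3, 3, 0, 3, 0, 3, 0]),
  (6, [1, 2, 1, 2, 0, 2, 2, 2]),
  (6, [3, 0, 0, 3, 3, 1, 3, 1, 2, 1]),
  (6, [0, 2, 2, 2, 2, 2, 1, 1, 3]),
  (6, [2, 1, 2, 2, 2, 1, 1, 3, 3]),
  (6, [2, 1, 1, 2, 2, 1, 1, 3, 0, 2, 1, 3, 0, 0]),
  (6, [0, 2, 2, 2, 2, 1, 3, 0, 0, 0, 3, 3, 1, 1]),
  (6, [1, 1, 3, 0, 0, 0, 2, 2, 0, 3, 3]),
  (6, [2, 1, 3, 1, 3, 1, 3, 3, 3, 1, 3, 0, 0, 2]),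
  (6, [1, 2, 0, 3, 1, 1, 1, 2, 0, 2, 1, 3, 1]),
  (6, [2, 0, 0, 0, 2, 1, 2, 0, 2, 2, 0, 3]),
  (6, [3, 0, 0, 0, 2, 2, 2, 0, 0, 0, 2, 2, 1]),
  (6, [1, 2, 0, 2, 1, 1, 3, 0, 3, 1, 2, 0, 2, 2]),
  (6, [1, 2, 2, 0, 3, 1, 3, 1, 3, 0, 3, 1]),
  (6, [3, 3, 3, 0, 0, 0, 3, 1, 2, 2, 1, 1, 2, 2]),
  (6, [1, 3, 3, 1, 2, 0, 2, 2, 0, 0, 2, 2, 1, 3, 1]),
  (6, [3, 0, 0, 0, 3, 3, 1, 3, 0, 3, 1, 3, 1, 1, 1]),
  (6, [2, 2, 0, 3, 3, 0, 0, 2, 2, 2, 0, 3, 3]),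
  (6, [3, 0, 0, 3, 3, 0, 2, 0, 2, 0, 3, 1, 2, 1]),
  (6, [0, 3, 0, 2, 1, 2, 0, 2, 2, 1, 3, 1, 3, 1]),
  (6, [1, 2, 2, 2, 2, 0, 3, 1, 3, 0, 2, 2, 2, 0]),
  (6, [3, 1, 1, 2, 2, 2, 1, 3, 1, 3, 0, 3, 0]),
  (6, [0, 3, 3, 0, 0, 3, 0, 3, 1, 1, 3, 3]),
  (6, [0, 2, 0, 3, 3, 1, 1, 3, 3, 1, 3, 0, 2, 2, 0]),
  (6, [1, 3, 0, 3, 1, 2, 1, 3, 3, 0, 2]),
  (6, [0, 3, 3, 1, 1, 1, 3, 3, 3, 1, 1, 1, 2]),
  (6, [3, 3, 3, 1, 1, 3, 3, 3, 1, 3, 0, 3, 0, 0]),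
  (6, [3, 0, 2, 0, 3, 1, 2, 0, 0, 3, 3, 3, 0, 0]),
  (6, [0, 2, 1, 2, 0, 2, 0, 2, 1, 3, 3, 0]),
  (6, [1, 3, 1, 3, 3, 3, 1, 3, 3, 1, 2, 0, 2, 0]),
  (6, [3, 0, 3, 0, 2, 2, 2, 2, 0, 2, 1, 2, 1, 3]),
  (6, [1, 3, 0, 3, 0, 2, 2, 0, 0, 2, 0, 2, 0, 0]),
  (6, [2, 1, 3, 3, 1, 3, 0, 3, 1, 1, 1, 3]),
  (6, [1, 1, 2, 2, 2, 1, 1, 3, 0, 2, 1, 3, 1, 2]),
  (6, [1, 3, 1, 3, 0, 2, 2, 0, 2, 2, 2, 0, 2, 0]),
  (6, [1, 2, 0, 2, 1, 2, 2, 0, 0, 0, 2, 0, 2, 2]),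
  (6, [1, 1, 3, 1, 3, 1, 1, 3, 3, 1, 2, 1, 2, 0]),
  (6, [3, 1, 1, 2, 0, 2, 2, 2, 0, 2, 0, 2, 0, 3]),
  (6, [1, 2, 1, 2, 0, 2, 0, 3, 3, 3, 0, 0, 2]),
  (6, [0, 2, 0, 3, 1, 3, 0, 0, 0, 2, 1, 3, 0]),
  (6, [2, 2, 0, 0, 2, 1, 2, 1, 1, 2, 2, 1]),
  (6, [2, 1, 1, 1, 2, 2, 2, 0, 3, 1, 1, 3, 3]),
  (6, [2, 0, 2, 2, 2, 2, 0, 3, 0, 2, 2, 2, 2, 1]),
  (6, [2, 2, 1, 3, 3, 1, 1, 1, 2, 0, 0]),
  (6, [0, 2, 1, 2, 2, 2, 0, 2, 2, 2, 1]),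
  (6, [0, 3, 3, 0, 2, 2, 2, 1, 3, 3, 0, 3, 0]),
  (6, [3, 1, 2, 2, 0, 3, 0, 2, 1, 2, 0]),
  (6, [0, 2, 0, 2, 0, 3, 3, 1, 3, 0, 3, 1, 2, 1]),
  (6, [2, 0, 0, 2, 1, 1, 1, 2, 2, 1, 2, 2, 1, 1, 1]),
  (6, [0, 2, 2, 2, 0, 3, 3, 0, 3, 1, 1, 2, 0]),
  (6, [2, 2, 2, 1, 3, 1, 2, 2, 1, 1, 1, 2, 2, 0]),
  (6, [2, 2, 2, 2, 0, 3, 1, 1, 1, 3, 3, 3, 1, 1]),
  (6, [0, 3, 3, 3, 1, 3, 3, 3, 0, 3, 1]),
  (6, [2, 0, 0, 0, 3, 0, 2, 0, 0, 3, 3, 0, 0, 3]),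
  (6, [2, 2, 0, 0, 2, 1, 3, 3, 3, 0, 0, 0, 3]),
  (6, [3, 0, 3, 1, 1, 1, 3, 0, 2, 1, 1, 3, 3, 0]),
  (6, [2, 2, 0, 3, 0, 3, 1, 1, 2, 0, 0, 2, 0, 0]),
  (6, [2, 0, 3, 0, 3, 1, 3, 3, 3, 3, 1, 2, 1, 2])]

/-- The stabiliser facts. -/
def certSts : List (ℕ × List ℕ) := certStsPart0 ++ certStsPart1

/-- The moves of letter 0, a part. -/
def certMoves0Part0 : List (ℕ × List ℕ) := [
  (0, [4]),
  (3, []),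
  (5, []),
  (1, [5]),
  (9, []),
  (2, [6]),
  (14, []),
  (17, []),
  (20, []),
  (23, []),
  (4, []),
  (29, []),
  (32, []),
  (34, []),
  (37, []),
  (6, []),
  (43, []),
  (46, []),
  (7, []),
  (52, []),
  (55, []),
  (8, []),
  (61, []),
  (64, []),
  (67, []),
  (70, []),
  (10, []),
  (75, []),
  (78, []),
  (81, []),
  (11, []),
  (86, []),
  (12, [67]),
  (73, [44, 125]),
  (40, [76, 110]),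
  (13, []),
  (96, []),
  (35, [76, 125]),
  (100, []),
  (103, []),
  (15, []),
  (107, []),
  (109, []),
  (112, []),
  (16, []),
  (63, [43, 100]),
  (118, []),
  (121, []),
  (123, []),
  (18, []),
  (129, []),
  (76, [79, 129]),
  (133, []),
  (19, []),
  (139, []),
  (142, []),
  (145, []),
  (147, []),
  (21, []),
  (80, [54, 130]),
  (154, []),
  (157, []),
  (22, []),
  (161, []),
  (33, [29, 110]),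
  (165, []),
  (128, [26]),
  (168, []),
  (24, []),
  (56, [79, 145]),
  (175, []),
  (25, []),
  (180, []),
  (26, []),
  (120, [5]),
  (185, []),
  (27, []),
  (190, []),
  (193, []),
  (28, []),
  (199, []),
  (200, []),
  (203, []),
  (114, [43, 134]),
  (30, []),
  (47, [30, 103]),
  (210, []),
  (31, []),
  (216, []),
  (126, [94, 120]),
  (150, [20]),
  (219, []),
  (221, []),
  (223, []),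
  (101, [81, 112]),
  (226, []),
  (134, [45, 111]),
  (36, []),
  (232, []),
  (163, [73, 132]),
  (41, [35]),
  (38, []),
  (207, [83, 122]),
  (239, []),
  (39, []),
  (244, []),
  (169, [85, 102]),
  (92, [81, 120]),
  (251, []),
  (159, [79, 112]),
  (42, []),
  (257, []),
  (183, [29, 131]),
  (262, []),
  (202, [29, 131]),
  (44, []),
  (91, [93, 107]),
  (45, []),
  (89, [78, 122]),
  (254, [96, 130]),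
  (74, []),
  (227, [122]),
  (276, []),
  (278, []),
  (48, []),
  (281, []),
  (49, []),
  (285, []),
  (66, [13]),
  (196, [73, 144]),
  (50, []),
  (51, []),
  (289, []),
  (240, [13, 110]),
  (155, [53, 134]),
  (85, [76, 129]),
  (53, []),
  (296, []),
  (298, []),
  (300, []),
  (54, []),
  (238, [36, 124]),
  (90, [25]),
  (151, [46, 144]),
  (308, []),
  (59, [26]),
  (170, [111]),
  (311, []),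
  (57, []),
  (234, [60, 111]),
  (58, []),
  (143, [95, 144]),
  (138, [66]),
  (122, [38]),
  (229, [14]),
  (60, []),
  (323, []),
  (110, [14, 122]),
  (326, []),
  (62, []),
  (158, [66, 125]),
  (330, []),
  (208, [27, 104]),
  (334, []),
  (255, [76, 112]),
  (337, []),
  (65, []),
  (340, []),
  (343, []),
  (312, [29, 102]),
  (136, [45, 117]),
  (68, []),
  (349, []),
  (69, []),
  (144, [145]),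
  (353, []),
  (355, []),
  (261, [47, 109]),
  (71, []),
  (361, []),
  (364, []),
  (72, []),
  (265, [7, 138]),
  (307, [91, 132]),
  (370, []),
  (322, [32, 124]),
  (231, [16, 107]),
  (350, [65, 143]),
  (376, []),
  (378, []),
  (381, []),
  (77, []),
  (384, []),
  (130, [96, 144]),
  (256, [20, 120]),
  (116, [72, 109]),
  (79, []),
  (299, [57]),
  (390, []),
  (351, [72, 143]),
  (102, [86, 110]),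
  (393, []),
  (132, [90, 104]),
  (324, [88, 133]),
  (82, []),
  (399, []),
  (83, []),
  (84, []),
  (406, []),
  (382, [48, 113]),
  (408, []),
  (410, []),
  (215, [63, 103]),
  (87, []),
  (201, [41, 132]),
  (417, []),
  (418, [24, 142]),
  (88, []),
  (127, [26, 110]),
  (424, []),
  (426, []),
  (94, [35]),
  (335, [90, 132]),
  (365, [48, 144]),
  (93, []),
  (429, []),
  (292, [19, 144]),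
  (95, []),
  (320, [13, 129]),
  (97, []),
  (436, []),
  (437, []),
  (438, []),
  (98, []),
  (245, [12, 114]),
  (99, []),
  (395, [60, 116]),
  (336, [98, 120]),
  (444, []),
  (174, [22, 126]),
  (146, [58, 120]),
  (448, []),
  (104, []),
  (160, [73]),
  (451, []),
  (105, []),
  (453, []),
  (106, []),
  (456, []),
  (131, [58, 115]),
  (359, [63, 130]),
  (338, [91, 122]),
  (108, []),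
  (460, []),
  (435, [63, 107]),
  (463, []),
  (237, [94, 122]),
  (465, []),
  (111, []),
  (468, []),
  (372, [83, 130]),
  (440, [91, 144]),
  (434, [34, 143]),
  (113, []),
  (401, [20, 117]),
  (403, [61, 108]),
  (115, []),
  (211, [40, 126]),
  (476, []),
  (117, []),
  (172, [34, 103]),
  (452, [22, 120]),
  (119, []),
  (483, []),
  (383, [16, 104]),
  (486, []),
  (272, [97, 120]),
  (487, []),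
  (377, [83, 127]),
  (490, []),
  (124, []),
  (373, [63, 114]),
  (125, []),
  (492, []),
  (346, [90, 104]),
  (367, [91, 112]),
  (489, [76, 116]),
  (287, [17, 137]),
  (496, []),
  (348, [79, 129]),
  (498, []),
  (500, []),
  (135, []),
  (446, [40, 130]),
  (503, []),
  (241, [16, 125]),
  (396, [88, 119]),
  (137, []),
  (224, [59, 144]),
  (164, [69])]

/-- The moves of letter 0, a part. -/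
def certMoves0Part1 : List (ℕ × List ℕ) := [
  (488, [39, 130]),
  (305, [57, 139]),
  (510, []),
  (140, []),
  (513, []),
  (141, []),
  (516, []),
  (266, [60, 120]),
  (242, [14, 122]),
  (248, [39, 145]),
  (517, []),
  (247, [60, 120]),
  (148, []),
  (282, [90, 126]),
  (149, []),
  (522, []),
  (236, [6, 145]),
  (152, []),
  (525, []),
  (153, []),
  (230, [41, 100]),
  (222, [43, 141]),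
  (249, [88, 108]),
  (530, []),
  (156, []),
  (267, [14, 141]),
  (524, []),
  (293, [34]),
  (534, []),
  (536, []),
  (537, []),
  (275, [72, 113]),
  (539, []),
  (162, []),
  (523, [15, 134]),
  (195, [62, 144]),
  (543, []),
  (252, [74, 125]),
  (166, []),
  (546, []),
  (475, [28, 102]),
  (167, []),
  (550, []),
  (284, [79, 129]),
  (553, []),
  (209, []),
  (171, []),
  (191, [15, 104]),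
  (402, [7]),
  (441, [99]),
  (394, [89, 102]),
  (173, []),
  (485, [40, 116]),
  (250, [39, 125]),
  (556, []),
  (197, []),
  (176, []),
  (177, []),
  (473, [8, 135]),
  (178, []),
  (386, [21, 144]),
  (443, [72, 128]),
  (179, []),
  (375, [94, 115]),
  (327, [11, 120]),
  (317, [11, 120]),
  (181, []),
  (392, [68, 144]),
  (182, []),
  (563, []),
  (194, [74, 122]),
  (184, []),
  (405, [7]),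
  (186, []),
  (187, []),
  (415, [40, 140]),
  (280, [83, 127]),
  (188, []),
  (567, []),
  (189, []),
  (302, [39, 111]),
  (344, [42, 142]),
  (518, [51, 107]),
  (507, [48, 121]),
  (515, [12, 139]),
  (192, []),
  (389, [51, 130]),
  (360, [32, 130]),
  (387, [41, 144]),
  (354, [15, 110]),
  (575, []),
  (198, []),
  (352, [37, 109]),
  (577, []),
  (309, [36, 135]),
  (235, [55, 110]),
  (484, [52, 104]),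
  (391, [67, 104]),
  (204, []),
  (310, [23, 134]),
  (205, []),
  (213, [59, 99]),
  (206, []),
  (368, [35, 138]),
  (584, []),
  (345, [5, 105]),
  (315, [71, 123]),
  (527, [22, 110]),
  (264, [39, 110]),
  (477, [80, 120]),
  (491, [17, 118]),
  (339, [61, 111]),
  (212, []),
  (587, []),
  (544, [18, 103]),
  (214, []),
  (588, []),
  (341, [32, 115]),
  (590, []),
  (558, [96, 138]),
  (413, [13, 106]),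
  (217, []),
  (592, []),
  (218, []),
  (321, [49, 103]),
  (595, []),
  (470, [18, 143]),
  (220, []),
  (598, []),
  (397, [7, 141]),
  (225, []),
  (449, [76, 110]),
  (431, [25, 144]),
  (295, [130]),
  (228, []),
  (319, [18, 114]),
  (263, [81, 104]),
  (313, [90, 133]),
  (270, [74, 144]),
  (445, [29, 117]),
  (512, [33, 127]),
  (233, []),
  (521, [86, 104]),
  (258, [74, 99]),
  (466, [9, 111]),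
  (462, [14, 135]),
  (366, [65, 110]),
  (506, [36, 114]),
  (459, [69, 122]),
  (243, []),
  (414, [83, 142]),
  (520, [4, 119]),
  (601, []),
  (602, []),
  (246, []),
  (329, [56, 126]),
  (565, [7, 140]),
  (594, [91, 135]),
  (347, [32]),
  (274, [54, 110]),
  (605, []),
  (253, []),
  (400, [45, 145]),
  (356, [62, 130]),
  (582, [61]),
  (362, [42, 130]),
  (607, []),
  (268, [55, 143]),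
  (593, [35, 120]),
  (259, []),
  (411, [4, 111]),
  (260, []),
  (493, [57, 116]),
  (570, [10, 126]),
  (611, []),
  (412, [32, 125]),
  (454, [88, 100]),
  (613, []),
  (269, []),
  (306, [38, 139]),
  (407, [81, 136]),
  (271, []),
  (581, [59, 128]),
  (505, [36, 122]),
  (273, []),
  (423, [9, 112]),
  (450, [29, 136]),
  (303, [63, 112]),
  (277, []),
  (547, [16, 132]),
  (532, [55, 119]),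
  (279, []),
  (404, [27, 134]),
  (283, []),
  (286, []),
  (535, [69, 126]),
  (560, [38, 134]),
  (288, []),
  (502, [84, 111]),
  (290, []),
  (442, [30, 128]),
  (291, []),
  (499, [25, 141]),
  (480, [50, 109]),
  (294, []),
  (297, []),
  (606, [125]),
  (433, [78, 144]),
  (301, []),
  (409, [36, 110]),
  (561, [27, 127]),
  (618, [17, 102]),
  (328, [32, 115]),
  (332, [82, 124]),
  (304, []),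
  (385, [18]),
  (604, [79, 103]),
  (439, [115]),
  (471, [60, 120]),
  (447, [74, 123]),
  (314, []),
  (482, [65, 109]),
  (599, [96, 138]),
  (316, []),
  (432, [59, 130]),
  (620, [63, 110]),
  (318, []),
  (591, [7, 117]),
  (416, [21, 106]),
  (464, [10, 114]),
  (398, [95, 131]),
  (504, [35, 136]),
  (325, []),
  (548, [33, 142]),
  (559, [45, 122]),
  (421, [85, 116]),
  (616, [38, 117]),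
  (478, [14, 141]),
  (331, []),
  (549, [15, 118]),
  (557, [84, 115]),
  (333, []),
  (610, [83, 134]),
  (371, [96]),
  (586, [77, 106]),
  (609, [44, 102]),
  (597, [48, 107]),
  (623, [15, 144]),
  (551, [90, 117]),
  (628, []),
  (580, [40, 125]),
  (342, []),
  (617, [21, 145]),
  (458, [4, 128]),
  (474, [56, 132]),
  (552, [78, 133]),
  (574, [85, 144]),
  (622, [49, 140]),
  (568, [45, 121]),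
  (357, []),
  (526, [57, 145]),
  (358, []),
  (363, []),
  (509, [27, 127]),
  (369, []),
  (374, []),
  (380, [51, 101]),
  (589, [12, 132]),
  (379, []),
  (572, [47, 113]),
  (566, [85, 123]),
  (514, [58, 124]),
  (573, [9, 145]),
  (621, [65, 107]),
  (388, []),
  (430, [14, 122]),
  (461, [32, 104]),
  (562, [33, 105]),
  (624, [34, 105]),
  (501, [95, 103]),
  (428, [34, 108]),
  (579, [27, 99]),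
  (600, [97, 123]),
  (420, [79, 133]),
  (542, [88, 113]),
  (603, [19, 100]),
  (538, [89, 107]),
  (585, [34, 107]),
  (627, [6, 124]),
  (419, [71, 145]),
  (495, [39, 123]),
  (531, [8, 139]),
  (457, [43, 108]),
  (422, []),
  (469, [77, 133]),
  (576, [72, 145]),
  (425, []),
  (427, []),
  (533, [77, 132]),
  (541, [6, 106])]

/-- The moves of letter 0, a part. -/
def certMoves0Part2 : List (ℕ × List ℕ) := [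
  (519, [42, 121]),
  (455, [22, 120]),
  (608, [82, 120]),
  (629, []),
  (555, [62, 137]),
  (596, [46, 103]),
  (529, [61, 114]),
  (508, [48, 126]),
  (467, []),
  (578, [11, 134]),
  (472, []),
  (626, [67, 106]),
  (564, [78, 110]),
  (612, [12, 106]),
  (479, []),
  (583, [21, 104]),
  (481, []),
  (614, [87, 135]),
  (619, [46, 125]),
  (494, [19, 114]),
  (497, []),
  (569, [39, 119]),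
  (625, [22, 131]),
  (511, []),
  (528, []),
  (540, []),
  (554, [75, 115]),
  (545, []),
  (571, [16, 136]),
  (615, [89, 140])]

/-- The moves of letter 0. -/
def certMoves0 : List (ℕ × List ℕ) := certMoves0Part0 ++ certMoves0Part1 ++ certMoves0Part2

/-- The moves of letter 1, a part. -/
def certMoves1Part0 : List (ℕ × List ℕ) := [
  (0, [34]),
  (3, [26]),
  (5, [35]),
  (1, []),
  (10, []),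
  (2, []),
  (15, []),
  (18, []),
  (21, []),
  (4, []),
  (26, []),
  (30, []),
  (32, [24]),
  (35, []),
  (6, []),
  (40, []),
  (44, []),
  (7, []),
  (49, []),
  (53, []),
  (8, []),
  (58, []),
  (62, []),
  (9, []),
  (68, []),
  (71, []),
  (73, []),
  (76, []),
  (79, []),
  (11, []),
  (84, []),
  (87, []),
  (12, []),
  (64, [44, 125]),
  (13, []),
  (37, [76, 110]),
  (97, []),
  (14, []),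
  (101, []),
  (104, []),
  (34, [76, 125]),
  (100, [6]),
  (110, []),
  (16, []),
  (115, []),
  (117, []),
  (17, []),
  (85, [45, 114]),
  (124, []),
  (126, []),
  (130, []),
  (131, []),
  (19, []),
  (136, []),
  (140, []),
  (20, []),
  (69, [90, 126]),
  (148, []),
  (150, []),
  (145, [5]),
  (155, []),
  (22, []),
  (159, []),
  (45, [14, 141]),
  (23, []),
  (166, []),
  (128, [13]),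
  (24, []),
  (171, []),
  (173, []),
  (25, []),
  (178, []),
  (181, []),
  (33, [29, 110]),
  (120, []),
  (27, []),
  (51, [90, 104]),
  (191, []),
  (28, []),
  (196, []),
  (59, [30, 120]),
  (29, []),
  (204, []),
  (206, []),
  (207, []),
  (135, [18, 143]),
  (31, []),
  (213, []),
  (217, []),
  (118, [94, 120]),
  (142, [20]),
  (116, [57, 109]),
  (107, [88, 112]),
  (224, []),
  (221, [6]),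
  (227, []),
  (36, []),
  (229, []),
  (233, []),
  (235, []),
  (38, []),
  (94, [88, 120]),
  (200, [83, 122]),
  (39, []),
  (242, []),
  (245, []),
  (247, []),
  (41, []),
  (252, []),
  (42, []),
  (157, [79, 112]),
  (258, []),
  (43, []),
  (263, []),
  (83, [90, 119]),
  (266, []),
  (195, [13, 99]),
  (269, []),
  (46, []),
  (272, []),
  (74, [26]),
  (47, []),
  (153, [47]),
  (48, []),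
  (280, []),
  (282, []),
  (89, [78, 122]),
  (218, [5, 112]),
  (66, [5]),
  (50, []),
  (193, [73, 144]),
  (249, [58, 118]),
  (202, [79, 129]),
  (52, []),
  (96, [30, 128]),
  (292, []),
  (170, [55, 105]),
  (297, []),
  (152, [31]),
  (54, []),
  (303, []),
  (305, []),
  (55, []),
  (151, [23, 144]),
  (174, [140]),
  (56, []),
  (240, [58, 112]),
  (57, []),
  (312, []),
  (314, []),
  (90, [25]),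
  (143, [68, 144]),
  (317, []),
  (319, []),
  (60, []),
  (134, [35, 136]),
  (324, []),
  (61, []),
  (160, [31, 122]),
  (109, [14, 122]),
  (243, [96]),
  (63, []),
  (333, []),
  (99, [23, 109]),
  (299, [82]),
  (65, []),
  (338, []),
  (341, []),
  (67, []),
  (106, [88, 108]),
  (146, [107]),
  (346, []),
  (270, [74, 145]),
  (351, []),
  (239, [14, 114]),
  (70, []),
  (356, []),
  (357, []),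
  (359, []),
  (362, []),
  (72, []),
  (366, []),
  (368, []),
  (112, [12, 111]),
  (371, []),
  (75, []),
  (373, []),
  (374, []),
  (377, []),
  (379, []),
  (77, []),
  (347, [91, 111]),
  (385, []),
  (78, []),
  (370, [91, 120]),
  (335, [36, 144]),
  (129, [96, 144]),
  (355, []),
  (391, []),
  (80, []),
  (81, []),
  (214, [9, 135]),
  (114, [12, 111]),
  (82, []),
  (398, []),
  (400, []),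
  (402, []),
  (102, [86, 110]),
  (162, [56, 118]),
  (345, []),
  (86, []),
  (267, [8, 116]),
  (412, []),
  (401, [19, 123]),
  (415, []),
  (212, [63, 103]),
  (88, []),
  (421, []),
  (423, []),
  (91, []),
  (427, []),
  (92, []),
  (321, [79, 104]),
  (93, []),
  (298, [19, 144]),
  (430, []),
  (95, []),
  (121, [130]),
  (434, []),
  (154, [79]),
  (320, [32, 128]),
  (186, [52, 100]),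
  (98, []),
  (441, []),
  (149, [42, 121]),
  (395, [18, 125]),
  (316, [52, 116]),
  (256, [78, 112]),
  (141, [69, 106]),
  (103, []),
  (133, [13, 110]),
  (295, [87, 120]),
  (308, [79, 112]),
  (449, []),
  (105, []),
  (234, [29, 126]),
  (454, []),
  (311, [42, 125]),
  (309, [63, 141]),
  (322, [85, 102]),
  (353, [63, 130]),
  (108, []),
  (337, [91, 122]),
  (461, []),
  (119, [73, 110]),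
  (164, [76, 112]),
  (194, [25, 122]),
  (111, []),
  (443, [34, 143]),
  (469, []),
  (471, []),
  (177, [37, 138]),
  (113, []),
  (436, [23, 136]),
  (408, [63, 122]),
  (182, [52, 121]),
  (307, [42, 125]),
  (325, [43, 100]),
  (467, [30, 100]),
  (478, []),
  (438, [91, 144]),
  (481, []),
  (276, [89, 144]),
  (484, []),
  (459, [30, 125]),
  (331, [44, 131]),
  (122, []),
  (488, []),
  (123, []),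
  (491, []),
  (376, [83, 127]),
  (125, []),
  (313, [79, 145]),
  (493, []),
  (343, [90, 104]),
  (127, []),
  (494, []),
  (287, [17, 102]),
  (497, []),
  (132, []),
  (499, []),
  (501, []),
  (226, [59, 144]),
  (327, [4]),
  (504, []),
  (433, [122]),
  (137, []),
  (505, []),
  (138, []),
  (197, [8])]

/-- The moves of letter 1, a part. -/
def certMoves1Part1 : List (ℕ × List ℕ) := [
  (139, []),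
  (508, []),
  (380, [63, 121]),
  (487, [39, 130]),
  (514, []),
  (301, [57, 139]),
  (479, [37, 124]),
  (183, [15, 126]),
  (144, []),
  (394, [69, 100]),
  (399, [73, 99]),
  (147, []),
  (169, [29, 142]),
  (437, [43, 104]),
  (520, []),
  (406, [49, 134]),
  (523, []),
  (365, [50, 112]),
  (526, []),
  (435, [45, 113]),
  (228, [72, 134]),
  (424, [71, 115]),
  (185, [32, 106]),
  (156, []),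
  (203, [95, 131]),
  (532, []),
  (158, []),
  (364, [50, 112]),
  (512, [9, 131]),
  (455, [50, 141]),
  (161, []),
  (538, []),
  (513, [62, 139]),
  (541, []),
  (163, []),
  (222, [14, 105]),
  (237, [90, 112]),
  (165, []),
  (251, [74, 125]),
  (411, [80, 123]),
  (167, []),
  (417, [9, 131]),
  (551, []),
  (168, []),
  (381, [42, 127]),
  (405, [7]),
  (284, [79, 129]),
  (458, [41, 112]),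
  (289, [90, 104]),
  (172, []),
  (187, [7, 115]),
  (199, [13, 132]),
  (392, [10, 99]),
  (175, []),
  (389, [51, 130]),
  (176, []),
  (463, [36, 110]),
  (559, []),
  (561, []),
  (250, [39, 125]),
  (387, [41, 144]),
  (179, []),
  (465, [60, 125]),
  (562, []),
  (180, []),
  (223, [37, 144]),
  (446, [53, 120]),
  (285, [74, 130]),
  (403, [53, 109]),
  (564, []),
  (184, []),
  (543, [73]),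
  (260, [86, 125]),
  (281, [39, 117]),
  (565, []),
  (363, [94, 101]),
  (188, []),
  (278, [83, 127]),
  (189, []),
  (568, []),
  (566, [74, 128]),
  (190, []),
  (209, [10, 115]),
  (274, [5, 101]),
  (192, []),
  (515, [55]),
  (360, [85, 144]),
  (388, [32, 130]),
  (574, []),
  (386, [15, 110]),
  (198, []),
  (397, [85, 138]),
  (367, [46, 144]),
  (201, []),
  (350, [89, 137]),
  (236, [42, 115]),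
  (296, [95, 103]),
  (429, [65, 126]),
  (530, [88, 133]),
  (205, []),
  (462, [30, 131]),
  (264, [25, 114]),
  (348, [5, 105]),
  (265, [46, 106]),
  (492, [56, 132]),
  (372, [5, 105]),
  (208, []),
  (480, [96, 140]),
  (210, []),
  (509, [62, 130]),
  (211, []),
  (470, [4, 111]),
  (475, [41, 130]),
  (420, [12, 108]),
  (450, [83, 102]),
  (375, [40, 140]),
  (528, [81, 102]),
  (215, []),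
  (216, [23, 124]),
  (589, [71, 116]),
  (583, [22, 129]),
  (535, [96, 105]),
  (593, []),
  (485, [9, 120]),
  (219, []),
  (596, []),
  (220, []),
  (597, []),
  (580, [15, 142]),
  (225, []),
  (575, [79, 112]),
  (432, [20, 144]),
  (524, [19, 130]),
  (507, [94, 144]),
  (262, [74, 99]),
  (254, [39, 99]),
  (230, []),
  (231, []),
  (232, []),
  (517, [118]),
  (261, [74, 144]),
  (349, [101]),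
  (500, [45, 111]),
  (361, [13, 111]),
  (238, []),
  (439, [72, 140]),
  (293, [93, 110]),
  (519, [4, 119]),
  (241, []),
  (431, [76, 125]),
  (486, [92, 109]),
  (244, []),
  (271, [43, 125]),
  (246, []),
  (476, [95, 128]),
  (601, [43, 125]),
  (248, []),
  (592, [98, 137]),
  (553, [15, 138]),
  (448, [82, 112]),
  (253, []),
  (576, [41, 135]),
  (445, [90, 111]),
  (255, []),
  (529, [37, 126]),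
  (257, []),
  (444, [41, 104]),
  (608, []),
  (259, []),
  (594, [5, 143]),
  (426, [76, 129]),
  (518, [42, 125]),
  (610, []),
  (358, [94, 99]),
  (554, [27, 134]),
  (340, [28, 102]),
  (268, []),
  (409, [61, 120]),
  (537, [43, 100]),
  (614, []),
  (503, [27, 138]),
  (616, []),
  (521, [7, 101]),
  (273, []),
  (396, [26, 138]),
  (352, [57, 100]),
  (275, []),
  (277, []),
  (300, [63, 112]),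
  (286, [18, 109]),
  (279, []),
  (410, [38, 143]),
  (283, []),
  (472, [94, 104]),
  (619, [59, 140]),
  (590, [63, 132]),
  (288, []),
  (620, []),
  (290, []),
  (502, [20, 118]),
  (291, []),
  (579, [88, 119]),
  (498, [88, 134]),
  (294, []),
  (531, [53, 134]),
  (483, [62, 112]),
  (447, [62, 141]),
  (383, [17, 143]),
  (607, [38, 105]),
  (563, [11, 106]),
  (302, []),
  (623, []),
  (440, [33, 139]),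
  (304, []),
  (571, [58, 142]),
  (384, [13, 124]),
  (306, []),
  (310, []),
  (382, [74, 103]),
  (600, [60, 111]),
  (451, [74, 123]),
  (442, [33, 111]),
  (315, []),
  (334, [91, 114]),
  (326, []),
  (318, []),
  (560, [94, 109]),
  (407, [43, 112]),
  (624, []),
  (606, [80, 141]),
  (323, []),
  (591, [8, 139]),
  (490, [45, 107]),
  (598, [87, 136]),
  (328, []),
  (495, [36, 104]),
  (329, []),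
  (330, []),
  (586, [97, 118]),
  (332, []),
  (625, []),
  (599, [5, 108]),
  (584, [95, 143]),
  (336, []),
  (414, [76, 118]),
  (627, []),
  (339, []),
  (489, [35, 128]),
  (533, [33, 142]),
  (539, [74, 133]),
  (342, []),
  (548, [90, 117]),
  (555, [57, 121]),
  (344, []),
  (626, [95, 119]),
  (604, [82, 127]),
  (354, []),
  (540, [67, 105]),
  (419, [85, 114]),
  (534, [45, 130]),
  (496, [17, 111]),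
  (510, [11, 106]),
  (577, [86, 145]),
  (369, []),
  (612, [94, 125]),
  (456, [65, 131]),
  (570, [23, 107]),
  (378, []),
  (558, [55, 100]),
  (621, [39, 119]),
  (473, [47, 141]),
  (628, [65, 118]),
  (569, [17, 101]),
  (572, [41, 109]),
  (556, [21, 144]),
  (390, []),
  (595, [12, 138]),
  (393, []),
  (609, [49, 111]),
  (581, [49, 133]),
  (550, [93, 120]),
  (482, [59, 103]),
  (464, [80]),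
  (615, [24, 136]),
  (404, []),
  (587, [34, 107]),
  (544, [65, 108]),
  (413, []),
  (416, []),
  (567, [29, 134]),
  (418, []),
  (527, [65, 104]),
  (422, []),
  (468, [6, 112]),
  (457, [34, 118]),
  (425, []),
  (605, [61, 104]),
  (546, [17, 128]),
  (428, []),
  (522, [85, 114])]

/-- The moves of letter 1, a part. -/
def certMoves1Part2 : List (ℕ × List ℕ) := [
  (582, [89, 145]),
  (452, []),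
  (453, []),
  (585, [19, 138]),
  (516, [43, 121]),
  (460, []),
  (506, [110]),
  (466, []),
  (602, [69, 130]),
  (545, [44, 102]),
  (542, [86, 135]),
  (474, []),
  (613, [13, 137]),
  (477, []),
  (617, [77, 116]),
  (629, [97, 145]),
  (536, [38, 117]),
  (552, [95, 118]),
  (511, [17, 137]),
  (618, [68, 125]),
  (525, [39, 112]),
  (573, [26, 123]),
  (557, [50, 119]),
  (547, [51, 144]),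
  (578, [51, 126]),
  (622, [14, 99]),
  (611, [95, 139]),
  (588, [5, 139]),
  (549, []),
  (603, [])]

/-- The moves of letter 1. -/
def certMoves1 : List (ℕ × List ℕ) := certMoves1Part0 ++ certMoves1Part1 ++ certMoves1Part2

/-- The moves of letter 2, a part. -/
def certMoves2Part0 : List (ℕ × List ℕ) := [
  (1, []),
  (4, []),
  (0, []),
  (7, []),
  (11, []),
  (12, []),
  (2, []),
  (19, []),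
  (3, []),
  (24, []),
  (27, []),
  (31, []),
  (33, []),
  (5, []),
  (38, []),
  (41, []),
  (6, []),
  (47, []),
  (50, []),
  (54, []),
  (56, []),
  (59, []),
  (8, []),
  (65, []),
  (69, []),
  (9, []),
  (30, [7]),
  (77, []),
  (10, []),
  (82, []),
  (85, []),
  (88, []),
  (89, []),
  (91, []),
  (92, []),
  (94, []),
  (13, []),
  (74, [92, 125]),
  (102, []),
  (14, []),
  (66, [17, 130]),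
  (108, []),
  (15, []),
  (113, []),
  (116, []),
  (16, []),
  (119, []),
  (122, []),
  (17, []),
  (127, []),
  (100, [23, 112]),
  (18, []),
  (134, []),
  (137, []),
  (141, []),
  (143, []),
  (146, []),
  (20, []),
  (151, []),
  (153, []),
  (21, []),
  (158, []),
  (160, []),
  (22, []),
  (163, []),
  (167, []),
  (23, []),
  (169, []),
  (154, [73, 121]),
  (174, []),
  (176, []),
  (62, [42]),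
  (25, []),
  (183, []),
  (26, []),
  (186, []),
  (188, []),
  (192, []),
  (194, []),
  (197, []),
  (28, []),
  (201, []),
  (205, []),
  (29, []),
  (208, []),
  (90, [94, 131]),
  (211, []),
  (214, []),
  (45, [58, 144]),
  (218, []),
  (32, []),
  (220, []),
  (222, []),
  (34, []),
  (200, [32, 103]),
  (35, []),
  (166, [60, 116]),
  (230, []),
  (36, []),
  (37, []),
  (44, [55, 117]),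
  (236, []),
  (238, []),
  (240, []),
  (243, []),
  (39, []),
  (40, []),
  (249, []),
  (253, []),
  (254, []),
  (170, [58, 145]),
  (42, []),
  (260, []),
  (264, []),
  (43, []),
  (83, [15, 132]),
  (268, []),
  (270, []),
  (104, [16, 125]),
  (273, []),
  (46, []),
  (274, []),
  (277, []),
  (147, [39, 117]),
  (96, [44, 138]),
  (48, []),
  (175, [91, 112]),
  (286, []),
  (49, []),
  (61, [9, 144]),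
  (223, [9]),
  (247, [63, 141]),
  (51, []),
  (291, []),
  (209, [8, 143]),
  (52, []),
  (294, []),
  (210, [23, 143]),
  (53, []),
  (301, []),
  (261, [87, 130]),
  (306, []),
  (173, [13, 105]),
  (287, [96, 145]),
  (55, []),
  (178, [31, 125]),
  (310, []),
  (219, [71, 115]),
  (251, [86, 138]),
  (57, []),
  (199, [7, 145]),
  (120, [89, 127]),
  (58, []),
  (225, [19, 126]),
  (320, []),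
  (321, []),
  (60, []),
  (295, [5, 122]),
  (316, [55, 100]),
  (327, []),
  (329, []),
  (331, []),
  (63, []),
  (335, []),
  (64, []),
  (298, [82, 118]),
  (339, []),
  (342, []),
  (344, []),
  (228, [87, 145]),
  (67, []),
  (347, []),
  (68, []),
  (352, []),
  (272, [31, 116]),
  (354, []),
  (221, [65, 122]),
  (70, []),
  (360, []),
  (71, []),
  (133, [74, 130]),
  (367, []),
  (72, []),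
  (262, [6, 139]),
  (73, []),
  (145, [90, 134]),
  (118, [5, 113]),
  (75, []),
  (80, [98, 108]),
  (76, []),
  (382, []),
  (383, []),
  (380, [4, 106]),
  (386, []),
  (387, []),
  (78, []),
  (388, []),
  (389, []),
  (79, []),
  (392, []),
  (256, [37, 131]),
  (394, []),
  (81, []),
  (396, []),
  (343, [96, 130]),
  (401, []),
  (235, [6, 108]),
  (404, []),
  (407, []),
  (84, []),
  (409, []),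
  (411, []),
  (86, []),
  (413, []),
  (416, []),
  (87, []),
  (419, []),
  (422, []),
  (99, [15, 101]),
  (425, []),
  (428, []),
  (284, [5, 115]),
  (156, [59, 134]),
  (326, [19, 130]),
  (319, [47, 130]),
  (93, []),
  (431, []),
  (432, []),
  (95, []),
  (289, [52, 116]),
  (323, [28, 122]),
  (97, []),
  (439, []),
  (442, []),
  (98, []),
  (165, [52, 100]),
  (263, [143]),
  (101, []),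
  (445, []),
  (446, []),
  (198, [48, 136]),
  (103, []),
  (448, [21, 130]),
  (450, []),
  (131, [4, 105]),
  (296, [36, 114]),
  (105, []),
  (434, [34, 143]),
  (106, []),
  (458, []),
  (107, []),
  (129, [43, 133]),
  (204, [48, 103]),
  (357, [68, 139]),
  (462, []),
  (109, []),
  (110, []),
  (318, [49, 132]),
  (124, [71, 104]),
  (111, []),
  (195, [86, 111]),
  (112, []),
  (472, []),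
  (371, [51, 134]),
  (473, []),
  (114, []),
  (252, [65, 135]),
  (115, []),
  (477, []),
  (288, [39, 117]),
  (480, []),
  (117, []),
  (482, []),
  (466, [18, 111]),
  (485, []),
  (121, []),
  (346, [4, 133]),
  (489, []),
  (381, [79, 129]),
  (123, []),
  (191, [52, 140]),
  (190, [18, 111]),
  (351, [5, 113]),
  (125, []),
  (126, []),
  (390, [63, 121]),
  (495, []),
  (128, []),
  (130, []),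
  (337, [79, 129]),
  (132, []),
  (420, [92, 117]),
  (181, [95]),
  (135, []),
  (325, [34, 112]),
  (136, []),
  (292, [79, 114]),
  (283, [46, 125]),
  (507, []),
  (138, [])]

/-- The moves of letter 2, a part. -/
def certMoves2Part1 : List (ℕ × List ℕ) := [
  (447, [27, 115]),
  (509, []),
  (139, []),
  (512, []),
  (140, []),
  (451, [79, 103]),
  (162, [58, 144]),
  (142, []),
  (449, [96]),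
  (144, []),
  (379, [69, 103]),
  (402, [29, 132]),
  (518, []),
  (148, []),
  (299, [49, 141]),
  (149, []),
  (150, []),
  (524, []),
  (152, []),
  (527, []),
  (508, [48, 122]),
  (528, []),
  (155, []),
  (303, [35, 136]),
  (531, []),
  (157, []),
  (533, []),
  (435, [13, 113]),
  (159, []),
  (244, [4, 129]),
  (426, [47, 145]),
  (305, [50, 104]),
  (161, []),
  (330, [37, 117]),
  (405, [91, 142]),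
  (212, [9, 141]),
  (164, []),
  (453, [65, 136]),
  (545, []),
  (547, []),
  (548, []),
  (378, [71, 134]),
  (552, []),
  (280, [7, 122]),
  (241, [79, 136]),
  (168, []),
  (437, [86, 138]),
  (554, []),
  (171, []),
  (300, [45, 117]),
  (172, []),
  (226, [42, 114]),
  (550, [74, 123]),
  (184, [91, 120]),
  (557, []),
  (543, [14, 112]),
  (463, [91, 125]),
  (560, []),
  (177, []),
  (224, [42, 144]),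
  (459, [31, 102]),
  (414, [72, 126]),
  (307, [93, 131]),
  (179, []),
  (193, [62, 112]),
  (180, []),
  (308, [96, 120]),
  (271, [12, 128]),
  (364, [137]),
  (182, []),
  (317, [60, 112]),
  (237, [88, 110]),
  (185, []),
  (282, [79, 145]),
  (356, [55, 100]),
  (187, []),
  (281, [45, 144]),
  (278, [63, 114]),
  (242, [34, 136]),
  (441, [64, 144]),
  (189, []),
  (569, []),
  (523, [62, 114]),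
  (196, [70, 140]),
  (570, []),
  (571, []),
  (573, []),
  (515, [63, 113]),
  (471, [77, 142]),
  (345, [69, 127]),
  (576, []),
  (454, [81, 124]),
  (313, [59, 110]),
  (465, [7, 145]),
  (497, [51, 141]),
  (202, []),
  (577, [98, 133]),
  (203, []),
  (579, []),
  (580, []),
  (558, [40, 135]),
  (582, []),
  (424, [25, 136]),
  (206, []),
  (275, [59, 145]),
  (207, []),
  (503, [74, 136]),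
  (585, []),
  (455, [71, 106]),
  (217, [13, 124]),
  (586, []),
  (544, [83, 136]),
  (532, [41, 139]),
  (572, [81, 118]),
  (213, []),
  (500, [64, 108]),
  (421, [36, 108]),
  (589, []),
  (215, []),
  (311, [44, 144]),
  (216, []),
  (487, [24, 111]),
  (521, [65, 132]),
  (594, []),
  (365, [56, 132]),
  (464, [7, 112]),
  (231, [77, 140]),
  (391, [21, 101]),
  (234, [58, 144]),
  (417, [96, 100]),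
  (588, [83, 109]),
  (373, [59, 112]),
  (593, [41, 128]),
  (227, []),
  (363, [55, 107]),
  (229, []),
  (599, []),
  (553, [83, 130]),
  (397, [28, 125]),
  (598, [68, 106]),
  (232, []),
  (505, [45, 111]),
  (514, [44, 109]),
  (233, []),
  (587, [19, 110]),
  (408, [47, 124]),
  (285, [48, 112]),
  (239, []),
  (276, [33, 112]),
  (511, [90, 123]),
  (324, [28, 114]),
  (493, [82, 115]),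
  (245, []),
  (603, []),
  (604, []),
  (246, []),
  (584, [7, 99]),
  (248, []),
  (372, [17, 143]),
  (250, []),
  (606, []),
  (444, [98, 113]),
  (279, [70, 104]),
  (574, [4, 120]),
  (255, []),
  (546, [29, 104]),
  (257, []),
  (258, []),
  (443, [81, 140]),
  (609, []),
  (259, []),
  (266, [55, 123]),
  (430, [68, 99]),
  (340, [86, 121]),
  (265, []),
  (267, []),
  (595, [58, 122]),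
  (290, [34, 128]),
  (353, [37, 138]),
  (269, []),
  (452, [43, 108]),
  (591, [49, 128]),
  (369, [36, 123]),
  (370, [89, 114]),
  (398, [72, 134]),
  (538, [47, 115]),
  (333, [15, 143]),
  (494, [31, 105]),
  (600, [97, 144]),
  (506, [46, 110]),
  (349, [72, 128]),
  (359, [94, 133]),
  (616, [77, 112]),
  (619, []),
  (481, [80, 116]),
  (309, [77, 134]),
  (475, [97, 131]),
  (578, [51, 133]),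
  (366, [16, 136]),
  (348, [46, 133]),
  (460, [40, 99]),
  (362, [71, 108]),
  (293, []),
  (566, [62, 109]),
  (613, [12, 143]),
  (315, [12, 135]),
  (297, []),
  (423, [64, 112]),
  (461, [63, 104]),
  (621, [48, 133]),
  (406, [83, 101]),
  (302, []),
  (486, [80, 105]),
  (440, [79, 121]),
  (522, [85, 142]),
  (304, []),
  (412, [89, 126]),
  (410, [48, 106]),
  (338, [5, 130]),
  (312, []),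
  (526, [51, 136]),
  (314, []),
  (520, [56, 142]),
  (436, [41, 100]),
  (429, [49, 141]),
  (605, [12, 107]),
  (608, [72, 108]),
  (529, [82, 121]),
  (491, [25, 143]),
  (322, []),
  (575, [45, 140]),
  (375, [52, 113]),
  (620, [23, 113]),
  (399, [51, 100]),
  (376, [29, 104]),
  (328, []),
  (478, [57, 99]),
  (377, [29, 104]),
  (542, [35, 127]),
  (468, [86, 101]),
  (332, []),
  (467, [53]),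
  (334, []),
  (556, [30, 144]),
  (336, []),
  (519, [27, 125]),
  (395, [29, 123]),
  (564, [53, 128]),
  (612, [41, 115]),
  (341, []),
  (596, [10, 127]),
  (361, [33, 109]),
  (457, [56, 110]),
  (625, [74, 102]),
  (368, [49, 123]),
  (350, []),
  (433, [92, 139]),
  (358, [66, 141]),
  (355, []),
  (427, [87, 113]),
  (470, [61, 102]),
  (537, [52, 120]),
  (501, [21, 133]),
  (617, [35, 114]),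
  (590, [87, 142]),
  (483, [91, 115]),
  (374, []),
  (525, [22, 139]),
  (484, [91, 115]),
  (384, [50, 120]),
  (469, [39, 115]),
  (456, [28, 118]),
  (385, []),
  (499, [93, 133]),
  (611, [15, 130]),
  (597, [12, 138]),
  (618, [47, 136]),
  (627, [11, 102]),
  (393, []),
  (614, [7, 124]),
  (615, [36, 112]),
  (400, []),
  (496, [93, 128]),
  (403, []),
  (551, [93, 106]),
  (502, [93, 140]),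
  (415, [7, 135]),
  (555, [81, 128]),
  (536, [97, 99]),
  (610, [36, 118]),
  (541, [68, 120]),
  (418, []),
  (565, [41, 132]),
  (581, [91, 143]),
  (624, [10, 134]),
  (534, [76, 106]),
  (623, [15, 141]),
  (601, [88, 121]),
  (628, [97, 99]),
  (476, [74, 99])]

/-- The moves of letter 2, a part. -/
def certMoves2Part2 : List (ℕ × List ℕ) := [
  (438, []),
  (504, [7, 130]),
  (517, [69, 108]),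
  (535, [11, 135]),
  (559, [11, 133]),
  (607, [81, 130]),
  (492, [28, 111]),
  (513, [40, 133]),
  (539, [21, 111]),
  (561, [29, 143]),
  (592, [98, 135]),
  (622, [49, 103]),
  (474, []),
  (516, [10, 144]),
  (568, [53, 115]),
  (479, []),
  (602, [56, 133]),
  (488, []),
  (490, []),
  (629, [62]),
  (530, [7, 110]),
  (498, []),
  (510, []),
  (562, [58, 113]),
  (583, [52, 129]),
  (549, [36, 105]),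
  (540, []),
  (563, [89, 108]),
  (567, [86, 124]),
  (626, [20, 134])]

/-- The moves of letter 2. -/
def certMoves2 : List (ℕ × List ℕ) := certMoves2Part0 ++ certMoves2Part1 ++ certMoves2Part2

/-- The moves of letter 3, a part. -/
def certMoves3Part0 : List (ℕ × List ℕ) := [
  (2, []),
  (0, []),
  (6, []),
  (8, []),
  (1, []),
  (13, []),
  (16, []),
  (3, []),
  (22, []),
  (25, []),
  (28, []),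
  (4, []),
  (5, []),
  (36, []),
  (39, []),
  (42, []),
  (45, []),
  (48, []),
  (51, []),
  (7, []),
  (57, []),
  (60, []),
  (63, []),
  (66, []),
  (9, []),
  (72, []),
  (74, []),
  (10, []),
  (80, []),
  (83, []),
  (26, [5, 105]),
  (11, []),
  (90, []),
  (12, []),
  (93, []),
  (95, []),
  (98, []),
  (99, []),
  (14, []),
  (105, []),
  (106, []),
  (15, []),
  (111, []),
  (114, []),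
  (100, [76, 126]),
  (88, [58, 144]),
  (120, []),
  (17, []),
  (125, []),
  (128, []),
  (18, []),
  (132, []),
  (135, []),
  (138, []),
  (19, []),
  (144, []),
  (20, []),
  (149, []),
  (152, []),
  (21, []),
  (156, []),
  (129, [9, 144]),
  (71, [60]),
  (162, []),
  (164, []),
  (23, []),
  (40, [10, 125]),
  (170, []),
  (172, []),
  (24, []),
  (177, []),
  (179, []),
  (182, []),
  (184, []),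
  (37, [72, 110]),
  (187, []),
  (189, []),
  (27, []),
  (195, []),
  (198, []),
  (188, [43, 124]),
  (202, []),
  (29, []),
  (115, [74, 135]),
  (209, []),
  (30, []),
  (212, []),
  (215, []),
  (31, []),
  (32, []),
  (85, [57, 99]),
  (33, []),
  (34, []),
  (225, []),
  (35, []),
  (228, []),
  (124, [13, 140]),
  (231, []),
  (234, []),
  (218, [15, 101]),
  (50, [95, 110]),
  (237, []),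
  (38, []),
  (241, []),
  (118, [87, 120]),
  (246, []),
  (248, []),
  (250, []),
  (41, []),
  (255, []),
  (256, []),
  (259, []),
  (261, []),
  (43, []),
  (265, []),
  (267, []),
  (44, []),
  (271, []),
  (186, [7, 122]),
  (46, []),
  (151, [89, 142]),
  (275, []),
  (47, []),
  (279, []),
  (258, [11, 100]),
  (283, []),
  (284, []),
  (49, []),
  (287, []),
  (251, [14, 121]),
  (288, []),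
  (244, [74, 140]),
  (290, []),
  (180, [91, 112]),
  (52, []),
  (293, []),
  (295, []),
  (53, []),
  (299, []),
  (302, []),
  (304, []),
  (54, []),
  (307, []),
  (55, []),
  (309, []),
  (185, [79, 99]),
  (56, []),
  (123, [63, 114]),
  (313, []),
  (315, []),
  (316, []),
  (58, []),
  (318, []),
  (59, []),
  (68, [21, 136]),
  (322, []),
  (222, [59, 134]),
  (325, []),
  (61, []),
  (328, []),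
  (62, []),
  (332, []),
  (306, [58, 144]),
  (64, []),
  (336, []),
  (235, [16, 107]),
  (96, [42, 115]),
  (65, []),
  (345, []),
  (67, []),
  (110, [58, 140]),
  (348, []),
  (350, []),
  (142, [29, 116]),
  (69, []),
  (126, [74, 130]),
  (70, []),
  (358, []),
  (145, [66, 120]),
  (363, []),
  (365, []),
  (292, [23]),
  (369, []),
  (73, []),
  (353, [74, 122]),
  (372, []),
  (75, []),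
  (375, []),
  (76, []),
  (380, []),
  (281, [45, 136]),
  (280, [7, 105]),
  (77, []),
  (364, [36, 122]),
  (78, []),
  (260, [33, 133]),
  (383, [28, 118]),
  (79, []),
  (240, [10, 107]),
  (150, [64, 122]),
  (94, [41, 133]),
  (81, []),
  (395, []),
  (397, []),
  (252, [38, 113]),
  (82, []),
  (403, []),
  (405, []),
  (84, []),
  (134, [78, 107]),
  (137, [73, 129]),
  (86, []),
  (335, [32, 100]),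
  (414, []),
  (87, []),
  (418, []),
  (420, []),
  (409, [12, 139]),
  (89, []),
  (147, [49, 103]),
  (91, []),
  (176, [53, 130]),
  (92, []),
  (130, [9]),
  (359, [60, 144]),
  (153, [19, 126]),
  (351, [60, 117]),
  (433, []),
  (169, [26, 143]),
  (435, []),
  (97, []),
  (426, [35, 141]),
  (440, []),
  (443, []),
  (428, [58, 144]),
  (206, [5, 142]),
  (101, []),
  (371, [81, 122]),
  (102, []),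
  (447, []),
  (103, []),
  (344, [22, 99]),
  (378, [51, 134]),
  (104, []),
  (329, [4, 132]),
  (452, []),
  (455, []),
  (131, [39, 145]),
  (457, []),
  (107, []),
  (459, []),
  (148, [83, 131]),
  (266, [6, 103]),
  (108, []),
  (109, []),
  (464, []),
  (200, [10, 145]),
  (466, []),
  (467, []),
  (470, []),
  (112, []),
  (140, [16, 120]),
  (183, [5, 102]),
  (236, [128]),
  (113, []),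
  (474, []),
  (471, [76, 134]),
  (475, []),
  (116, []),
  (479, []),
  (117, []),
  (367, [44, 121]),
  (174, [66, 117]),
  (119, []),
  (121, []),
  (404, [19, 117]),
  (448, [33, 120]),
  (122, []),
  (377, [39, 117]),
  (462, [70, 131]),
  (343, [5, 113]),
  (376, [45, 144]),
  (373, [90, 126]),
  (297, [68, 125]),
  (221, [16, 126]),
  (446, [37, 125]),
  (127, []),
  (143, [24, 126]),
  (269, [63, 114]),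
  (229, [6, 145]),
  (477, [74, 132]),
  (133, []),
  (296, [90, 103]),
  (502, []),
  (136, []),
  (157, [26, 130]),
  (245, [62, 141]),
  (506, []),
  (165, [69, 115]),
  (314, [50, 105])]

/-- The moves of letter 3, a part. -/
def certMoves3Part1 : List (ℕ × List ℕ) := [
  (349, [55, 105]),
  (139, []),
  (511, []),
  (323, [53, 134]),
  (515, []),
  (331, [27, 105]),
  (141, []),
  (362, [94, 100]),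
  (366, [73, 130]),
  (495, [64, 111]),
  (146, []),
  (419, [29, 144]),
  (519, []),
  (392, [19, 110]),
  (521, []),
  (505, [72, 129]),
  (158, [45, 121]),
  (370, [42, 110]),
  (257, [11, 104]),
  (224, [38, 110]),
  (154, []),
  (155, []),
  (529, []),
  (230, [70, 120]),
  (450, [70, 117]),
  (294, [4, 110]),
  (223, [59, 130]),
  (159, []),
  (535, []),
  (160, []),
  (333, [37, 117]),
  (161, []),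
  (540, []),
  (486, [91, 99]),
  (542, []),
  (163, []),
  (544, []),
  (289, [90, 104]),
  (518, [26, 122]),
  (166, []),
  (473, [86, 121]),
  (549, []),
  (167, []),
  (204, [73, 110]),
  (168, []),
  (389, [36, 137]),
  (276, [74, 107]),
  (171, []),
  (499, [61, 136]),
  (490, [13, 111]),
  (555, []),
  (282, [7, 122]),
  (173, []),
  (478, [47, 109]),
  (175, []),
  (558, []),
  (374, [45, 121]),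
  (253, [80, 142]),
  (557, [31, 145]),
  (491, [93, 134]),
  (178, []),
  (551, [83, 107]),
  (501, [50, 102]),
  (434, [76, 131]),
  (368, [137]),
  (424, [27, 134]),
  (498, [65, 118]),
  (181, []),
  (554, [50, 133]),
  (482, [62, 111]),
  (483, [97, 115]),
  (263, [34, 136]),
  (458, [48, 121]),
  (431, [19, 120]),
  (566, []),
  (531, [16, 117]),
  (534, [12, 99]),
  (537, [12, 99]),
  (341, [11, 136]),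
  (310, [36, 143]),
  (192, [51, 139]),
  (278, [90, 104]),
  (190, []),
  (191, []),
  (569, [11, 112]),
  (572, []),
  (193, []),
  (194, []),
  (196, []),
  (197, []),
  (285, [39, 111]),
  (427, [84, 104]),
  (199, []),
  (578, []),
  (201, []),
  (546, [72, 101]),
  (203, []),
  (438, [70, 130]),
  (484, [13, 129]),
  (533, [91, 117]),
  (581, []),
  (205, []),
  (311, [13, 119]),
  (583, []),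
  (207, []),
  (334, [91, 137]),
  (510, [33, 103]),
  (208, []),
  (445, [48, 124]),
  (210, []),
  (517, [47, 106]),
  (211, []),
  (516, [89, 126]),
  (213, []),
  (361, [13, 118]),
  (586, [52, 107]),
  (214, []),
  (429, [85, 99]),
  (591, []),
  (216, []),
  (291, [13, 104]),
  (416, [69, 102]),
  (217, []),
  (507, [7, 116]),
  (402, [66, 136]),
  (219, []),
  (330, [47, 145]),
  (559, [77, 118]),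
  (220, []),
  (524, [50, 105]),
  (472, [46, 107]),
  (226, []),
  (227, []),
  (556, [92, 139]),
  (247, [74, 99]),
  (327, [29, 114]),
  (523, [32, 128]),
  (346, [83, 131]),
  (600, []),
  (232, []),
  (513, [98, 105]),
  (379, [7, 132]),
  (233, []),
  (468, [75, 131]),
  (461, [79, 123]),
  (238, []),
  (239, []),
  (300, [27, 115]),
  (242, [85, 122]),
  (308, [73]),
  (243, []),
  (305, [43, 121]),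
  (480, [98, 137]),
  (337, [6, 104]),
  (391, [21, 139]),
  (408, [50, 106]),
  (571, [70, 140]),
  (552, [49, 122]),
  (249, []),
  (360, [20, 124]),
  (500, [57, 119]),
  (508, [63, 131]),
  (254, []),
  (356, [74, 112]),
  (425, [5, 100]),
  (393, [64, 122]),
  (273, [45, 136]),
  (541, [65]),
  (539, [86, 101]),
  (570, [63, 145]),
  (560, [46, 108]),
  (388, [65, 124]),
  (262, []),
  (264, []),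
  (612, []),
  (496, [97, 131]),
  (599, [34, 143]),
  (268, []),
  (536, [94, 131]),
  (615, []),
  (270, []),
  (494, [61, 117]),
  (272, []),
  (565, [51, 133]),
  (568, [51, 133]),
  (274, []),
  (512, [68, 138]),
  (421, [75, 100]),
  (617, []),
  (277, []),
  (618, []),
  (528, [66, 126]),
  (606, [70, 121]),
  (451, [69, 118]),
  (487, [20, 135]),
  (286, []),
  (582, [94, 136]),
  (394, [74, 143]),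
  (621, []),
  (573, [8, 107]),
  (415, [16, 137]),
  (562, [73, 123]),
  (585, [57, 103]),
  (406, [15, 111]),
  (601, [5, 119]),
  (441, [30, 128]),
  (489, [68, 110]),
  (298, []),
  (320, [37, 122]),
  (301, []),
  (622, []),
  (449, [90, 123]),
  (303, []),
  (607, [78, 104]),
  (442, [72, 119]),
  (387, [63, 138]),
  (613, [17, 144]),
  (602, [36, 102]),
  (312, []),
  (545, [71, 112]),
  (522, [56, 142]),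
  (422, [16, 135]),
  (514, [88, 139]),
  (382, [36, 140]),
  (317, []),
  (567, [90, 102]),
  (520, [91, 101]),
  (319, []),
  (321, []),
  (527, [69, 129]),
  (620, [5, 138]),
  (324, []),
  (412, [41, 139]),
  (326, []),
  (595, [45, 137]),
  (603, [71, 128]),
  (588, [89, 101]),
  (561, [77, 112]),
  (485, [10, 128]),
  (608, [95, 132]),
  (626, []),
  (590, [46, 120]),
  (538, [26, 127]),
  (355, [79, 110]),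
  (411, [33, 107]),
  (338, []),
  (465, [12, 99]),
  (339, []),
  (340, []),
  (625, [69, 138]),
  (352, [4, 119]),
  (584, [78, 108]),
  (342, []),
  (437, [86, 125]),
  (347, []),
  (587, [23, 105]),
  (543, [54, 144]),
  (354, []),
  (400, [78, 143]),
  (604, [71, 131]),
  (357, []),
  (609, [12, 129]),
  (623, [58, 105]),
  (627, [89, 108]),
  (547, [35, 100]),
  (592, [9, 135]),
  (503, [82, 131]),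
  (628, [86, 124]),
  (614, [64, 126]),
  (381, []),
  (384, []),
  (385, []),
  (413, [67, 145]),
  (386, []),
  (463, [34, 125]),
  (530, [55, 138]),
  (390, []),
  (396, [79, 140]),
  (497, [91, 115]),
  (398, []),
  (399, []),
  (593, [4, 123]),
  (401, []),
  (624, [6, 132]),
  (456, [64, 130]),
  (407, []),
  (410, []),
  (444, [59, 110]),
  (430, [86, 133]),
  (417, []),
  (564, [7, 104]),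
  (481, [71, 107]),
  (610, [79, 107]),
  (432, [9, 116]),
  (423, []),
  (476, [58, 130]),
  (550, [10, 124]),
  (575, [72, 145]),
  (439, [80, 108]),
  (436, [])]

/-- The moves of letter 3, a part. -/
def certMoves3Part2 : List (ℕ × List ℕ) := [
  (488, [89, 110]),
  (597, [24, 123]),
  (616, [11, 132]),
  (453, []),
  (454, []),
  (525, [92, 119]),
  (460, []),
  (605, [88, 125]),
  (526, [72, 108]),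
  (469, []),
  (589, [62, 115]),
  (574, [51, 125]),
  (548, [41, 115]),
  (504, [44, 140]),
  (579, [35, 111]),
  (580, [62, 110]),
  (492, [52, 120]),
  (563, [7, 127]),
  (576, [17, 107]),
  (493, []),
  (532, [81, 126]),
  (509, [10, 101]),
  (611, [71, 115]),
  (596, [15, 121]),
  (594, [47, 107]),
  (553, [74, 102]),
  (629, [31, 104]),
  (577, [27, 102]),
  (598, [89, 101]),
  (619, [36])]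

/-- The moves of letter 3. -/
def certMoves3 : List (ℕ × List ℕ) := certMoves3Part0 ++ certMoves3Part1 ++ certMoves3Part2

end CfsgLib.CoThreeRec
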