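import Cfsg.Agent.Lib.CoThreeRec.CoordsModel
import Cfsg.Agent.Lib.CoThreeRec.CertBound

/-!
# The order bound for the amalgam of the double cover and the further element
-/

set_option autoImplicit false

namespace CfsgLib.CoThreeRec

theorem ptsFaithful : PtsFaithful := fun c h => eq_one_of_fix c h

/-- The group generated by the double cover and the further element has at most the order of Co3. -/
theorem card_closure_le {M : Type*} [Group M] [Finite M] (ι : Cm →* M) (n : M) (h : Amal ι n) :
    Nat.card (Subgroup.closure (Set.range ι ∪ {n})) ≤ 495766656000 :=
  card_closure_le_of card_Cm ptsFaithful h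

end CfsgLib.CoThreeRec
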