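import Cfsg.Agent.Lib.CoThreeRec.Walk

/-!
# The order bound from a completed certificate

Coset representatives of the group `D` of the first components of the pairs show that every element of
`C` is a representative times an element of `D`; identities at all representatives show that the double
cosets of the base elements are closed under the further element; stabiliser elements bound their sizes.
-/

set_option autoImplicit false

namespace CfsgLib.CoThreeRec

variable (eqb : List ℕ → List ℕ → Bool) (Y : Sys)

/-- The representatives times `D` are closed under left multiplication by a letter, on a range of rows. -/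
def movesB (reps : List (List ℕ)) (moves : List (ℕ × List ℕ)) (l : ℕ) : Bool :=
  (List.range reps.length).all fun r =>
    let m := moves.getD r (reps.length, [])
    Nat.blt m.1 reps.length && m.2.all (fun u => Nat.blt u Y.pairs.length) &&
      eqb (l :: reps.getD r []) (reps.getD m.1 [] ++ Y.dx m.2)

/-- The identities lead from the representatives at a base point to the base points again. -/
def coverB (ids : List Ident) (sts : List (ℕ × List ℕ)) (reps : List (List ℕ)) (hops : List Hop) (k : ℕ) : Bool :=
  (List.range reps.length).all fun r =>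
    match hopB eqb Y ids sts (hops.getD r ⟨ids.length, [], []⟩) (k, reps.getD r []) with
    | some Q => Nat.blt Q.1 Y.base.length
    | none => false

/-- Strictly increasing. -/
def increasing : List ℕ → Bool
  | a :: b :: l => Nat.blt a b && increasing (b :: l)
  | _ => true

theorem increasing_nodup : ∀ {l : List ℕ}, increasing l = true → l.Nodup
  | l, h => by
    have key : ∀ {l : List ℕ}, increasing l = true → l.Pairwise (· < ·) := by
      intro l
      induction l with
      | nil => intro _; exact List.Pairwise.nil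
      | cons a l ih =>
        cases l with
        | nil => intro _; exact List.pairwise_singleton _ a
        | cons b l =>
          intro h
          simp only [increasing, Bool.and_eq_true, Nat.blt_eq] at h
          have ih' := ih h.2
          refine List.pairwise_cons.2 ⟨fun x hx => ?_, ih'⟩
          rcases List.mem_cons.1 hx with rfl | hx
          · exact h.1
          · exact h.1.trans ((List.pairwise_cons.1 ih').1 x hx)
    exact (key h).imp fun h => Nat.ne_of_lt h

/-- Many different elements fix a base point: their signatures increase. -/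
def stabB (sig : List ℕ → ℕ) (sts : List (ℕ × List ℕ)) (k N : ℕ) (els : List (List ℕ)) : Bool :=
  Nat.beq els.length N && !(Nat.beq k 0) &&
    els.all (fun s => (stabWord sts k s).isSome) &&
      increasing (els.map fun s => sig ((stabWord sts k s).getD []))

variable {C M : Type*} [Group C] [Group M] {xm : ℕ → C} {ι : C →* M} {n : M}

/-- The subgroup of the first components. -/
def dGrp (xm : ℕ → C) : Subgroup C :=
  Subgroup.closure {x | ∃ i < Y.pairs.length, x = ((Y.pairs.getD i ([], [])).1.map xm).prod}

/-- The double coset of a base element. -/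
def dbl (xm : ℕ → C) (ι : C →* M) (n : M) (k : ℕ) : Set M :=
  {m | ∃ p c : C, m = ι p * baseVal xm ι n (Y.base.getD k []) * ι c}

/-- The elements fixing a base point. -/
def baseStab (xm : ℕ → C) (ι : C →* M) (n : M) (k : ℕ) : Subgroup C where
  carrier := {s | SameCoset ι (baseVal xm ι n (Y.base.getD k []) * ι s) (baseVal xm ι n (Y.base.getD k []))}
  one_mem' := by simpa using SameCoset.refl (ι := ι) (baseVal xm ι n (Y.base.getD k []))
  mul_mem' := fun {a b} ha hb => by
    show SameCoset ι _ _
    rw [map_mul, ← mul_assoc]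
    exact (ha.mul_right _).trans hb
  inv_mem' := fun {a} ha => by
    have h := (ha.mul_right (ι a)⁻¹).symm
    show SameCoset ι _ _
    rw [map_inv]
    simpa using h

variable {eqb Y}

theorem dx_mem_dGrp {d : List ℕ} (hd : ∀ u ∈ d, u < Y.pairs.length) : ((Y.dx d).map xm).prod ∈ dGrp Y xm := by
  induction d with
  | nil => simp [Sys.dx]
  | cons i d ih =>
    have e : Y.dx (i :: d) = (Y.pairs.getD i ([], [])).1 ++ Y.dx d := by simp [Sys.dx]
    rw [e, List.map_append, List.prod_append]
    exact mul_mem (Subgroup.subset_closure ⟨i, hd i List.mem_cons_self, rfl⟩)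
      (ih fun a ha => hd a (List.mem_cons_of_mem _ ha))

/-- What the tables say. -/
structure Complete (eqb : List ℕ → List ℕ → Bool) (Y : Sys) (xm : ℕ → C) (L : ℕ) (reps : List (List ℕ))
    (ids : List Ident) (sts : List (ℕ × List ℕ)) : Prop where
  gen : Subgroup.closure {x | ∃ l < L, xm l = x} = ⊤
  first : reps.getD 0 [] = []
  nonempty : 0 < reps.length
  moves : ∀ l, l < L → ∃ mv, movesB eqb Y reps mv l = true
  cover : ∀ k, k < Y.base.length → ∃ hs, coverB eqb Y ids sts reps hs k = true

variable (H : Holds eqb Y xm ι n) {L : ℕ} {reps : List (List ℕ)} {ids : List Ident} {sts : List (ℕ × List ℕ)}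

include H in
theorem Holds.dGrp_conj {d : C} (hd : d ∈ dGrp Y xm) : ∃ d' : C, n⁻¹ * ι d * n = ι d' := by
  induction hd using Subgroup.closure_induction with
  | mem x hx =>
    obtain ⟨i, hi, rfl⟩ := hx
    rw [List.getD_eq_getElem _ _ hi]
    exact ⟨_, H.pair _ (List.getElem_mem hi)⟩
  | one => exact ⟨1, by simp⟩
  | mul a b _ _ ha hb =>
    obtain ⟨a', ea⟩ := ha
    obtain ⟨b', eb⟩ := hb
    exact ⟨a' * b', by rw [map_mul, map_mul, ← ea, ← eb]; group⟩
  | inv a _ ha =>
    obtain ⟨a', ea⟩ := ha
    exact ⟨a'⁻¹, by rw [map_inv, map_inv, ← ea]; group⟩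

include H in
theorem Holds.mem_reps [Finite C] (T : Complete eqb Y xm L reps ids sts) (c : C) :
    ∃ r < reps.length, ∃ d ∈ dGrp Y xm, c = ((reps.getD r []).map xm).prod * d := by
  let S : Set C := {c | ∃ r < reps.length, ∃ d ∈ dGrp Y xm, c = ((reps.getD r []).map xm).prod * d}
  have h1 : (1 : C) ∈ S := ⟨0, T.nonempty, 1, one_mem _, by rw [T.first]; simp⟩
  have hl : ∀ l, l < L → ∀ s ∈ S, xm l * s ∈ S := by
    rintro l hl _ ⟨r, hr, d, hd, rfl⟩
    obtain ⟨mv, hmv⟩ := T.moves l hl
    simp only [movesB, List.all_eq_true, List.mem_range, Bool.and_eq_true, Nat.blt_eq] at hmv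
    obtain ⟨⟨hm, hu⟩, he⟩ := hmv r hr
    refine ⟨_, hm, _, mul_mem (dx_mem_dGrp (xm := xm) hu) hd, ?_⟩
    have h := H.eq _ _ he
    rw [List.map_cons, List.prod_cons, List.map_append, List.prod_append] at h
    rw [← mul_assoc, h, mul_assoc]
  have key : ∀ x : C, (∀ s ∈ S, x * s ∈ S) := by
    intro x
    have hx : x ∈ Subgroup.closure {x | ∃ l < L, xm l = x} := by rw [T.gen]; exact Subgroup.mem_top x
    induction hx using Subgroup.closure_induction with
    | mem g hg => obtain ⟨l, hl', rfl⟩ := hg; exact hl l hl'
    | one => intro s hs; simpa using hs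
    | mul a b _ _ ha hb => intro s hs; rw [mul_assoc]; exact ha _ (hb s hs)
    | inv a _ ha =>
      intro s hs
      have hfin : S.Finite := Set.toFinite _
      obtain ⟨u, hu, rfl⟩ := ((hfin.injOn_iff_bijOn_of_mapsTo (f := fun y => a * y) fun y hy => ha y hy).1
        (mul_right_injective a).injOn).surjOn hs
      simpa using hu
  have h := key c 1 h1
  rw [mul_one] at h
  exact h

include H in
theorem Holds.stab_ge [Finite C] (hv : Valid Y xm ι n ids sts) {sig : List ℕ → ℕ}
    (hsig : ∀ u v : List ℕ, (u.map xm).prod = (v.map xm).prod → sig u = sig v) {k N : ℕ} {els : List (List ℕ)}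
    (h : stabB sig sts k N els = true) : N ≤ Nat.card (baseStab Y xm ι n k) := by
  simp only [stabB, Bool.and_eq_true, Nat.beq_eq, List.all_eq_true] at h
  obtain ⟨⟨⟨hlen, -⟩, hS⟩, hinc⟩ := h
  let f : Fin els.length → List ℕ := fun a => (stabWord sts k els[a]).getD []
  have hmem : ∀ a, ((f a).map xm).prod ∈ baseStab Y xm ι n k := by
    intro a
    obtain ⟨S, hSa⟩ := Option.isSome_iff_exists.1 (hS _ (List.getElem_mem a.2))
    have e : f a = S := by simp [f, Fin.getElem_fin, hSa]
    have h1 := H.stabWord_spec hv hSa
    simp only [Sys.pt, cv_nil, mul_one] at h1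
    rw [e]
    exact h1
  rw [← hlen]
  refine le_trans (Nat.card_fin els.length).ge (Nat.card_le_card_of_injective (fun a => ⟨_, hmem a⟩) ?_)
  intro a b hab
  have he := hsig _ _ (congrArg Subtype.val hab)
  refine Fin.ext ((increasing_nodup hinc).getElem_inj_iff (hi := by simp) (hj := by simp) |>.1 ?_)
  simpa [f] using he

include H in
/-- The group generated by the image and the further element lies in the double cosets of the base points. -/
theorem Holds.closure_le [Finite C] [Finite M] (hv : Valid Y xm ι n ids sts)
    (T : Complete eqb Y xm L reps ids sts) (h0 : 0 < Y.base.length) :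
    ((Subgroup.closure (Set.range ι ∪ {n}) : Subgroup M) : Set M) ⊆ ⋃ k ∈ Finset.range Y.base.length, dbl Y xm ι n k := by
  set S : Set M := ⋃ k ∈ Finset.range Y.base.length, dbl Y xm ι n k with hS
  have hgen : ∀ g ∈ Set.range ι ∪ {n}, ∀ s ∈ S, s * g ∈ S := by
    intro g hg s hs
    simp only [hS, Set.mem_iUnion] at hs
    obtain ⟨k, hk, p, c, rfl⟩ := hs
    replace hk : k < Y.base.length := Finset.mem_range.1 hk
    rcases hg with ⟨c', rfl⟩ | hg
    · exact Set.mem_biUnion (Finset.mem_range.2 hk) ⟨p, c * c', by rw [map_mul, mul_assoc]⟩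
    · rw [Set.mem_singleton_iff] at hg
      rw [hg]
      obtain ⟨r, hr, d, hd, rfl⟩ := H.mem_reps T c
      obtain ⟨hs', hcov⟩ := T.cover k hk
      simp only [coverB, List.all_eq_true, List.mem_range] at hcov
      have hr' := hcov r hr
      split at hr'
      · rename_i Q hQ
        rw [Nat.blt_eq] at hr'
        obtain ⟨q, hq⟩ := H.hop_spec hv hQ
        obtain ⟨d', hd'⟩ := H.dGrp_conj hd
        refine Set.mem_biUnion (Finset.mem_range.2 hr') ⟨p * q, (Q.2.map xm).prod * d', ?_⟩
        simp only [Sys.pt, cv] at hq
        rw [map_mul, map_mul, map_mul, ← hd']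
        calc ι p * baseVal xm ι n (Y.base.getD k []) * (ι ((reps.getD r []).map xm).prod * ι d) * n
            = ι p * (baseVal xm ι n (Y.base.getD k []) * ι ((reps.getD r []).map xm).prod * n) *
                (n⁻¹ * ι d * n) := by group
          _ = ι p * (ι q * (baseVal xm ι n (Y.base.getD Q.1 []) * ι (Q.2.map xm).prod)) *
                (n⁻¹ * ι d * n) := by rw [hq]
          _ = _ := by group
      · exact absurd hr' (by simp)
  have h1 : (1 : M) ∈ S :=
    Set.mem_biUnion (Finset.mem_range.2 h0) ⟨1, 1, by rw [H.base]; simp [baseVal]⟩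
  intro x hx
  suffices (∀ s ∈ S, s * x ∈ S) from by simpa using this 1 h1
  induction hx using Subgroup.closure_induction with
  | mem g hg => exact hgen g hg
  | one => intro s hs; simpa using hs
  | mul a b _ _ ha hb => intro s hs; rw [← mul_assoc]; exact hb _ (ha s hs)
  | inv a _ ha =>
    intro s hs
    have hfin : S.Finite := Set.toFinite _
    obtain ⟨u, hu, rfl⟩ := ((hfin.injOn_iff_bijOn_of_mapsTo (f := fun y => y * a) fun y hy => ha y hy).1
      (mul_left_injective a).injOn).surjOn hs
    simpa using hu

/-- A double coset is small when many elements fix the base point. -/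
theorem card_dbl_le [Finite C] [Finite M] (k N : ℕ) (hN : 0 < N) (h : N ≤ Nat.card (baseStab Y xm ι n k)) :
    Nat.card (dbl Y xm ι n k) ≤ Nat.card C * (Nat.card C / N) := by
  set W := baseVal xm ι n (Y.base.getD k [])
  have hidx : Nat.card (C ⧸ baseStab Y xm ι n k) ≤ Nat.card C / N := by
    rw [Nat.le_div_iff_mul_le hN]
    calc Nat.card (C ⧸ baseStab Y xm ι n k) * N
        ≤ Nat.card (C ⧸ baseStab Y xm ι n k) * Nat.card (baseStab Y xm ι n k) := Nat.mul_le_mul_left _ h
      _ = Nat.card C := (Subgroup.card_eq_card_quotient_mul_card_subgroup _).symm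
  refine le_trans ?_ (Nat.mul_le_mul le_rfl hidx)
  rw [← Nat.card_prod]
  refine Nat.card_le_card_of_surjective
    (fun a : C × (C ⧸ baseStab Y xm ι n k) => (⟨_, a.1, a.2.out⁻¹, rfl⟩ : dbl Y xm ι n k)) ?_
  rintro ⟨_, p, c, rfl⟩
  obtain ⟨s, hs⟩ := QuotientGroup.mk_out_eq_mul (baseStab Y xm ι n k) c⁻¹
  obtain ⟨u, hu⟩ := (s.2 : SameCoset ι _ _)
  refine ⟨(p * u, QuotientGroup.mk c⁻¹), Subtype.ext ?_⟩
  simp only [hs, mul_inv_rev, inv_inv, map_mul, map_inv]
  calc ι p * ι u * W * ((ι (s : C))⁻¹ * ι c) = ι p * (ι u * W) * (ι (s : C))⁻¹ * ι c := by group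
    _ = ι p * (W * ι (s : C)) * (ι (s : C))⁻¹ * ι c := by rw [hu]
    _ = ι p * W * ι c := by group
    _ = _ := rfl

end CfsgLib.CoThreeRec
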