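import Cfsg.Agent.Lib.CoThreeRec.Basic
import Cfsg.Agent.Lib.CoThreeRec.Count

/-!
# Evaluation of words of the double cover on points, for the coset certificate
-/

set_option autoImplicit false
set_option maxRecDepth 100000

namespace CfsgLib.CoThreeRec

open CfsgLib.LeechPSU

/-- Two codes give inverse permutations. -/
noncomputable def certPairB (c d : ℕ) : Bool :=
  (List.range 276).all fun a => Nat.blt (fieldAt c a) 276 && Nat.beq (fieldAt d (fieldAt c a)) a

theorem certPairs_ok : certPairB (codes.getD 0 0) (codes.getD 1 0) = true ∧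
    certPairB (codes.getD 1 0) (codes.getD 0 0) = true ∧ certPairB (codes.getD 2 0) (codes.getD 3 0) = true ∧
    certPairB (codes.getD 3 0) (codes.getD 2 0) = true := by
  refine ⟨?_, ?_, ?_, ?_⟩ <;> decide +kernel

theorem certPairB_spec {c d : ℕ} (h : certPairB c d = true) (a : Fin 276) :
    fieldAt c a < 276 ∧ fieldAt d (fieldAt c a) = a := by
  simp only [certPairB, List.all_eq_true, List.mem_range, Bool.and_eq_true, Nat.blt_eq, Nat.beq_eq] at h
  exact h a a.isLt

theorem certPairB_codePerm {c d : ℕ} (h : certPairB c d = true) (h' : certPairB d c = true) :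
    IsCode c (codePerm c) ∧ IsCode d (codePerm c)⁻¹ := by
  classical
  let σ : Equiv.Perm (Fin 276) :=
    { toFun := fun a => ⟨fieldAt c a, (certPairB_spec h a).1⟩
      invFun := fun a => ⟨fieldAt d a, (certPairB_spec h' a).1⟩
      left_inv := fun a => Fin.ext (certPairB_spec h a).2
      right_inv := fun a => Fin.ext (certPairB_spec h' a).2 }
  have hσ : IsCode c σ := fun _ => rfl
  have hc : ∃ τ : Equiv.Perm (Fin 276), IsCode c τ := ⟨σ, hσ⟩
  have he : codePerm c = σ := by
    rw [codePerm, dif_pos hc]
    exact isCode_unique hc.choose_spec hσ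
  rw [he]
  exact ⟨hσ, fun _ => rfl⟩

theorem certLetter_spec {l : ℕ} (hl : l < 4) :
    IsCode (codes.getD l 0) (letter l) ∧ letter (flipLetter l) = (letter l)⁻¹ := by
  obtain ⟨h01, h10, h23, h32⟩ := certPairs_ok
  have key : ∀ c d, certPairB c d = true → certPairB d c = true →
      IsCode c (codePerm c) ∧ codePerm d = (codePerm c)⁻¹ := fun c d h h' =>
    ⟨(certPairB_codePerm h h').1,
      isCode_unique (certPairB_codePerm h' h).1 (certPairB_codePerm h h').2⟩
  interval_cases l
  · exact key _ _ h01 h10
  · exact key _ _ h10 h01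
  · exact key _ _ h23 h32
  · exact key _ _ h32 h23

theorem certXm_flip {l : ℕ} (hl : l < 4) : xm (flipLetter l) = (xm l)⁻¹ := by
  have hf : flipLetter l < 4 := by unfold flipLetter; split_ifs <;> omega
  refine Subtype.ext ?_
  simp only [xm, dif_pos hl, dif_pos hf, Subgroup.coe_inv]
  exact (certLetter_spec hl).2

/-- The image of a point under a word of the cover; other letters act as the identity. -/
noncomputable def evalC (w : List ℕ) (a : ℕ) : ℕ :=
  w.foldr (fun l x => bif Nat.blt l 4 then fieldAt (codes.getD l 0) x else x) a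

theorem evalC_spec (w : List ℕ) (a : Fin 276) :
    ((((w.map xm).prod : Cm) : Equiv.Perm (Fin 276)) a : ℕ) = evalC w a := by
  induction w with
  | nil => rfl
  | cons l w ih =>
    rw [List.map_cons, List.prod_cons, Subgroup.coe_mul, Equiv.Perm.mul_apply]
    have e : evalC (l :: w) a = bif Nat.blt l 4 then fieldAt (codes.getD l 0) (evalC w a) else evalC w a := rfl
    rw [e, ← ih]
    by_cases hl : l < 4
    · rw [show Nat.blt l 4 = true by rw [Nat.blt_eq]; exact hl, cond_true, xm, dif_pos hl]
      exact (certLetter_spec hl).1 _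
    · rw [show Nat.blt l 4 = false by rw [← Bool.not_eq_true, Nat.blt_eq]; exact hl, cond_false, xm, dif_neg hl]
      rfl

/-- Points with trivial common stabiliser in the cover. -/
def certPts : List ℕ := [13, 2, 101, 57]

/-- An element of the cover is known from its effect on the points. -/
def PtsFaithful : Prop :=
  ∀ c : Cm, (∀ p : Fin 276, (p : ℕ) ∈ certPts → (c : Equiv.Perm (Fin 276)) p = p) → c = 1

/-- Two words agree on the points. -/
noncomputable def certEqB (u v : List ℕ) : Bool := certPts.all fun p => Nat.beq (evalC u p) (evalC v p)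

/-- The effect of a word on the points, as one number. -/
noncomputable def certSig (w : List ℕ) : ℕ := certPts.foldl (fun r p => r * 276 + evalC w p) 0

theorem certEqB_spec (hP : PtsFaithful) {u v : List ℕ} (h : certEqB u v = true) :
    (u.map xm).prod = (v.map xm).prod := by
  simp only [certEqB, List.all_eq_true, Nat.beq_eq] at h
  refine inv_mul_eq_one.1 (hP _ fun p hp => ?_)
  rw [Subgroup.coe_mul, Subgroup.coe_inv, Equiv.Perm.mul_apply, Equiv.Perm.inv_def, Equiv.symm_apply_eq]
  refine Fin.ext ?_
  rw [evalC_spec, evalC_spec]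
  exact (h p hp).symm

theorem certSig_spec (u v : List ℕ) (h : (u.map xm).prod = (v.map xm).prod) : certSig u = certSig v := by
  have key : ∀ p ∈ certPts, evalC u p = evalC v p := by
    intro p hp
    have hlt : p < 276 := by
      simp only [certPts, List.mem_cons, List.not_mem_nil, or_false] at hp
      omega
    rw [show p = ((⟨p, hlt⟩ : Fin 276) : ℕ) from rfl, ← evalC_spec, ← evalC_spec, h]
  unfold certSig
  exact List.foldl_ext _ _ _ fun r p hp => by rw [key p hp]

end CfsgLib.CoThreeRec
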