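import Cfsg.Agent.Lib.CoThreeRec.CertPrep
import Cfsg.Agent.Lib.CoThreeRec.CertDataSteps
import Cfsg.Agent.Lib.CoThreeRec.CertDataTable

/-!
# The system of the certificate and the run of its steps
-/

set_option autoImplicit false
set_option maxRecDepth 100000

namespace CfsgLib.CoThreeRec

/-- The system with the given pairs only. -/
def sys4 : Sys := ⟨certRels, certBase, certPairs4⟩

/-- The system of the certificate. -/
def certSys : Sys := ⟨certRels, certBase, certPairs4 ++ certDeriv.map fun e => (e.2.1, e.2.2)⟩

/-- The identities of the certificate. -/
def certIdents : List Ident := certIds.map fun e => ⟨e.1, e.2.1, e.2.2.1, e.2.2.2⟩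

/-- The derived pairs follow from the given ones. -/
noncomputable def derivB : Bool :=
  certDeriv.all fun e => e.1.all (fun i => Nat.blt i sys4.pairs.length) &&
    certEqB e.2.1 (sys4.dx e.1) && certEqB e.2.2 (sys4.dy e.1)

theorem derivB_ok : derivB = true := by decide +kernel

/-- The relators are those of the presentation, and the given pairs come from the first four. -/
def relsB : Bool :=
  decide (certBase.length = 7) && decide (certBase.getD 0 [] = []) &&
    decide (rels = (certPairs4.map fun e => [5] ++ e.1 ++ [4] ++ invWord e.2) ++
      (certRels.drop 4).map fun r => (r.map fun a => 4 :: a).flatten) &&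
    decide (certRels.take 4 = certPairs4.map fun e => [e.1, invWord e.2]) &&
    decide ([4, 4] ∈ rels) &&
    (certPairs4.all fun e => (e.1 ++ e.2).all fun l => Nat.blt l 4) &&
    ((certRels.drop 4).all fun r => r.all fun a => a.all fun l => Nat.blt l 4)

theorem relsB_ok : relsB = true := by decide +kernel

/-- The outcome of the steps, as plain data. -/
noncomputable def runTup : Option (List (ℕ × List ℕ × ℕ × List ℕ) × List (ℕ × List ℕ)) :=
  (runB certEqB certSys [] [] certSteps).map fun o => (o.1.map fun f => (f.j, f.c, f.k, f.e), o.2)

/-- The outcome is the recorded one. -/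
noncomputable def runTupB : Bool :=
  match runTup with
  | some o => decide (o.1 = certIds) && decide (o.2 = certSts)
  | none => false

theorem runTupB_ok : runTupB = true := by decide +kernel

theorem runTup_ok : runTup = some (certIds, certSts) := by
  have h := runTupB_ok
  unfold runTupB at h
  split at h
  · rename_i o ho
    simp only [Bool.and_eq_true, decide_eq_true_eq] at h
    rw [ho, ← h.1, ← h.2]
  · exact absurd h (by simp)

theorem certRun : runB certEqB certSys [] [] certSteps = some (certIdents, certSts) := by
  have h := runTup_ok
  simp only [runTup, Option.map_eq_some_iff, Prod.mk.injEq] at h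
  obtain ⟨⟨ids, sts⟩, ho, h1, h2⟩ := h
  rw [ho]
  congr 2
  simp [certIdents, ← h1, List.map_map, Function.comp_def]

end CfsgLib.CoThreeRec
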