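import Cfsg.Agent.Lib.CoThreeRec.CoverUnique
import Cfsg.Agent.Lib.Tails.SpSixThm
import Cfsg.Prelude.Def_SporadicB

/-!
# A non-split double cover of the symplectic group of dimension six over two elements

Every such group is the group of permutations of the 240 points: the model is a perfect central
extension by the swap, and the multiplier has order two.
-/

set_option autoImplicit false
set_option maxRecDepth 100000

namespace CfsgLib.CoThreeRec

open Subgroup CfsgLib.Schur.Tails.SpSix CfsgLib.TailsData
open scoped commutatorElement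

attribute [local irreducible] spLowBase spHighBase spMidBase spPairBase spHighSlp spHighZ spNbLists
  spNbMasks spLink

/-- The group on the 240 points. -/
noncomputable abbrev Cov : Subgroup (Equiv.Perm (Fin 240)) := gen 240 spHighBase

/-- The swap in the cover. -/
noncomputable def covZ : ↥Cov := ⟨swapP, commutator_le_self _ swap_mem⟩

theorem covZ_ne : covZ ≠ 1 := fun e1 => high_facts.2.2.2.2.2.1 (by
  have e2 := permC_apply swap_ok.1 (0 : Fin 240)
  rw [Fin.val_zero] at e2
  rw [← e2]
  show (swapP 0).val = 0
  rw [show swapP = 1 from congrArg Subtype.val e1]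
  rfl)

theorem covZ_sq : covZ * covZ = 1 := by
  refine Subtype.ext (Equiv.ext fun x => ?_)
  have key : ∀ y : Fin 240,
      (swapP y).val = if y.val % 2 = 0 then y.val + 1 else y.val - 1 := fun y => by
    rw [swapP, permC_apply swap_ok.1, swap_ok.2]
  refine Fin.ext ?_
  show (swapP (swapP x)).val = x.val
  rw [key, key]
  split_ifs <;> omega

theorem covZ_central : covZ ∈ center ↥Cov := mem_center_iff.2 fun g =>
  Subtype.ext (mem_centralizer_singleton_iff.1 (high_le g.2))

theorem exists_proj : ∃ σ : ↥Cov →* ↥phi.range, Function.Surjective σ ∧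
    ∀ k, σ k = 1 ↔ k = 1 ∨ k = covZ := by
  obtain ⟨e⟩ := mid_equiv
  let σ : ↥Cov →* phi.range :=
    (e.toMonoidHom.comp (MulEquiv.subgroupCongr down_range).toMonoidHom).comp down.rangeRestrict
  refine ⟨σ, (e.surjective.comp (MulEquiv.subgroupCongr down_range).surjective).comp
    down.rangeRestrict_surjective, fun k => ⟨fun hk => ?_, ?_⟩⟩
  · have e1 : down.rangeRestrict k = 1 := by
      apply (MulEquiv.subgroupCongr down_range).injective
      apply e.injective
      rw [map_one, map_one]
      exact hk
    rcases down_ker (congrArg Subtype.val e1) with h | h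
    · exact Or.inl (Subtype.ext h)
    · exact Or.inr (Subtype.ext h)
  · rintro (rfl | rfl)
    · exact map_one σ
    · have e1 : down covZ = 1 := Equiv.ext fun i => (half_swap (dbl i)).trans (half_dbl i)
      have e2 : down.rangeRestrict covZ = 1 := Subtype.ext e1
      rw [MonoidHom.comp_apply, e2, map_one]

theorem card_ker_two {E L : Type*} [Group E] [Group L] (π : E →* L) {z : E} (hz : z ≠ 1)
    (h : ∀ k, π k = 1 ↔ k = 1 ∨ k = z) : Nat.card π.ker = 2 := by
  rw [Nat.card_eq_two_iff]
  refine ⟨⟨1, one_mem _⟩, ⟨z, (h z).2 (Or.inr rfl)⟩, fun e => hz (congrArg Subtype.val e).symm, ?_⟩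
  refine Set.eq_univ_of_forall fun k => ?_
  rcases (h k.1).1 k.2 with e | e
  · exact Or.inl (Subtype.ext e)
  · exact Or.inr (Subtype.ext e)

theorem covZ_commutator : covZ ∈ commutator ↥Cov := by
  have e2 : (commutator ↥Cov).map Cov.subtype = ⁅Cov, Cov⁆ := by
    rw [_root_.commutator_def, map_commutator, ← MonoidHom.range_eq_map, range_subtype]
  obtain ⟨y, hy, hye⟩ := e2.symm.le swap_mem
  exact (show y = covZ from Subtype.ext hye) ▸ hy

/-- An extension of a perfect group whose kernel lies in the derived group is perfect. -/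
theorem perfect_of_ker {E L : Type*} [Group E] [Group L] (π : E →* L) (hπ : Function.Surjective π)
    (hL : commutator L = ⊤) (hk : π.ker ≤ commutator E) : commutator E = ⊤ := by
  have hmap : (commutator E).map π = ⊤ := by
    rw [_root_.commutator_def, map_commutator, Subgroup.map_top_of_surjective π hπ,
      ← _root_.commutator_def, hL]
  rw [eq_top_iff]
  intro x _
  obtain ⟨y, hy, hyx⟩ : π x ∈ (commutator E).map π := hmap ▸ mem_top _
  have : y⁻¹ * x ∈ π.ker := by rw [MonoidHom.mem_ker, map_mul, map_inv, hyx, inv_mul_cancel]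
  have := mul_mem hy (hk this)
  rwa [mul_inv_cancel_left] at this

theorem cov_perfect : commutator ↥Cov = ⊤ := by
  obtain ⟨σ, hs, hk⟩ := exists_proj
  refine perfect_of_ker σ hs range_simple.2 fun k hk' => ?_
  rcases (hk k).1 hk' with rfl | rfl
  · exact one_mem _
  · exact covZ_commutator

theorem card_cov : Nat.card ↥Cov = 2903040 := by
  obtain ⟨σ, hs, hk⟩ := exists_proj
  rw [σ.ker.card_eq_card_quotient_mul_card_subgroup,
    Nat.card_congr (QuotientGroup.quotientKerEquivOfSurjective σ hs).toEquiv, card_range,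
    card_ker_two σ covZ_ne hk]

theorem center_cov {k : ↥Cov} (h : k ∈ center ↥Cov) : k = 1 ∨ k = covZ := by
  obtain ⟨σ, hs, hk⟩ := exists_proj
  refine (hk k).1 ?_
  haveI := range_simple.1
  have hc : σ k ∈ center ↥phi.range := mem_center_iff.2 fun g => by
    obtain ⟨g, rfl⟩ := hs g
    rw [← map_mul, ← map_mul, mem_center_iff.1 h g]
  rcases (inferInstance : (center ↥phi.range).Normal).eq_bot_or_eq_top with hb | ht
  · rw [hb, mem_bot] at hc; exact hc
  · exfalso
    have hab : ∀ a b : ↥phi.range, a * b = b * a := fun a b =>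
      mem_center_iff.1 (ht ▸ mem_top b : b ∈ center ↥phi.range) a
    have h1 : commutator ↥phi.range = ⊥ := by
      rw [_root_.commutator_def, eq_bot_iff, commutator_le]
      intro a _ b _
      rw [mem_bot, commutatorElement_eq_one_iff_mul_comm]
      exact hab a b
    rw [range_simple.2] at h1
    exact absurd h1 top_ne_bot

/-- A non-split double cover of the symplectic group is the model, the involution of the centre
going to the swap. -/
theorem cover_iso {H : Type*} [Group H] [Finite H]
    (hH : Cfsg.IsNonsplitDoubleCover H (Matrix.symplecticGroup (Fin 3) (ZMod 2)))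
    {z : H} (hz : z ∈ center H) (hz1 : z ≠ 1) : ∃ e : ↥Cov ≃* H, e covZ = z := by
  obtain ⟨hcard, ⟨q⟩, hsplit⟩ := hH
  obtain ⟨n, ⟨f⟩⟩ := Finite.exists_equiv_fin H
  -- a copy in the lowest universe
  let ψ : H →* Equiv.Perm (Fin n) :=
    ((Equiv.permCongrHom f).toMonoidHom).comp (MulAction.toPermHom H H)
  have hψ : Function.Injective ψ := (Equiv.permCongrHom f).injective.comp MulAction.toPerm_injective
  let m : H ≃* ↥ψ.range := MonoidHom.ofInjective hψ
  let qk : Sp2 ≃* ↥phi.range := MonoidHom.ofInjective phi_injective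
  let τ0 : H →* ↥phi.range := qk.toMonoidHom.comp (q.toMonoidHom.comp (QuotientGroup.mk' (center H)))
  have hτ0 : Function.Surjective τ0 :=
    qk.surjective.comp (q.surjective.comp (QuotientGroup.mk'_surjective _))
  have hk0 : ∀ x, τ0 x = 1 ↔ x ∈ center H := fun x => by
    show qk (q (QuotientGroup.mk' _ x)) = 1 ↔ _
    rw [EmbeddingLike.map_eq_one_iff, EmbeddingLike.map_eq_one_iff, QuotientGroup.mk'_apply,
      QuotientGroup.eq_one_iff]
  have hcen : ∀ x, x ∈ center H ↔ x = 1 ∨ x = z := by
    obtain ⟨a, b, hab, huniv⟩ := Nat.card_eq_two_iff.1 hcard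
    intro x
    refine ⟨fun hx => ?_, by rintro (rfl | rfl); exacts [one_mem _, hz]⟩
    have key : ∀ u : center H, u = a ∨ u = b := fun u => by
      have : u ∈ ({a, b} : Set (center H)) := huniv ▸ Set.mem_univ u
      simpa using this
    rcases key ⟨x, hx⟩ with ea | ea <;> rcases key 1 with e1 | e1 <;> rcases key ⟨z, hz⟩ with ez | ez
    all_goals first
      | exact Or.inl (congrArg Subtype.val (ea.trans e1.symm))
      | exact Or.inr (congrArg Subtype.val (ea.trans ez.symm))
      | exact absurd (congrArg Subtype.val (ez.trans e1.symm)) hz1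
  have hperf : commutator H = ⊤ := by
    refine perfect_of_ker τ0 hτ0 range_simple.2 fun x hx => ?_
    by_contra hxc
    have hx' : x = z := ((hcen x).1 ((hk0 x).1 hx)).resolve_left fun e => hxc (e ▸ one_mem _)
    subst hx'
    refine hsplit (commutator H) (isComplement'_of_disjoint_and_mul_eq_univ ?_ ?_)
    · rw [disjoint_iff_inf_le]
      rintro y ⟨hy1, hy2⟩
      rcases (hcen y).1 hy1 with rfl | rfl
      · exact mem_bot.2 rfl
      · exact absurd hy2 hxc
    · refine Set.eq_univ_of_forall fun g => ?_
      have hmap : (commutator H).map τ0 = ⊤ := by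
        rw [_root_.commutator_def, map_commutator, Subgroup.map_top_of_surjective τ0 hτ0,
          ← _root_.commutator_def, range_simple.2]
      obtain ⟨c, hc, hcg⟩ : τ0 g ∈ (commutator H).map τ0 := hmap ▸ mem_top _
      exact ⟨g * c⁻¹, (hk0 _).1 (by rw [map_mul, map_inv, hcg, mul_inv_cancel]), c, hc,
        inv_mul_cancel_right g c⟩
  obtain ⟨σ, hs, hk⟩ := exists_proj
  let τ : ↥ψ.range →* ↥phi.range := τ0.comp m.symm.toMonoidHom
  have hτ : Function.Surjective τ := hτ0.comp m.symm.surjective
  have hkτ : ∀ k, τ k = 1 ↔ k = 1 ∨ k = m z := fun k => by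
    show τ0 (m.symm k) = 1 ↔ _
    rw [hk0, hcen, MulEquiv.symm_apply_eq, MulEquiv.symm_apply_eq, map_one]
  have hσc : σ.ker ≤ center ↥Cov := fun k hk' => by
    rcases (hk k).1 hk' with rfl | rfl
    · exact one_mem _
    · exact covZ_central
  have hτc : τ.ker ≤ center ↥ψ.range := fun k hk' => mem_center_iff.2 fun g => by
    obtain ⟨g, rfl⟩ := m.surjective g
    obtain ⟨y, rfl⟩ := m.surjective k
    have hy : y ∈ center H := (hk0 y).1 (by simpa [τ] using hk')
    rw [← map_mul, ← map_mul, mem_center_iff.1 hy g]
  have hperf' : commutator ↥ψ.range = ⊤ := by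
    rw [_root_.commutator_def, ← Subgroup.map_top_of_surjective m.toMonoidHom m.surjective,
      ← map_commutator, ← _root_.commutator_def, hperf,
      Subgroup.map_top_of_surjective m.toMonoidHom m.surjective]
  obtain ⟨e, he⟩ := exists_equiv σ τ hs hτ hσc hτc cov_perfect hperf' range_simple.2
    (card_ker_two σ covZ_ne hk)
    (card_ker_two τ (fun e => hz1 (m.injective (e.trans (map_one m).symm))) hkτ)
    (fun π hπ => (bound π hπ).2)
  refine ⟨e.trans m.symm, ?_⟩
  show m.symm (e covZ) = z
  rw [MulEquiv.symm_apply_eq]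
  refine ((hkτ _).1 ?_).resolve_left fun h => covZ_ne (e.injective (h.trans (map_one e).symm))
  rw [he]
  exact (hk covZ).2 (Or.inr rfl)

/-- Coordinates on the centraliser of an involution. -/
theorem exists_iota {G : Type*} [Group G] [Finite G] {t : G} (ht : orderOf t = 2)
    (hC : Cfsg.IsNonsplitDoubleCover (centralizer ({t} : Set G))
      (Matrix.symplecticGroup (Fin 3) (ZMod 2))) :
    ∃ ι : ↥Cov →* G, Function.Injective ι ∧ ι.range = centralizer ({t} : Set G) ∧ ι covZ = t := by
  have htm : t ∈ centralizer ({t} : Set G) := mem_centralizer_singleton_iff.2 rfl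
  have hz : (⟨t, htm⟩ : centralizer ({t} : Set G)) ∈ center _ := mem_center_iff.2 fun g =>
    Subtype.ext (mem_centralizer_singleton_iff.1 g.2)
  obtain ⟨e, he⟩ := cover_iso hC hz fun h => by
    have e1 : t = 1 := congrArg Subtype.val h
    rw [e1, orderOf_one] at ht
    omega
  refine ⟨(centralizer ({t} : Set G)).subtype.comp e.toMonoidHom,
    (subtype_injective _).comp e.injective, ?_, congrArg Subtype.val he⟩
  rw [MonoidHom.range_eq_map, ← map_map, ← MonoidHom.range_eq_map, MonoidHom.range_eq_top.2 e.surjective,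
    ← MonoidHom.range_eq_map, range_subtype]

end CfsgLib.CoThreeRec
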