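import Cfsg.Agent.Lib.Tails.SpSixChecks
import Cfsg.Agent.Lib.CoThreeRec.Basic
import Cfsg.Agent.Lib.CoThreeRec.CoordsData

/-!
# Checks of the centraliser in the model on 276 points
-/

set_option autoImplicit false
set_option maxRecDepth 100000
set_option Elab.async false

namespace CfsgLib.CoThreeRec

open CfsgLib.Golay CfsgLib.LeechPSU CfsgLib.Schur.Tails.SpSix CfsgLib.TailsData

/-- The group operations on the 240 moved points. -/
noncomputable abbrev opsSub : Bsgs.Ops (Equiv.Perm (Fin 240)) (Fin 240) :=
  CfsgLib.Schur.Tails.PermCover.ops 240 (by norm_num)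

/-- A level without its sifting table. -/
noncomputable def levelHeadB (fixed : List ℕ) (l : Bsgs.Lvl) (ls : List Bsgs.Lvl) : Bool :=
  let gs := l.gens ++ Bsgs.allGens ls
  opsSub.ptOk l.base &&
    decide (l.reps.head? = some opsSub.one) &&
    l.reps.all opsSub.ok &&
    decide (l.reps.map (fun r => opsSub.img r l.base)).Nodup &&
    l.gens.all (fun s => opsSub.ok s && fixed.all fun f => opsSub.img s f == f) &&
    decide (l.parent.length + 1 = l.reps.length) &&
    (List.range l.parent.length).all (fun k =>
      let c := l.parent.getD k (0, 0)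
      decide (c.1 < gs.length ∧ c.2 ≤ k) &&
        (l.reps.getD (k + 1) opsSub.one == opsSub.mul (gs.getD c.1 opsSub.one) (l.reps.getD c.2 opsSub.one)))

/-- A part of the sifting table of a level. -/
noncomputable def levelSiftB (l : Bsgs.Lvl) (ls : List Bsgs.Lvl) (m k : ℕ) : Bool :=
  let gs := l.gens ++ Bsgs.allGens ls
  (List.range gs.length).all fun g => !(Nat.beq (g % m) k) || (List.range l.reps.length).all fun i =>
    opsSub.mul (gs.getD g opsSub.one) (l.reps.getD i opsSub.one) ==
      Bsgs.prodReps opsSub (l :: ls) ((l.sift.getD g []).getD i [])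

/-- A chain from its levels. -/
theorem check_of_parts {fixed : List ℕ} {l : Bsgs.Lvl} {ls : List Bsgs.Lvl} {m : ℕ} (hm : 0 < m)
    (h1 : levelHeadB fixed l ls = true) (h2 : ∀ k < m, levelSiftB l ls m k = true)
    (h3 : Bsgs.check opsSub (fixed ++ [l.base]) ls = true) : Bsgs.check opsSub fixed (l :: ls) = true := by
  simp only [levelHeadB, Bool.and_eq_true] at h1
  simp only [Bsgs.check, Bool.and_eq_true]
  refine ⟨⟨h1, ?_⟩, h3⟩
  rw [List.all_eq_true]
  intro g hg
  have h := List.all_eq_true.1 (h2 (g % m) (Nat.mod_lt _ hm)) g hg
  simpa only [Nat.beq_refl, Bool.not_true, Bool.false_or] using h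

/-- The first level. -/
abbrev subHead : Bsgs.Lvl := subLevels.getD 0 ⟨0, [], [], [], []⟩

theorem sub_head : levelHeadB [] subHead (subLevels.drop 1) = true := by decide +kernel

theorem sub_sift0 : levelSiftB subHead (subLevels.drop 1) 6 0 = true := by decide +kernel

theorem sub_sift1 : levelSiftB subHead (subLevels.drop 1) 6 1 = true := by decide +kernel

theorem sub_sift2 : levelSiftB subHead (subLevels.drop 1) 6 2 = true := by decide +kernel

theorem sub_sift3 : levelSiftB subHead (subLevels.drop 1) 6 3 = true := by decide +kernel

theorem sub_sift4 : levelSiftB subHead (subLevels.drop 1) 6 4 = true := by decide +kernel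

theorem sub_sift5 : levelSiftB subHead (subLevels.drop 1) 6 5 = true := by decide +kernel

theorem sub_rest : Bsgs.check opsSub [subHead.base] (subLevels.drop 1) = true := by decide +kernel

theorem sub_other : (Bsgs.slpCheck opsSub subBase subSlp && subBase.all opsSub.ok &&
    (subBase.all fun b => (Bsgs.allGens subLevels).contains b) &&
    ((Bsgs.allGens subLevels).all fun g => (subBase ++ subSlp.map (·.1)).contains g) &&
    decide ((subLevels.map fun l => l.reps.length).prod = 2903040)) = true := by decide +kernel

theorem sub_chain : chainB 240 (by norm_num) subBase subLevels subSlp 2903040 = true := by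
  have e : subLevels = subHead :: subLevels.drop 1 := rfl
  have hc : Bsgs.check opsSub [] subLevels = true := by
    rw [e]
    refine check_of_parts (m := 6) (by norm_num) sub_head (fun k hk => ?_) sub_rest
    interval_cases k
    exacts [sub_sift0, sub_sift1, sub_sift2, sub_sift3, sub_sift4, sub_sift5]
  have h := sub_other
  simp only [Bool.and_eq_true] at h
  simp only [chainB, Bool.and_eq_true]
  exact ⟨⟨⟨⟨⟨hc, h.1.1.1.1⟩, h.1.1.1.2⟩, h.1.1.2⟩, h.1.2⟩, h.2⟩

theorem pair_chain : chainB 156 (by norm_num) pairBase pairLevels pairSlp 1451520 = true := by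
  decide +kernel

theorem sub_pairs : subBase.map (fun g => (List.range 120).map fun i => PackPerm.getP g (2 * i) / 2) =
    spMidBase.map (PackPerm.toL 120) := by decide +kernel

theorem sub_swap : (subBase.all fun g =>
    PackPerm.mulP 240 g spHighZ == PackPerm.mulP 240 spHighZ g) = true := by decide +kernel

theorem sub_comm : ([subU, subV].all fun c => (subBase ++ subSlp.map (·.1)).contains c) = true ∧
    (PackPerm.mulP 240 spHighZ (PackPerm.mulP 240 subV subU) == PackPerm.mulP 240 subU subV) = true := by
  decide +kernel

/-- A letter is a code of a permutation of the 276 points. -/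
noncomputable def validB (l : ℕ) : Bool :=
  decide ((List.range 276).map fun a => fieldAt (codes.getD l 0) a).Nodup &&
    (List.range 276).all fun a => Nat.blt (fieldAt (codes.getD l 0) a) 276

theorem letters_valid : ((List.range 4).all validB) = true := by decide +kernel

theorem letters_inverse : ([0, 2].all fun l => (List.range 276).all fun a =>
    Nat.beq (evalPt [l, l + 1] a) a && Nat.beq (evalPt [l + 1, l] a) a) = true := by
  decide +kernel

/-- The two generators act on the moved points and on the pairs as listed. -/
noncomputable def matchB (l : ℕ) : Bool :=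
  ((List.range 240).all fun i => Nat.beq (fieldAt (codes.getD (2 * l) 0) (embPts.getD i 0))
      (embPts.getD (PackPerm.getP (subBase.getD l 0) i) 0)) &&
    (List.range 276).all fun a => Nat.beq (ptPairs.getD (fieldAt (codes.getD (2 * l) 0) a) 0)
      (PackPerm.getP (pairBase.getD l 0) (ptPairs.getD a 0))

theorem gens_match : ([0, 1].all matchB) = true := by decide +kernel

theorem points_facts : decide (embPts.Nodup) = true ∧ (embPts.all fun x => Nat.blt x 276) = true ∧
    embPts.length = 240 ∧ (ptPairs.all fun x => Nat.blt x 156) = true ∧ ptPairs.length = 276 ∧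
    ((List.range 240).all fun i => Nat.beq (ptPairs.getD (embPts.getD i 0) 0) (i / 2)) = true ∧
    ((List.range 276).all fun a => Nat.blt (ptPairs.getD a 0) 120 &&
      (Nat.beq (embPts.getD (2 * ptPairs.getD a 0) 0) a || Nat.beq (embPts.getD (2 * ptPairs.getD a 0 + 1) 0) a) ||
      (List.range 276).all fun b => !Nat.beq (ptPairs.getD a 0) (ptPairs.getD b 0) || Nat.beq a b) = true ∧
    (pairLevels.all fun l => Nat.blt l.base 120) = true := by
  refine ⟨?_, ?_, ?_, ?_, ?_, ?_, ?_, ?_⟩ <;> decide +kernel

theorem tm_swap : (((List.range 240).all fun i =>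
    Nat.beq (evalPt tWord (embPts.getD i 0)) (embPts.getD (PackPerm.getP spHighZ i) 0)) &&
    (List.range 276).all fun a => Nat.beq (ptPairs.getD (evalPt tWord a) 0) (ptPairs.getD a 0)) = true := by
  decide +kernel

end CfsgLib.CoThreeRec
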