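import Cfsg.Agent.Lib.CoThreeRec.BaseFix
import Cfsg.Agent.Lib.CoThreeRec.Coords
import Cfsg.Agent.Lib.CoThreeRec.CoordsCheck

/-!
# The double cover inside the model, and coordinates on the centraliser

The group generated by the first two letters is faithful on the 240 moved points, where a chain
gives its order; on the pairs it is the symplectic group, so it is the double cover.
-/

set_option autoImplicit false
set_option maxRecDepth 100000

namespace CfsgLib.CoThreeRec

open CfsgLib.Golay CfsgLib.LeechPSU CfsgLib.Schur.Tails CfsgLib.Schur.Tails.SpSix CfsgLib.TailsData Subgroup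
open scoped commutatorElement

attribute [local irreducible] subBase subLevels subSlp subU subV pairBase pairLevels pairSlp embPts ptPairs
  codes spHighZ spMidBase

/-- The points separating the elements of the double cover. -/
def basePts : List ℕ := [13, 2, 101, 57]

theorem points_lt : (∀ i < 240, embPts.getD i 0 < 276) ∧ ∀ a < 276, ptPairs.getD a 0 < 156 := by
  obtain ⟨-, h2, h3, h4, h5, -⟩ := points_facts
  simp only [List.all_eq_true, Nat.blt_eq] at h2 h4
  refine ⟨fun i hi => ?_, fun a ha => ?_⟩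
  · rw [List.getD_eq_getElem _ _ (show _ < _ by rw [h3]; exact hi)]; exact h2 _ (List.getElem_mem _)
  · rw [List.getD_eq_getElem _ _ (show _ < _ by rw [h5]; exact ha)]; exact h4 _ (List.getElem_mem _)

/-- A moved point. -/
def emb (i : Fin 240) : Fin 276 := ⟨embPts.getD i.val 0, points_lt.1 i.val i.isLt⟩

/-- The pair or fixed point of a point. -/
def qmap (a : Fin 276) : Fin 156 := ⟨ptPairs.getD a.val 0, points_lt.2 a.val a.isLt⟩

theorem emb_injective : Function.Injective emb := by
  intro i j e
  have hd := of_decide_eq_true points_facts.1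
  have e' := congrArg Fin.val e
  simp only [emb] at e'
  have hi : i.val < embPts.length := by rw [points_facts.2.2.1]; exact i.isLt
  have hj : j.val < embPts.length := by rw [points_facts.2.2.1]; exact j.isLt
  rw [List.getD_eq_getElem _ _ hi, List.getD_eq_getElem _ _ hj] at e'
  exact Fin.ext ((hd.getElem_inj_iff).1 e')

theorem qmap_emb (i : Fin 240) : (qmap (emb i)).val = i.val / 2 := by
  have h := points_facts.2.2.2.2.2.1
  simp only [List.all_eq_true, List.mem_range, Nat.beq_eq] at h
  exact h i.val i.isLt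

theorem isCode_codePerm {c : ℕ} (hn : ((List.range 276).map fun a => fieldAt c a).Nodup)
    (hlt : ∀ a < 276, fieldAt c a < 276) : IsCode c (codePerm c) := by
  have hex : ∃ σ : Equiv.Perm (Fin 276), IsCode c σ := by
    let f : Fin 276 → Fin 276 := fun a => ⟨fieldAt c a, hlt a a.isLt⟩
    have hf : Function.Injective f := fun a b e => Fin.ext
      (List.inj_on_of_nodup_map hn (List.mem_range.2 a.isLt) (List.mem_range.2 b.isLt)
        (congrArg Fin.val e))
    exact ⟨Equiv.ofBijective f (Finite.injective_iff_bijective.1 hf), fun a => rfl⟩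
  rw [codePerm, dif_pos hex]
  exact hex.choose_spec

theorem isCode_letter {l : ℕ} (hl : l < 4) : IsCode (codes.getD l 0) (letter l) := by
  have h := List.all_eq_true.1 letters_valid l (List.mem_range.2 hl)
  simp only [validB, Bool.and_eq_true, decide_eq_true_eq, List.all_eq_true, List.mem_range,
    Nat.blt_eq] at h
  exact isCode_codePerm h.1 h.2

theorem coe_xm {l : ℕ} (hl : l < 4) : ((xm l : Cm) : Equiv.Perm (Fin 276)) = letter l := by
  rw [xm, dif_pos hl]

theorem coe_ev_apply : ∀ {w : List ℕ}, (∀ l ∈ w, l < 4) → ∀ a : Fin 276,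
    (((ev xm w : Cm) : Equiv.Perm (Fin 276)) a : ℕ) = evalPt w a
  | [], _, a => rfl
  | l :: w, hw, a => by
    have ih := coe_ev_apply (fun k hk => hw k (List.mem_cons_of_mem _ hk)) (w := w) a
    rw [show ev xm (l :: w) = xm l * ev xm w by simp [ev], Subgroup.coe_mul, Equiv.Perm.mul_apply,
      coe_xm (hw l List.mem_cons_self), isCode_letter (hw l List.mem_cons_self), ih]
    rfl

theorem letter_flip {l : ℕ} (hl : l ∈ [0, 2]) : letter (l + 1) = (letter l)⁻¹ := by
  refine eq_inv_of_mul_eq_one_right (Equiv.ext fun a => Fin.ext ?_)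
  have h := List.all_eq_true.1 letters_inverse l hl
  simp only [List.all_eq_true, List.mem_range, Bool.and_eq_true, Nat.beq_eq] at h
  have hlt : l < 4 ∧ l + 1 < 4 := by
    simp only [List.mem_cons, List.not_mem_nil, or_false] at hl; omega
  rw [Equiv.Perm.mul_apply, Equiv.Perm.one_apply, isCode_letter hlt.1, isCode_letter hlt.2]
  exact (h a.val a.isLt).1

/-- The generators as triples. -/
noncomputable def tripleGen (l : Fin 2) :
    Equiv.Perm (Fin 276) × Equiv.Perm (Fin 240) × Equiv.Perm (Fin 156) :=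
  (letter (2 * l.val), permC 240 (subBase.getD l.val 0), permC 156 (pairBase.getD l.val 0))

/-- The triples. -/
noncomputable def Tri : Subgroup (Equiv.Perm (Fin 276) × Equiv.Perm (Fin 240) × Equiv.Perm (Fin 156)) :=
  closure (Set.range tripleGen)

theorem base_len : subBase.length = 2 ∧ pairBase.length = 2 := by
  refine ⟨?_, ?_⟩
  · unfold subBase; rfl
  · unfold pairBase; rfl

theorem tri_spec : ∀ p ∈ Tri, (∀ i, p.1 (emb i) = emb (p.2.1 i)) ∧
    ∀ a, qmap (p.1 a) = p.2.2 (qmap a) := by
  intro p hp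
  induction hp using Subgroup.closure_induction with
  | mem x hx =>
    obtain ⟨l, rfl⟩ := hx
    have hm := List.all_eq_true.1 gens_match l.val (by revert l; decide)
    simp only [matchB, Bool.and_eq_true, List.all_eq_true, List.mem_range, Nat.beq_eq] at hm
    have ok1 : PackPerm.okP 240 (subBase.getD l.val 0) = true := by
      rw [List.getD_eq_getElem _ _ (show l.val < subBase.length by rw [base_len.1]; exact l.isLt)]
      exact (chain_spec sub_chain).2.2 _ (List.getElem_mem _)
    have ok2 : PackPerm.okP 156 (pairBase.getD l.val 0) = true := by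
      rw [List.getD_eq_getElem _ _ (show l.val < pairBase.length by rw [base_len.2]; exact l.isLt)]
      exact (chain_spec pair_chain).2.2 _ (List.getElem_mem _)
    have hl : 2 * l.val < 4 := by omega
    refine ⟨fun i => Fin.ext ?_, fun a => Fin.ext ?_⟩
    · show (letter (2 * l.val) (emb i)).val =
        embPts.getD (permC 240 (subBase.getD l.val 0) i).val 0
      rw [isCode_letter hl, permC_apply ok1]
      exact hm.1 i.val i.isLt
    · show ptPairs.getD (letter (2 * l.val) a).val 0 =
        (permC 156 (pairBase.getD l.val 0) (qmap a)).val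
      rw [isCode_letter hl, permC_apply ok2]
      exact hm.2 a.val a.isLt
  | one => exact ⟨fun i => rfl, fun a => rfl⟩
  | mul x y _ _ hx hy =>
    refine ⟨fun i => ?_, fun a => ?_⟩
    · show x.1 (y.1 (emb i)) = emb (x.2.1 (y.2.1 i))
      rw [hy.1, hx.1]
    · show qmap (x.1 (y.1 a)) = x.2.2 (y.2.2 (qmap a))
      rw [hx.2, hy.2]
  | inv x _ hx =>
    refine ⟨fun i => ?_, fun a => ?_⟩
    · show x.1⁻¹ (emb i) = emb (x.2.1⁻¹ i)
      rw [Equiv.Perm.inv_eq_iff_eq, hx.1]
      simp
    · show qmap (x.1⁻¹ a) = x.2.2⁻¹ (qmap a)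
      rw [Equiv.Perm.eq_inv_iff_eq, ← hx.2]
      simp

theorem tri_fst : Tri.map (MonoidHom.fst _ _) = Cm := by
  refine le_antisymm ?_ ((closure_le _).2 ?_)
  · rw [Tri, MonoidHom.map_closure, closure_le]
    rintro _ ⟨_, ⟨l, rfl⟩, rfl⟩
    exact subset_closure ⟨⟨2 * l.val, by omega⟩, rfl⟩
  · rintro _ ⟨l, rfl⟩
    have h0 : ∀ k : Fin 2, letter (2 * k.val) ∈ Tri.map (MonoidHom.fst _ _) := fun k =>
      ⟨_, subset_closure ⟨k, rfl⟩, rfl⟩
    fin_cases l
    · exact h0 0
    · show letter (0 + 1) ∈ _
      rw [letter_flip (by simp)]; exact inv_mem (h0 0)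
    · exact h0 1
    · show letter (2 + 1) ∈ _
      rw [letter_flip (by simp)]; exact inv_mem (h0 1)

/-- The double cover on the moved points. -/
noncomputable abbrev Sub : Subgroup (Equiv.Perm (Fin 240)) := gen 240 subBase

theorem tri_second : ∀ p ∈ Tri, p.2.1 ∈ Sub ∧ p.2.2 ∈ gen 156 pairBase := by
  intro p hp
  induction hp using Subgroup.closure_induction with
  | mem x hx =>
    obtain ⟨l, rfl⟩ := hx
    refine ⟨subset_closure ⟨_, ?_, rfl⟩, subset_closure ⟨_, ?_, rfl⟩⟩
    · rw [List.getD_eq_getElem _ _ (show l.val < subBase.length by rw [base_len.1]; exact l.isLt)]; exact List.getElem_mem _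
    · rw [List.getD_eq_getElem _ _ (show l.val < pairBase.length by rw [base_len.2]; exact l.isLt)]; exact List.getElem_mem _
  | one => exact ⟨one_mem _, one_mem _⟩
  | mul x y _ _ hx hy => exact ⟨mul_mem hx.1 hy.1, mul_mem hx.2 hy.2⟩
  | inv x _ hx => exact ⟨inv_mem hx.1, inv_mem hx.2⟩

theorem fix_bases {k : ℕ} [NeZero k] {hk : k ≤ 256} {base : List ℕ} {levels : List Bsgs.Lvl}
    {stp : List (ℕ × Bool × ℕ × ℕ)} {total : ℕ} (h : chainB k hk base levels stp total = true)
    {g : Equiv.Perm (Fin k)} (hg : g ∈ gen k base)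
    (hb : ∀ l ∈ levels, g (Fin.ofNat k l.base) = Fin.ofNat k l.base) : g = 1 := by
  have he := (chain_spec h).1
  simp only [chainB, Bool.and_eq_true] at h
  exact eq_one_of_fix_bases (PermCover.ops k hk) (fun f hf => absurd hf List.not_mem_nil) h.1.1.1.1.1
    g (he.symm ▸ hg) fun l hl => hb l hl

theorem sub_bases : (subLevels.all fun l =>
    decide (l.base < 240) && basePts.contains (embPts.getD l.base 0)) = true := by
  decide +kernel

/-- A triple whose first part fixes the base points is trivial. -/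
theorem tri_one {p : Equiv.Perm (Fin 276) × Equiv.Perm (Fin 240) × Equiv.Perm (Fin 156)} (hp : p ∈ Tri)
    (h : ∀ i : Fin 240, (emb i).val ∈ basePts → p.2.1 i = i) : p = 1 := by
  obtain ⟨h1, h2⟩ := tri_spec p hp
  obtain ⟨m1, m2⟩ := tri_second p hp
  have e1 : p.2.1 = 1 := by
    refine fix_bases sub_chain m1 fun l hl => h _ ?_
    have := List.all_eq_true.1 sub_bases l hl
    simp only [Bool.and_eq_true, decide_eq_true_eq, List.contains_iff_mem] at this
    show embPts.getD (Fin.ofNat 240 l.base).val 0 ∈ basePts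
    rw [Fin.val_ofNat, Nat.mod_eq_of_lt this.1]
    exact this.2
  have e0 : ∀ i, p.1 (emb i) = emb i := fun i => by rw [h1, e1]; rfl
  have e2 : p.2.2 = 1 := by
    refine fix_bases pair_chain m2 fun l hl => ?_
    have hlt := List.all_eq_true.1 points_facts.2.2.2.2.2.2.2 l hl
    rw [Nat.blt_eq] at hlt
    have e : Fin.ofNat 156 l.base = qmap (emb ⟨2 * l.base, by omega⟩) := Fin.ext (by
      rw [qmap_emb, Fin.val_ofNat, Nat.mod_eq_of_lt (by omega : l.base < 156)]
      show l.base = 2 * l.base / 2
      omega)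
    rw [e, ← h2, e0]
  refine Prod.ext (Equiv.ext fun a => ?_) (Prod.ext e1 e2)
  have h7 := List.all_eq_true.1 points_facts.2.2.2.2.2.2.1 a.val (List.mem_range.2 a.isLt)
  simp only [Bool.or_eq_true, Bool.and_eq_true, Nat.blt_eq, Nat.beq_eq, List.all_eq_true,
    List.mem_range, Bool.not_eq_true'] at h7
  rcases h7 with ⟨hlt, hx⟩ | hu
  · rcases hx with e | e
    · have := e0 ⟨2 * ptPairs.getD a.val 0, by omega⟩
      rwa [show emb ⟨2 * ptPairs.getD a.val 0, _⟩ = a from Fin.ext e] at this
    · have := e0 ⟨2 * ptPairs.getD a.val 0 + 1, by omega⟩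
      rwa [show emb ⟨2 * ptPairs.getD a.val 0 + 1, _⟩ = a from Fin.ext e] at this
  · have hq : qmap (p.1 a) = qmap a := by rw [h2, e2]; rfl
    rcases hu (p.1 a).val (p.1 a).isLt with e | e
    · exact absurd (congrArg Fin.val hq).symm (Nat.ne_of_beq_eq_false e)
    · exact Fin.ext e.symm

/-- An element of the cover fixing the base points is trivial. -/
theorem eq_one_of_fix (c : Cm)
    (h : ∀ p : Fin 276, (p : ℕ) ∈ basePts → (c : Equiv.Perm (Fin 276)) p = p) : c = 1 := by
  obtain ⟨p, hp, e⟩ : (c : Equiv.Perm (Fin 276)) ∈ Tri.map (MonoidHom.fst _ _) := tri_fst.symm ▸ c.2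
  have hp1 : p = 1 := tri_one hp fun i hi => emb_injective (by
    rw [← (tri_spec p hp).1, show p.1 = (c : Equiv.Perm (Fin 276)) from e]
    exact h _ hi)
  exact Subtype.ext (e.symm.trans (by rw [hp1]; rfl))

/-- Two words agreeing on the base points are equal in the cover. -/
theorem ev_eq_of_pts {u v : List ℕ} (hu : ∀ l ∈ u, l < 4) (hv : ∀ l ∈ v, l < 4)
    (h : basePts.all (fun a => Nat.beq (evalPt u a) (evalPt v a)) = true) : ev xm u = ev xm v := by
  rw [eq_comm, ← inv_mul_eq_one]
  refine eq_one_of_fix _ fun p hp => ?_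
  simp only [List.all_eq_true, Nat.beq_eq] at h
  have e : ((ev xm v : Cm) : Equiv.Perm (Fin 276)) p = ((ev xm u : Cm) : Equiv.Perm (Fin 276)) p :=
    Fin.ext (by rw [coe_ev_apply hv, coe_ev_apply hu]; exact (h p.val hp).symm)
  rw [Subgroup.coe_mul, Subgroup.coe_inv, Equiv.Perm.mul_apply, ← e, Equiv.Perm.inv_def,
    Equiv.symm_apply_apply]

theorem exists_equiv_sub : ∃ f : Cm ≃* Sub, ∀ (c : Cm) (i : Fin 240),
    (c : Equiv.Perm (Fin 276)) (emb i) = emb ((f c : Equiv.Perm (Fin 240)) i) := by
  let π1 : Tri →* Cm := ((MonoidHom.fst _ _).comp Tri.subtype).codRestrict Cm fun p =>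
    tri_fst ▸ mem_map_of_mem _ p.2
  let π2 : Tri →* Sub :=
    (((MonoidHom.fst _ _).comp (MonoidHom.snd _ _)).comp Tri.subtype).codRestrict Sub fun p =>
      (tri_second p.1 p.2).1
  have b1 : Function.Bijective π1 := by
    refine ⟨(injective_iff_map_eq_one π1).2 fun p hp => ?_, fun c => ?_⟩
    · refine Subtype.ext (tri_one p.2 fun i _ => emb_injective ?_)
      rw [← (tri_spec p.1 p.2).1, show p.1.1 = 1 from congrArg Subtype.val hp]
      rfl
    · obtain ⟨p, hp, e⟩ : (c : Equiv.Perm (Fin 276)) ∈ Tri.map (MonoidHom.fst _ _) := tri_fst.symm ▸ c.2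
      exact ⟨⟨p, hp⟩, Subtype.ext e⟩
  have b2 : Function.Bijective π2 := by
    refine ⟨(injective_iff_map_eq_one π2).2 fun p hp => ?_, fun c => ?_⟩
    · refine Subtype.ext (tri_one p.2 fun i _ => ?_)
      rw [show p.1.2.1 = 1 from congrArg Subtype.val hp]
      rfl
    · have : Sub ≤ (π2.range).map Sub.subtype := by
        refine (closure_le _).2 ?_
        rintro _ ⟨b, hb, rfl⟩
        obtain ⟨i, hi, rfl⟩ := List.getElem_of_mem hb
        have hi2 : i < 2 := by rw [← base_len.1]; exact hi
        refine ⟨_, ⟨⟨tripleGen ⟨i, hi2⟩, subset_closure ⟨_, rfl⟩⟩, rfl⟩, ?_⟩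
        show permC 240 (subBase.getD i 0) = _
        rw [List.getD_eq_getElem _ _ hi]
      obtain ⟨_, ⟨p, rfl⟩, e⟩ := this c.2
      exact ⟨p, Subtype.ext e⟩
  refine ⟨(MulEquiv.ofBijective π1 b1).symm.trans (MulEquiv.ofBijective π2 b2), fun c i => ?_⟩
  obtain ⟨p, rfl⟩ := b1.2 c
  rw [MulEquiv.trans_apply, show (MulEquiv.ofBijective π1 b1).symm (π1 p) = p by
    rw [MulEquiv.symm_apply_eq]; rfl]
  exact (tri_spec p.1 p.2).1 i

/-- The order of the double cover. -/
theorem card_Cm : Nat.card Cm = 2903040 := by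
  obtain ⟨f, -⟩ := exists_equiv_sub
  rw [Nat.card_congr f.toEquiv, (chain_spec sub_chain).2.1]

attribute [local irreducible] PackPerm.mulP in
theorem sub_le : Sub ≤ centralizer {swapP} := by
  refine (closure_le _).2 ?_
  rintro _ ⟨b, hb, rfl⟩
  have hbok := (chain_spec sub_chain).2.2 b hb
  have hc := List.all_eq_true.1 sub_swap b hb
  rw [beq_iff_eq] at hc
  have hm : ∀ x y, ops240.mul x y = PackPerm.mulP 240 x y := fun x y => rfl
  refine mem_centralizer_singleton_iff.2 ?_
  rw [swapP, ← val_eq (k := 240) (by norm_num) b, ← val_eq (k := 240) (by norm_num) spHighZ,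
    ← ops240.val_mul _ _ hbok swap_ok.1, ← ops240.val_mul _ _ swap_ok.1 hbok, hm, hm, hc]

/-- The projection to the pairs. -/
noncomputable def downSub : Sub →* Equiv.Perm (Fin 120) := onPairs.comp (Subgroup.inclusion sub_le)

theorem downSub_range : downSub.range = gen 120 spMidBase := by
  have key : ∀ b ∈ subBase, ∀ hb : permC 240 b ∈ Sub, downSub ⟨permC 240 b, hb⟩ =
      permOf (Equiv.refl (Fin 120)) ((List.range 120).map fun i => PackPerm.getP b (2 * i) / 2) := by
    intro b hbm hb
    have hm : ((List.range 120).map fun i => PackPerm.getP b (2 * i) / 2) ∈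
        spMidBase.map (PackPerm.toL 120) :=
      sub_pairs ▸ List.mem_map_of_mem (f := fun g => (List.range 120).map fun i => PackPerm.getP g (2 * i) / 2) hbm
    obtain ⟨c, hc, e⟩ := List.mem_map.1 hm
    have hv : validL 120 ((List.range 120).map fun i => PackPerm.getP b (2 * i) / 2) = true :=
      e ▸ PackPerm.validL_of_okP (List.all_eq_true.1 mid_nontrivial.2 c hc)
    refine Equiv.ext fun i => Fin.ext ?_
    have e2 := permOf_apply (Equiv.refl (Fin 120)) hv i
    simp only [Equiv.refl_apply] at e2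
    show (permC 240 b (dbl i)).val / 2 = _
    rw [e2, permC_apply ((chain_spec sub_chain).2.2 b hbm), List.getD_eq_getElem _ _ (by simp)]
    simp [dbl]
  have hdom : (⊤ : Subgroup Sub) = closure (Sub.subtype ⁻¹' {g | ∃ b ∈ subBase, permC 240 b = g}) := by
    exact (closure_closure_coe_preimage).symm
  rw [MonoidHom.range_eq_map, hdom, MonoidHom.map_closure, gen]
  congr 1
  ext g
  constructor
  · rintro ⟨⟨_, hx⟩, ⟨b, hbm, rfl⟩, rfl⟩
    have hm : ((List.range 120).map fun i => PackPerm.getP b (2 * i) / 2) ∈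
        spMidBase.map (PackPerm.toL 120) :=
      sub_pairs ▸ List.mem_map_of_mem (f := fun g => (List.range 120).map fun i => PackPerm.getP g (2 * i) / 2) hbm
    obtain ⟨c, hc, e⟩ := List.mem_map.1 hm
    exact ⟨c, hc, ((key b hbm hx).trans (congrArg (permOf (Equiv.refl (Fin 120))) e.symm)).symm⟩
  · rintro ⟨c, hc, rfl⟩
    have hm : PackPerm.toL 120 c ∈
        subBase.map (fun g => (List.range 120).map fun i => PackPerm.getP g (2 * i) / 2) :=
      sub_pairs.symm ▸ List.mem_map_of_mem hc
    obtain ⟨b, hbm, e⟩ := List.mem_map.1 hm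
    exact ⟨⟨permC 240 b, subset_closure ⟨b, hbm, rfl⟩⟩, ⟨b, hbm, rfl⟩,
      (key b hbm _).trans (congrArg (permOf (Equiv.refl (Fin 120))) e)⟩

theorem swap_mem_sub : swapP ∈ ⁅Sub, Sub⁆ := by
  have hb : ∀ c ∈ subBase, ops240.ok c = true ∧ ops240.val c ∈ Sub := fun c hc =>
    ⟨(chain_spec sub_chain).2.2 c hc,
      subset_closure ⟨c, hc, (val_eq (k := 240) (by norm_num) c).symm⟩⟩
  have hs : Bsgs.slpCheck ops240 subBase subSlp = true := by
    have := sub_chain
    simp only [chainB, Bool.and_eq_true] at this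
    exact this.1.1.1.1.2
  obtain ⟨hc, hm⟩ := sub_comm
  simp only [List.all_eq_true, List.contains_iff_mem] at hc
  obtain ⟨okU, memU⟩ := Bsgs.slp_sound ops240 _ hs hb _ (hc subU (List.mem_cons_self ..))
  obtain ⟨okV, memV⟩ :=
    Bsgs.slp_sound ops240 _ hs hb _ (hc subV (List.mem_cons_of_mem _ (List.mem_cons_self ..)))
  have e := congrArg ops240.val (beq_iff_eq.1 hm)
  change ops240.val (ops240.mul spHighZ (ops240.mul subV subU)) = ops240.val (ops240.mul subU subV) at e
  rw [ops240.val_mul _ _ swap_ok.1 (ops240.ok_mul _ _ okV okU), ops240.val_mul _ _ okV okU,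
    ops240.val_mul _ _ okU okV] at e
  have : swapP = ⁅ops240.val subU, ops240.val subV⁆ := by
    rw [swapP, ← val_eq (k := 240) (by norm_num) spHighZ, commutatorElement_def, eq_mul_inv_iff_mul_eq,
      eq_mul_inv_iff_mul_eq, mul_assoc]
    exact e
  rw [this]
  exact commutator_mem_commutator memU memV

/-- The swap in the cover on the moved points. -/
noncomputable def subZ : Sub := ⟨swapP, commutator_le_self _ swap_mem_sub⟩

theorem cov_equiv_sub : ∃ e : ↥Cov ≃* Sub, e covZ = subZ := by
  obtain ⟨q⟩ := mid_equiv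
  let τ : Sub →* ↥phi.range :=
    (q.toMonoidHom.comp (MulEquiv.subgroupCongr downSub_range).toMonoidHom).comp downSub.rangeRestrict
  have hτ : Function.Surjective τ :=
    (q.surjective.comp (MulEquiv.subgroupCongr downSub_range).surjective).comp
      downSub.rangeRestrict_surjective
  have hne : subZ ≠ 1 := fun h => covZ_ne (Subtype.ext (congrArg Subtype.val h : swapP = 1))
  have hzk : τ subZ = 1 := by
    have e1 : downSub subZ = 1 := Equiv.ext fun i => (half_swap (dbl i)).trans (half_dbl i)
    rw [MonoidHom.comp_apply, show downSub.rangeRestrict subZ = 1 from Subtype.ext e1, map_one]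
  have h2 : Nat.card τ.ker = 2 := by
    have h := τ.ker.card_eq_card_quotient_mul_card_subgroup
    rw [Nat.card_congr (QuotientGroup.quotientKerEquivOfSurjective τ hτ).toEquiv, card_range,
      (chain_spec sub_chain).2.1] at h
    omega
  have hk : ∀ k, τ k = 1 ↔ k = 1 ∨ k = subZ := by
    intro k
    refine ⟨fun hk => ?_, by rintro (rfl | rfl); exacts [map_one τ, hzk]⟩
    obtain ⟨a, b, hab, huniv⟩ := Nat.card_eq_two_iff.1 h2
    have key : ∀ u : τ.ker, u = a ∨ u = b := fun u => by
      have : u ∈ ({a, b} : Set τ.ker) := huniv ▸ Set.mem_univ u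
      simpa using this
    rcases key ⟨k, hk⟩ with ea | ea <;> rcases key 1 with e1 | e1 <;> rcases key ⟨subZ, hzk⟩ with ez | ez
    all_goals first
      | exact Or.inl (congrArg Subtype.val (ea.trans e1.symm))
      | exact Or.inr (congrArg Subtype.val (ea.trans ez.symm))
      | exact absurd (congrArg Subtype.val (ez.trans e1.symm)) hne
  have hperf : commutator Sub = ⊤ := by
    refine perfect_of_ker τ hτ range_simple.2 fun k hk' => ?_
    rcases (hk k).1 hk' with rfl | rfl
    · exact one_mem _
    · have e2 : (commutator Sub).map Sub.subtype = ⁅Sub, Sub⁆ := by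
        rw [_root_.commutator_def, map_commutator, ← MonoidHom.range_eq_map, range_subtype]
      obtain ⟨y, hy, hye⟩ := e2.symm.le swap_mem_sub
      exact (show y = subZ from Subtype.ext hye) ▸ hy
  obtain ⟨σ, hs, hσ⟩ := exists_proj
  obtain ⟨e, he⟩ := exists_equiv σ τ hs hτ
    (fun k hk' => by
      rcases (hσ k).1 hk' with rfl | rfl
      exacts [one_mem _, covZ_central])
    (fun k hk' => by
      rcases (hk k).1 hk' with rfl | rfl
      · exact one_mem _
      · exact mem_center_iff.2 fun g => Subtype.ext (mem_centralizer_singleton_iff.1 (sub_le g.2)))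
    cov_perfect hperf range_simple.2 (card_ker_two σ covZ_ne hσ) h2
    (fun π hπ => (bound π hπ).2)
  refine ⟨e, ((hk _).1 (by rw [he]; exact (hσ covZ).2 (Or.inr rfl))).resolve_left fun h =>
    covZ_ne (e.injective (h.trans (map_one e).symm))⟩

/-- Coordinates exist. -/
theorem exists_coord {G : Type*} [Group G] [Finite G] {t : G} (ht : orderOf t = 2)
    (hcov : Cfsg.IsNonsplitDoubleCover (centralizer ({t} : Set G))
      (Matrix.symplecticGroup (Fin 3) (ZMod 2))) : Nonempty (Coord t) := by
  obtain ⟨ι, hinj, hrange, hz⟩ := exists_iota ht hcov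
  obtain ⟨f, hf⟩ := exists_equiv_sub
  obtain ⟨e, he⟩ := cov_equiv_sub
  have htm : f tm = subZ := by
    refine Subtype.ext (Equiv.ext fun i => emb_injective ?_)
    rw [← hf tm i]
    refine Fin.ext ?_
    have h := tm_swap
    simp only [Bool.and_eq_true, List.all_eq_true, List.mem_range, Nat.beq_eq] at h
    rw [show tm = ev xm tWord from rfl, coe_ev_apply (by decide +kernel)]
    show _ = embPts.getD (swapP i).val 0
    rw [swapP, permC_apply swap_ok.1]
    exact h.1 i.val i.isLt
  refine ⟨{ iota := ι.comp (f.trans e.symm).toMonoidHom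
            inj := hinj.comp (f.trans e.symm).injective
            range_eq := ?_
            map_t := ?_ }⟩
  · rw [← hrange, MonoidHom.range_eq_map, ← map_map, ← MonoidHom.range_eq_map,
      MonoidHom.range_eq_top.2 (f.trans e.symm).surjective, ← MonoidHom.range_eq_map]
  · show ι (e.symm (f tm)) = t
    rw [htm, show e.symm subZ = covZ by rw [MulEquiv.symm_apply_eq, he], hz]

end CfsgLib.CoThreeRec
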