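import Mathlib.GroupTheory.Abelianization.Defs
import Mathlib.GroupTheory.GroupAction.Quotient
import Mathlib.GroupTheory.Index
import Mathlib.Tactic.Group
import Cfsg.Prelude.Def_KGroupFacts

/-!
# Perfect central extensions of largest kernel

If the kernels of the stem extensions of a perfect group have order dividing n, then two perfect
central extensions with kernels of order n are isomorphic: the derived group of their fibre product
maps isomorphically onto both.
-/

set_option autoImplicit false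

namespace CfsgLib.CoThreeRec

open Subgroup
open scoped commutatorElement

variable {Γ C K : Type} [Group Γ] [Group C] [Group K]

/-- The fibre product of two homomorphisms. -/
def fibre (σ : Γ →* K) (τ : C →* K) : Subgroup (Γ × C) where
  carrier := {p | σ p.1 = τ p.2}
  one_mem' := by simp
  mul_mem' := by
    intro a b ha hb
    simp only [Set.mem_ofPred_eq, Prod.fst_mul, Prod.snd_mul, map_mul] at ha hb ⊢
    rw [ha, hb]
  inv_mem' := by
    intro a ha
    simp only [Set.mem_ofPred_eq, Prod.fst_inv, Prod.snd_inv, map_inv] at ha ⊢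
    rw [ha]

theorem exists_equiv [Finite Γ] [Finite C] (σ : Γ →* K) (τ : C →* K)
    (hσ : Function.Surjective σ) (hτ : Function.Surjective τ)
    (hσc : σ.ker ≤ center Γ) (hτc : τ.ker ≤ center C)
    (hΓ : commutator Γ = ⊤) (hC : commutator C = ⊤) (hK : commutator K = ⊤)
    {n : ℕ} (hn : Nat.card σ.ker = n) (hn' : Nat.card τ.ker = n)
    (hb : ∀ {E : Type} [Group E] [Finite E] (π : E →* K),
      Cfsg.IsStemExtension π → Nat.card π.ker ∣ n) :
    ∃ e : Γ ≃* C, ∀ x, τ (e x) = σ x := by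
  set P := fibre σ τ with hP
  have hPz : ∀ p ∈ P, σ p.1 = 1 → p ∈ center (Γ × C) := by
    intro p hp h1
    have h2 : τ p.2 = 1 := (show σ p.1 = τ p.2 from hp) ▸ h1
    refine mem_center_iff.2 fun g => Prod.ext ?_ ?_
    · exact mem_center_iff.1 (hσc h1) g.1
    · exact mem_center_iff.1 (hτc h2) g.2
  set D := ⁅P, P⁆ with hD
  have hDP : D ≤ P := commutator_le.2 fun a ha b hb => by
    rw [commutatorElement_def]
    exact mul_mem (mul_mem (mul_mem ha hb) (inv_mem ha)) (inv_mem hb)
  have hfst : P.map (MonoidHom.fst Γ C) = ⊤ := eq_top_iff.2 fun x _ => by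
    obtain ⟨y, hy⟩ := hτ (σ x)
    exact ⟨(x, y), hy.symm, rfl⟩
  have hsnd : P.map (MonoidHom.snd Γ C) = ⊤ := eq_top_iff.2 fun y _ => by
    obtain ⟨x, hx⟩ := hσ (τ y)
    exact ⟨(x, y), hx, rfl⟩
  have hDfst : D.map (MonoidHom.fst Γ C) = ⊤ := by
    rw [hD, map_commutator, hfst, ← _root_.commutator_def, hΓ]
  have hDsnd : D.map (MonoidHom.snd Γ C) = ⊤ := by
    rw [hD, map_commutator, hsnd, ← _root_.commutator_def, hC]
  let π : D →* K := σ.comp ((MonoidHom.fst Γ C).comp D.subtype)
  have hπ : Function.Surjective π := by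
    intro k
    obtain ⟨x, rfl⟩ := hσ k
    obtain ⟨p, hp, rfl⟩ : x ∈ D.map (MonoidHom.fst Γ C) := hDfst ▸ mem_top x
    exact ⟨⟨p, hp⟩, rfl⟩
  -- the derived group is perfect
  have hperf : commutator D = ⊤ := by
    rw [eq_top_iff, ← Subgroup.map_le_map_iff_of_injective D.subtype_injective,
      _root_.commutator_def, map_commutator, ← MonoidHom.range_eq_map, range_subtype, hD]
    refine commutator_le.2 fun a ha b hb => ?_
    obtain ⟨⟨a', ha'⟩, hea⟩ := hπ (σ a.1)
    obtain ⟨⟨b', hb'⟩, heb⟩ := hπ (σ b.1)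
    have split : ∀ {x x' : Γ × C}, x ∈ P → x' ∈ D → σ x'.1 = σ x.1 →
        ∃ z ∈ center (Γ × C), x = x' * z := fun {x x'} hx hx' he =>
      ⟨x'⁻¹ * x, hPz _ (mul_mem (inv_mem (hDP hx')) hx) (by
        rw [Prod.fst_mul, Prod.fst_inv, map_mul, map_inv, he, inv_mul_cancel]),
        (mul_inv_cancel_left _ _).symm⟩
    obtain ⟨u, hu, rfl⟩ := split ha ha' hea
    obtain ⟨v, hv, rfl⟩ := split hb hb' heb
    have hu' : ∀ g, g * u = u * g := mem_center_iff.1 hu
    have hv' : ∀ g, g * v = v * g := mem_center_iff.1 hv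
    have e : ⁅a' * u, b' * v⁆ = ⁅a', b'⁆ := by
      rw [commutatorElement_def, commutatorElement_def]
      calc a' * u * (b' * v) * (a' * u)⁻¹ * (b' * v)⁻¹
          = a' * (u * (b' * v)) * u⁻¹ * a'⁻¹ * (v⁻¹ * b'⁻¹) := by group
        _ = a' * ((b' * v) * u) * u⁻¹ * a'⁻¹ * (v⁻¹ * b'⁻¹) := by rw [hu']
        _ = a' * b' * (v * a'⁻¹) * v⁻¹ * b'⁻¹ := by group
        _ = a' * b' * (a'⁻¹ * v) * v⁻¹ * b'⁻¹ := by rw [hv']
        _ = a' * b' * a'⁻¹ * b'⁻¹ := by group
    rw [e]
    exact commutator_mem_commutator ha' hb'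
  have hker : ∀ p : D, π p = 1 → (p : Γ × C) ∈ center (Γ × C) :=
    fun p hp => hPz _ (hDP p.2) hp
  have hcard : Nat.card π.ker ∣ n := hb π ⟨hπ, fun p hp => mem_center_iff.2 fun g =>
    Subtype.ext (mem_center_iff.1 (hker p hp) g), hperf ▸ le_top⟩
  have hn0 : 0 < n := hn ▸ Nat.card_pos
  have hcK : ∀ {E : Type} [Group E] (f : E →* K), Function.Surjective f →
      Nat.card E = Nat.card K * Nat.card f.ker := fun f hf => by
    rw [f.ker.card_eq_card_quotient_mul_card_subgroup,
      Nat.card_congr (QuotientGroup.quotientKerEquivOfSurjective f hf).toEquiv]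
  have hle : ∀ {E : Type} [Group E] (f : E →* K), Function.Surjective f → Nat.card f.ker = n →
      Nat.card D ≤ Nat.card E := fun f hf hfn => by
    rw [hcK π hπ, hcK f hf, hfn]
    exact Nat.mul_le_mul_left _ (Nat.le_of_dvd hn0 hcard)
  let f : D →* Γ := (MonoidHom.fst Γ C).comp D.subtype
  let g : D →* C := (MonoidHom.snd Γ C).comp D.subtype
  have hf : Function.Surjective f := fun x => by
    obtain ⟨p, hp, rfl⟩ : x ∈ D.map (MonoidHom.fst Γ C) := hDfst ▸ mem_top x
    exact ⟨⟨p, hp⟩, rfl⟩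
  have hg : Function.Surjective g := fun x => by
    obtain ⟨p, hp, rfl⟩ : x ∈ D.map (MonoidHom.snd Γ C) := hDsnd ▸ mem_top x
    exact ⟨⟨p, hp⟩, rfl⟩
  have bf : Function.Bijective f := hf.bijective_of_nat_card_le (hle σ hσ hn)
  have bg : Function.Bijective g := hg.bijective_of_nat_card_le (hle τ hτ hn')
  refine ⟨(MulEquiv.ofBijective f bf).symm.trans (MulEquiv.ofBijective g bg), fun x => ?_⟩
  obtain ⟨p, rfl⟩ := bf.2 x
  have e : (MulEquiv.ofBijective f bf).symm (f p) = p := by rw [MulEquiv.symm_apply_eq]; rfl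
  show τ ((MulEquiv.ofBijective g bg) ((MulEquiv.ofBijective f bf).symm (f p))) = σ (f p)
  rw [e]
  exact (hDP p.2).symm

end CfsgLib.CoThreeRec
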