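import Cfsg.Agent.Lib.CoThreeRec.Basic
import Cfsg.Agent.Lib.Invol.ZStarFinal

/-!
# Fusion of the central involution of the double cover

The second class consists of non-squares while the central involution is a square in both pair centralisers, so
it is fused to the neighbour alone.
-/

set_option autoImplicit false

namespace CfsgLib.CoThreeRec

open Cfsg

/-- What is used about the double cover. -/
structure ClassFacts : Prop where
  classes : ∀ c : Cm, orderOf c = 2 → c ≠ tm → ∃ h : Cm, h * c * h⁻¹ = nbr ∨ h * c * h⁻¹ = sec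
  nbr_sq : nbr * nbr = 1
  nbr_ne : nbr ≠ tm
  sec_ne : sec ≠ tm
  root_nbr : ∃ r : Cm, r * r = tm ∧ Commute r nbr
  root_sec : ∃ r : Cm, r * r = tm ∧ Commute r sec
  sec_not_square : ∀ r : Cm, r * r ≠ sec

variable {G : Type*} [Group G] {t : G}

theorem Coord.exists_pre (co : Coord t) {x : G} (hx : Commute x t) : ∃ c : Cm, co.iota c = x := by
  have h : x ∈ co.iota.range := by rw [co.range_eq]; exact Subgroup.mem_centralizer_singleton_iff.2 hx
  exact h

theorem Coord.commute_iota (co : Coord t) (c : Cm) : Commute (co.iota c) t := by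
  have h : co.iota c ∈ Subgroup.centralizer ({t} : Set G) := by rw [← co.range_eq]; exact ⟨c, rfl⟩
  exact Subgroup.mem_centralizer_singleton_iff.1 h

theorem orderOf_conjugate (g x : G) : orderOf (g * x * g⁻¹) = orderOf x :=
  MulEquiv.orderOf_eq (MulAut.conj g) x

/-- A conjugate of `t` commuting with `t` is `t` or conjugate to the neighbour or to the second involution. -/
theorem Coord.class_of_conj (co : Coord t) (F : ClassFacts) (ht : orderOf t = 2) {g : G}
    (hc : Commute (g * t * g⁻¹) t) (hne : g * t * g⁻¹ ≠ t) :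
    ∃ h : Cm, co.iota h * (g * t * g⁻¹) * (co.iota h)⁻¹ = co.iota nbr ∨
      co.iota h * (g * t * g⁻¹) * (co.iota h)⁻¹ = co.iota sec := by
  obtain ⟨c, hc'⟩ := co.exists_pre hc
  have hc2 : orderOf c = 2 := by
    rw [← orderOf_injective co.iota co.inj c, hc', orderOf_conjugate, ht]
  obtain ⟨h, hh⟩ := F.classes c hc2 fun e => hne (by rw [← hc', e, co.map_t])
  refine ⟨h, hh.imp (fun e => ?_) (fun e => ?_)⟩ <;> rw [← hc', ← e, map_mul, map_mul, map_inv]

/-- The central involution is not conjugate to the involution of the second class. -/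
theorem sec_not_conj (co : Coord t) (F : ClassFacts) (ht : orderOf t = 2) : ¬ IsConj t (co.iota sec) := by
  intro hconj
  obtain ⟨g, hg⟩ := isConj_iff.1 hconj
  have hcu : Commute (g⁻¹ * t * g) t := by
    have h := (co.commute_iota sec).symm.map (MulAut.conj g⁻¹).toMonoidHom
    rw [← hg] at h
    simpa [mul_assoc] using h
  have hne : g⁻¹ * t * g ≠ t := fun e => F.sec_ne (co.inj (by
    rw [co.map_t, ← hg]
    nth_rewrite 1 [← e]
    group))
  have hu : g⁻¹ * t * g = g⁻¹ * t * g⁻¹⁻¹ := by rw [inv_inv]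
  rw [hu] at hcu hne
  obtain ⟨h, hh⟩ := co.class_of_conj F ht hcu hne
  obtain ⟨r, hr, hrv⟩ : ∃ r : Cm, r * r = tm ∧ Commute (co.iota r) (co.iota h * (g⁻¹ * t * g⁻¹⁻¹) * (co.iota h)⁻¹) := by
    rcases hh with e | e <;> rw [e]
    · obtain ⟨r, hr, hc⟩ := F.root_nbr; exact ⟨r, hr, hc.map co.iota⟩
    · obtain ⟨r, hr, hc⟩ := F.root_sec; exact ⟨r, hr, hc.map co.iota⟩
  set R := g * ((co.iota h)⁻¹ * co.iota r * co.iota h) * g⁻¹ with hR
  have hRt : Commute R t := by
    have e := hrv.map (MulAut.conj (g * (co.iota h)⁻¹)).toMonoidHom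
    simp only [MulEquiv.coe_toMonoidHom, MulAut.conj_apply] at e
    have e1 : g * (co.iota h)⁻¹ * co.iota r * (g * (co.iota h)⁻¹)⁻¹ = R := by rw [hR]; group
    rw [e1, show g * (co.iota h)⁻¹ * (co.iota h * (g⁻¹ * t * g⁻¹⁻¹) * (co.iota h)⁻¹) * (g * (co.iota h)⁻¹)⁻¹ = t by
      group] at e
    exact e
  obtain ⟨s, hs⟩ := co.exists_pre hRt
  refine F.sec_not_square s (co.inj ?_)
  rw [map_mul, hs, hR, show g * ((co.iota h)⁻¹ * co.iota r * co.iota h) * g⁻¹ *
      (g * ((co.iota h)⁻¹ * co.iota r * co.iota h) * g⁻¹) =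
      g * ((co.iota h)⁻¹ * (co.iota r * co.iota r) * co.iota h) * g⁻¹ by group,
    ← map_mul, hr, co.map_t, mul_assoc _ t, ← (co.commute_iota h).eq, inv_mul_cancel_left, hg]

/-- A conjugate of `t` commuting with `t` is `t` or conjugate in the centraliser to the neighbour. -/
theorem conj_in_centralizer (co : Coord t) (F : ClassFacts) (ht : orderOf t = 2) {g : G}
    (hc : Commute (g * t * g⁻¹) t) :
    g * t * g⁻¹ = t ∨ ∃ h : Cm, co.iota h * (g * t * g⁻¹) * (co.iota h)⁻¹ = co.iota nbr := by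
  refine (em _).imp_right fun hne => ?_
  obtain ⟨h, hh | hh⟩ := co.class_of_conj F ht hc hne
  · exact ⟨h, hh⟩
  · refine (sec_not_conj co F ht (isConj_iff.2 ⟨co.iota h * g, ?_⟩)).elim
    rw [← hh]; group

/-- An element exchanging `t` and the neighbour. -/
theorem exists_swap [Finite G] (co : Coord t) (F : ClassFacts) (ht : orderOf t = 2) (hO : Cfsg.oddCore G = ⊥)
    (hZ : Subgroup.center G = ⊥) :
    ∃ g, g * t * g⁻¹ = co.iota nbr ∧ g * co.iota nbr * g⁻¹ = t := by
  have hiso : ¬ IsIsolatedInvolution t := fun hi => by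
    have hc := CfsgLib.Invol.zstar_center hi hO
    rw [hZ, Subgroup.mem_bot] at hc
    rw [hc, orderOf_one] at ht
    omega
  simp only [IsIsolatedInvolution, ht, true_and, not_forall] at hiso
  obtain ⟨g₀, hc₀, hne₀⟩ := hiso
  obtain ⟨h₀, hh₀⟩ := (conj_in_centralizer co F ht hc₀.symm).resolve_left hne₀
  set p := co.iota h₀ * g₀ with hp
  have hpn : p * t * p⁻¹ = co.iota nbr := by rw [← hh₀, hp]; group
  have hcu : Commute (p⁻¹ * t * p⁻¹⁻¹) t := by
    have h := (co.commute_iota nbr).symm.map (MulAut.conj p⁻¹).toMonoidHom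
    simp only [MulEquiv.coe_toMonoidHom, MulAut.conj_apply, ← hpn,
      show p⁻¹ * (p * t * p⁻¹) * p⁻¹⁻¹ = t by group] at h
    exact h
  have hne : p⁻¹ * t * p⁻¹⁻¹ ≠ t := fun e => F.nbr_ne (co.inj (by
    rw [co.map_t, ← hpn]
    nth_rewrite 1 [← e]
    group))
  obtain ⟨k, hk⟩ := (conj_in_centralizer co F ht hcu).resolve_left hne
  have hkt : (co.iota k)⁻¹ * t * co.iota k = t := by
    rw [mul_assoc, ← (co.commute_iota k).eq, inv_mul_cancel_left]
  refine ⟨p * (co.iota k)⁻¹, ?_, ?_⟩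
  · rw [← hpn, show p * (co.iota k)⁻¹ * t * (p * (co.iota k)⁻¹)⁻¹ = p * ((co.iota k)⁻¹ * t * co.iota k) * p⁻¹ by group,
      hkt]
  · rw [← hk]; group

end CfsgLib.CoThreeRec
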