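import Mathlib.Data.Nat.Notation

/-!
# A Sylow 2-subgroup of the double cover: generators, relations, and the sort of each element

Sorts: 0 trivial, 1 the central involution, 2 a square moving the given point, 3 and 4 conjugate by the given
word to the two involutions.
-/

set_option autoImplicit false
set_option maxRecDepth 100000

namespace CfsgLib.CoThreeRec.Inv

/-- The generators, each normalising the group of the earlier ones and squaring into it. -/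
def sylGens : List (List ℕ) := [[2, 2, 2, 2, 2, 2, 2, 2, 2, 2], [0, 0, 0, 0], [1, 2, 0, 0, 0, 0, 3, 3, 1, 1, 2], [1, 2, 1, 2, 0, 0, 0, 0, 3, 3, 1], [0, 3, 0, 2, 0, 0, 3, 3, 0, 3, 1, 1, 2, 2], [3, 0, 0, 2, 0], [3, 1, 1, 2, 0], [0, 0], [3, 1, 3, 0, 0, 2, 2], [1, 2, 1, 3, 0, 2, 0, 0, 3, 3, 1]]

/-- Square and conjugates of earlier generators, as positions in the list of elements. -/
def sylRels : List (List ℕ) := [[0], [0, 1], [1, 1, 2], [1, 1, 2, 5], [1, 1, 2, 4, 8], [0, 1, 2, 5, 9, 17], [2, 1, 2, 5, 8, 16, 34], [2, 1, 2, 4, 8, 18, 32, 64], [96, 1, 3, 5, 15, 19, 52, 84, 228], [60, 1, 3, 5, 8, 18, 35, 81, 174, 330]]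

/-- Roots of the central involution. -/
def rootX : List ℕ := [2, 2, 0, 0, 0, 0, 3, 0, 3, 0, 0]

/-- Roots of the central involution. -/
def rootY : List ℕ := [1, 2, 0, 2, 2, 2, 2, 2, 1, 3, 0]

/-- A part of `sorts`. -/
def sorts0 : List (ℕ × List ℕ) := [(0, []), (1, []), (3, []), (3, [3, 1, 3, 0, 0, 2, 2]), (2, [0]), (2, [0]), (2, [0]), (2, [0]), (2, [0]), (2, [0]), (2, [0]), (2, [0]), (2, [0]), (2, [0]), (2, [0]), (2, [0]), (2, [0]), (2, [0]), (2, [0]), (2, [0]), (3, [3, 1, 3, 3, 3, 0, 2, 2]), (3, [3, 1, 2, 2, 2, 1, 2, 2, 0]), (3, [3, 3, 0, 3, 3, 3]), (3, [3, 3, 1, 2, 1, 1, 3, 3]), (4, [3, 0, 0, 2, 0, 2, 1, 3]), (4, [1, 2, 1, 1, 3, 3]), (4, [1, 2, 0, 0, 3, 0, 3]), (4, [1, 2, 1, 1, 3, 3, 1, 1]), (4, [3, 3, 0, 2, 1, 1, 2, 2]), (4, [1, 1, 3, 3, 0, 3, 1, 2, 0, 2]), (4, [1, 3,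 1, 3, 0, 2, 1, 2, 2, 1]), (4, [1, 3, 0, 0, 0, 0, 3, 3, 3, 3]), (4, [2, 1]), (4, [2, 2, 0, 0, 0, 0, 3, 1]), (4, [0, 0, 2]), (4, [2, 1, 2, 0, 0, 0, 0, 3]), (3, [3, 3, 1, 1, 2]), (3, [3, 1]), (3, [3, 3, 0, 0, 2]), (3, [2, 1, 3, 1]), (4, [0, 0, 2, 1, 2, 1, 1, 3, 1]), (4, [0, 0, 2, 1, 2, 0, 0, 3, 1]), (4, [2, 2, 1, 1, 3, 1]), (4, [2, 2, 0, 0, 3, 1]), (2, [0]), (2, [0]), (2, [0]), (2, [0]), (3, [3, 1, 3, 0, 2, 2, 2]), (3, [3, 3, 1, 2, 2, 2]), (3, [3, 1, 3, 3, 1, 2, 2, 2]), (3, [3, 3, 3, 1, 2, 0, 2]), (4, [3, 1, 1, 2, 1, 2]), (4, [1, 3, 0, 0, 2, 2, 1]), (4, [3, 1, 1, 2, 0, 2, 1]), (4, [1, 3, 0, 0, 2, 2, 0]), (4, [3, 0, 0, 3, 3, 3, 3, 1, 1]), (4, [0, 0, 2, 2, 2, 0, 0, 3, 1, 2]), (4, [3, 0, 0, 3, 3, 3, 3]), (4, [1, 2, 2, 1, 3, 3, 3, 0, 3]), (2, [0]), (2, [0]), (2, [0]), (2, [0]), (2,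 [0]), (2, [0]), (2, [0]), (2, [0]), (2, [0]), (2, [0]), (2, [0]), (2, [0]), (2, [0]), (2, [0]), (2, [0]), (2, [0]), (2, [0]), (2, [0]), (2, [0]), (2, [0]), (2, [0]), (2, [0]), (2, [0]), (2, [0]), (2, [0]), (2, [0]), (2, [0]), (2, [0]), (2, [0]), (2, [0]), (2, [0]), (2, [0]), (2, [0]), (2, [0]), (2, [0]), (2, [0]), (3, [2]), (3, [3, 1, 2, 1, 1, 3]), (3, [2, 1]), (3, [3, 1, 2, 0, 0, 3]), (2, [0]), (2, [0]), (2, [0]), (2, [0]), (4, [2, 1, 2, 1, 1, 3]), (4, [0, 0, 2, 2, 0, 0, 3]), (4, [0, 0, 2, 2, 1, 1, 3]), (4, [2, 1, 2, 0, 0, 3]), (4, [3, 0, 3, 3, 3, 0, 2]), (4, [2, 1, 2, 1, 1, 3, 1]), (4, [2, 1, 2, 0, 0, 3, 1]), (4, [0, 0, 2, 2, 1, 1, 3, 1]), (3, [3, 1, 3, 3, 3, 1, 2, 1, 2]), (3, [3, 3, 0, 3, 3, 3, 1]), (3, [3, 1, 2, 2, 2, 1, 2, 2]), (3, [3, 3, 0, 3, 3, 3, 0]), (2, [0]), (2,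 [0]), (2, [0]), (2, [0]), (4, [1, 2, 0, 0, 3, 0, 3, 0]), (4, [1, 2, 1, 1, 3, 3, 1]), (4, [1, 2, 0, 0, 3, 0, 3, 1]), (4, [1, 2, 1, 1, 3, 3, 0]), (4, [1, 2, 2, 1, 3, 3, 3, 1, 3, 3]), (4, [1, 3, 1, 3, 0, 2, 1, 2, 2]), (4, [0, 2, 2, 2, 0, 3, 3, 3, 3]), (4, [3, 3, 0, 2, 1, 1, 2, 2, 0])]

/-- A part of `sorts`. -/
def sorts1 : List (ℕ × List ℕ) := [(2, [0]), (2, [0]), (2, [0]), (2, [0]), (2, [0]), (2, [0]), (2, [0]), (2, [0]), (2, [0]), (2, [0]), (2, [0]), (2, [0]), (2, [0]), (2, [0]), (2, [0]), (2, [0]), (2, [0]), (2, [0]), (2, [0]), (2, [0]), (4, [0, 2, 1, 1, 3, 3]), (4, [3, 0, 0, 2, 0, 2, 0, 3]), (4, [0, 2, 1, 1, 3, 3, 1, 1]), (4, [0, 2, 0, 0, 3, 0, 3]), (3, [2, 2, 2, 1, 2, 2, 2, 1]), (3, [3, 3, 0, 3, 3, 1, 1, 3]), (3, [3, 3, 1, 3, 0, 0, 3, 3]), (3, [3, 3, 0, 2, 1, 1, 3, 3]),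 (4, [1, 3, 0, 3, 3, 3, 1, 3, 3, 1]), (4, [0, 2, 2, 2, 0, 3, 3, 3]), (4, [1, 3, 0, 3, 3, 3, 1, 3, 3, 0]), (4, [3, 1, 3, 3, 3, 1, 3, 3, 1]), (2, [0]), (2, [0]), (2, [0]), (2, [0]), (2, [0]), (2, [0]), (2, [0]), (2, [0]), (2, [0]), (2, [0]), (2, [0]), (2, [0]), (2, [0]), (2, [0]), (2, [0]), (2, [0]), (4, [1, 3, 0, 0, 2, 2]), (4, [3, 1, 1, 2, 1, 2, 0]), (4, [1, 3, 0, 0, 2, 2, 1, 1]), (4, [3, 1, 1, 2, 0, 2]), (3, [3, 3, 1, 2, 2, 2, 0]), (3, [3, 1, 3, 0, 2, 2, 2, 0]), (3, [2, 2, 2, 1, 2, 2]), (3, [3, 1, 3, 0, 2, 2, 2, 1]), (4, [3, 0, 0, 3, 3, 3, 3, 0]), (4, [1, 2, 2, 1, 3, 3, 3, 0, 3, 0]), (4, [3, 0, 0, 3, 3, 3, 3, 1]), (4, [3, 0, 2, 1, 2, 1, 1, 2, 2]), (2, [0]), (2, [0]), (2, [0]), (2, [0]), (4, [0, 0, 2, 1]), (4, [3, 0, 3, 3, 0, 0, 3, 0, 3]), (4, [2]), (4, [2, 2, 0, 0, 0, 0, 3]),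 (3, [2, 1, 3]), (3, [3, 3, 0, 0, 2, 0]), (3, [3]), (3, [3, 1, 3, 0, 0, 2]), (2, [0]), (2, [0]), (2, [0]), (2, [0]), (4, [0, 0, 2, 1, 2, 0, 0, 3]), (4, [0, 0, 2, 1, 2, 1, 1, 3]), (4, [2, 2, 0, 0, 3]), (4, [2, 2, 1, 1, 3]), (2, [0]), (2, [0]), (2, [0]), (2, [0]), (2, [0]), (2, [0]), (2, [0]), (2, [0]), (2, [0]), (2, [0]), (2, [0]), (2, [0]), (2, [0]), (2, [0]), (2, [0]), (2, [0]), (2, [0]), (2, [0]), (2, [0]), (2, [0]), (2, [0]), (2, [0]), (2, [0]), (2, [0]), (2, [0]), (2, [0]), (2, [0]), (2, [0]), (2, [0]), (2, [0]), (2, [0]), (2, [0]), (4, [0, 3, 0, 2, 2, 2, 0, 2]), (4, [0, 2, 1, 1, 3, 3, 0]), (4, [0, 2, 0, 0, 3, 0, 3, 0]), (4, [0, 2, 1, 1, 3, 3, 1]), (2, [0]), (2, [0]), (2, [0]), (2, [0]), (3, [3, 1, 2, 2, 2, 1, 2, 2, 2]), (3, [3, 3, 0, 3, 3, 3, 0, 2]), (3, [2, 2, 2, 1, 2,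 2, 2]), (3, [3, 1, 3, 0, 2, 2, 2, 1, 2]), (4, [3, 1, 3, 3, 3, 1, 3, 3]), (4, [1, 2, 2, 1, 3, 3, 3, 1, 3]), (4, [0, 2, 2, 2, 0, 3, 3, 3, 0]), (4, [1, 3, 0, 3, 3, 3, 1, 3, 3])]

/-- A part of `sorts`. -/
def sorts2 : List (ℕ × List ℕ) := [(2, [0]), (2, [0]), (2, [0]), (2, [0]), (2, [0]), (2, [0]), (2, [0]), (2, [0]), (2, [0]), (2, [0]), (2, [0]), (2, [0]), (2, [0]), (2, [0]), (2, [0]), (2, [0]), (2, [0]), (2, [0]), (2, [0]), (2, [0]), (2, [0]), (2, [0]), (2, [0]), (2, [0]), (2, [0]), (2, [0]), (2, [0]), (2, [0]), (2, [0]), (2, [0]), (2, [0]), (2, [0]), (2, [0]), (2, [0]), (2, [0]), (2, [0]), (2, [0]), (2, [0]), (2, [0]), (2, [0]), (2, [0]), (2, [0]), (2, [0]), (2, [0]), (2, [0]), (2, [0]), (2, [0]), (2, [0]), (2, [0]), (2, [0]), (2, [0]), (2, [0]), (2, [0]), (2, [0]), (2, [0]),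 (2, [0]), (2, [0]), (2, [0]), (2, [0]), (2, [0]), (2, [0]), (2, [0]), (2, [0]), (2, [0]), (2, [0]), (2, [0]), (2, [0]), (2, [0]), (2, [0]), (2, [0]), (2, [0]), (2, [0]), (2, [0]), (2, [0]), (2, [0]), (2, [0]), (2, [0]), (2, [0]), (2, [0]), (2, [0]), (2, [0]), (2, [0]), (2, [0]), (2, [0]), (2, [0]), (2, [0]), (2, [0]), (2, [0]), (2, [0]), (2, [0]), (2, [0]), (2, [0]), (2, [0]), (2, [0]), (2, [0]), (2, [0]), (2, [0]), (2, [0]), (2, [0]), (2, [0]), (2, [0]), (2, [0]), (2, [0]), (2, [0]), (2, [0]), (2, [0]), (2, [0]), (2, [0]), (2, [0]), (2, [0]), (2, [0]), (2, [0]), (2, [0]), (2, [0]), (2, [0]), (2, [0]), (2, [0]), (2, [0]), (2, [0]), (2, [0]), (2, [0]), (2, [0]), (2, [0]), (2, [0]), (2, [0]), (2, [0]), (2, [0]), (2, [0])]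

/-- A part of `sorts`. -/
def sorts3 : List (ℕ × List ℕ) := [(2, [0]), (2, [0]), (2, [0]), (2, [0]), (2, [0]), (2, [0]), (2, [0]), (2, [0]), (2, [0]), (2, [0]), (3, [2, 2, 2, 0, 3, 3, 3, 1]), (3, [3, 3, 1, 2, 2, 2, 2, 1]), (3, [2, 2, 2, 2, 0, 0, 2, 2]), (3, [3, 3, 3, 3, 0, 0, 3, 1]), (2, [0]), (2, [0]), (2, [0]), (2, [0]), (2, [0]), (2, [0]), (2, [0]), (2, [0]), (2, [0]), (2, [0]), (3, [2, 2, 2, 0, 3, 3, 3]), (3, [3, 3, 1, 2, 2, 2, 2]), (2, [0]), (2, [0]), (2, [0]), (2, [0]), (3, [3, 3, 3, 3, 0, 0, 3]), (3, [2, 2, 1, 2, 2, 2, 1, 3, 1]), (2, [0]), (2, [0]), (2, [0]), (2, [0]), (2, [0]), (2, [0]), (2, [0]), (2, [0]), (2, [0]), (2, [0]), (2, [0]), (2, [0]), (2, [0]), (2, [0]), (2, [0]), (2, [0]), (2, [0]), (2, [0]), (2, [0]), (2, [0]), (2, [0]), (2, [0]), (2, [0]), (2, [0]),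 (2, [0]), (2, [0]), (2, [0]), (2, [0]), (2, [0]), (2, [0]), (2, [0]), (2, [0]), (2, [0]), (2, [0]), (2, [0]), (2, [0]), (2, [0]), (2, [0]), (2, [0]), (2, [0]), (2, [4]), (2, [4]), (2, [0]), (2, [0]), (2, [4]), (2, [4]), (2, [0]), (2, [0]), (2, [0]), (2, [0]), (2, [0]), (2, [0]), (2, [0]), (2, [0]), (2, [0]), (2, [0]), (2, [0]), (2, [0]), (2, [4]), (2, [4]), (2, [0]), (2, [0]), (2, [4]), (2, [4]), (2, [0]), (2, [0]), (2, [0]), (2, [0]), (2, [0]), (2, [0]), (2, [0]), (2, [0]), (3, [3, 3, 3, 3, 3, 1, 2]), (3, [2, 2, 1, 2, 2, 2, 1, 3]), (2, [0]), (2, [0]), (2, [0]), (2, [0]), (3, [3, 3, 3, 3, 1, 1, 3]), (3, [3, 3, 1, 2, 2, 2, 2, 0]), (2, [0]), (2, [0]), (2, [0]), (2, [0]), (2, [0]), (2, [0]), (2, [0]), (2, [0]), (3, [3, 3, 3, 0, 0, 3, 3, 3]), (3, [3, 3, 3, 1, 2, 0, 2, 2]), (2,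 [0]), (2, [0]), (2, [0]), (2, [0]), (3, [3, 1, 3, 3, 3, 1, 3, 3]), (3, [2, 2, 2, 1, 2, 2, 2, 2])]

/-- A part of `sorts`. -/
def sorts4 : List (ℕ × List ℕ) := [(2, [0]), (2, [0]), (2, [0]), (2, [0]), (2, [0]), (2, [0]), (2, [0]), (2, [0]), (2, [0]), (2, [0]), (2, [0]), (2, [0]), (2, [0]), (2, [0]), (2, [0]), (2, [0]), (2, [0]), (2, [0]), (2, [0]), (2, [0]), (2, [0]), (2, [0]), (2, [0]), (2, [0]), (2, [0]), (2, [0]), (2, [0]), (2, [0]), (2, [0]), (2, [0]), (2, [0]), (2, [0]), (2, [0]), (2, [0]), (2, [0]), (2, [0]), (2, [0]), (2, [0]), (2, [0]), (2, [0]), (2, [0]), (2, [0]), (2, [0]), (2, [0]), (2, [0]), (2, [0]), (2, [0]), (2, [0]), (2, [0]), (2, [0]), (2, [0]), (2, [0]), (2, [0]), (2, [0]), (2, [0]), (2, [0]), (2, [0]), (2, [0]), (2, [0]), (2, [0]), (2, [0]), (2, [0]), (2,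 [0]), (2, [0]), (2, [0]), (2, [0]), (2, [0]), (2, [0]), (2, [0]), (2, [0]), (2, [0]), (2, [0]), (2, [0]), (2, [0]), (2, [0]), (2, [0]), (2, [0]), (2, [0]), (2, [0]), (2, [0]), (2, [0]), (2, [0]), (2, [0]), (2, [0]), (2, [0]), (2, [0]), (2, [0]), (2, [0]), (2, [0]), (2, [0]), (2, [0]), (2, [0]), (2, [0]), (2, [0]), (2, [0]), (2, [0]), (2, [0]), (2, [0]), (2, [0]), (2, [0]), (2, [0]), (2, [0]), (2, [0]), (2, [0]), (2, [0]), (2, [0]), (2, [0]), (2, [0]), (2, [0]), (2, [0]), (2, [0]), (2, [0]), (2, [0]), (2, [0]), (2, [0]), (2, [0]), (2, [0]), (2, [0]), (2, [0]), (2, [0]), (2, [0]), (2, [0]), (2, [0]), (2, [0]), (2, [0]), (2, [0]), (2, [0]), (2, [0])]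

/-- A part of `sorts`. -/
def sorts5 : List (ℕ × List ℕ) := [(2, [0]), (2, [0]), (2, [0]), (2, [0]), (2, [0]), (2, [0]), (2, [0]), (2, [0]), (2, [0]), (2, [0]), (2, [0]), (2, [0]), (2, [0]), (2, [0]), (2, [0]), (2, [0]), (2, [0]), (2, [0]), (2, [0]), (2, [0]), (2, [0]), (2, [0]), (2, [0]), (2, [0]), (2, [0]), (2, [0]), (2, [0]), (2, [0]), (2, [0]), (2, [0]), (2, [0]), (2, [0]), (2, [0]), (2, [0]), (2, [0]), (2, [0]), (2, [0]), (2, [0]), (2, [0]), (2, [0]), (2, [0]), (2, [0]), (2, [0]), (2, [0]), (2, [0]), (2, [0]), (2, [0]), (2, [0]), (2, [0]), (2, [0]), (2, [0]), (2, [0]), (2, [0]), (2, [0]), (2, [0]), (2, [0]), (2, [0]), (2, [0]), (2, [0]), (2, [0]), (2, [0]), (2, [0]), (2, [0]), (2, [0]), (2, [0]), (2, [0]), (4, [1, 1, 3, 1, 2, 2, 2, 1, 1]), (4, [0, 2, 1, 1, 3, 3, 3, 1]),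 (4, [2, 2, 1, 3, 1]), (4, [1, 3, 1, 3, 0, 3, 3]), (2, [0]), (2, [0]), (4, [0, 2, 0, 3, 0, 3, 3, 0, 3]), (4, [0, 3, 0, 2, 2, 2]), (2, [0]), (2, [0]), (4, [2, 2, 1, 2, 0, 0, 3]), (4, [2, 2, 2, 1, 1, 3]), (2, [0]), (2, [0]), (2, [0]), (2, [0]), (4, [0, 0, 3, 3, 0, 2, 2]), (4, [1, 2, 1, 2, 1, 3, 0, 2, 2, 1]), (4, [2, 1, 2, 0, 0, 3, 3, 0]), (4, [3, 0, 3, 3, 3]), (2, [0]), (2, [0]), (4, [3, 0, 2, 1, 3, 3, 3]), (4, [1, 1, 3, 3, 0, 2, 2, 0, 0]), (2, [0]), (2, [0]), (4, [0, 0, 3, 1, 2, 2, 2]), (4, [2, 1, 2, 1, 1, 3, 3, 1]), (2, [0]), (2, [0]), (2, [0]), (2, [0]), (4, [2, 2, 0, 2, 0, 0, 3]), (4, [1, 3, 3, 1, 2, 1, 3, 3]), (2, [0]), (2, [0]), (4, [1, 3, 0, 0, 0, 3, 3, 3]), (4, [0, 3, 0, 2, 1, 2, 2, 2]), (2, [0]), (2, [0]), (4, [2, 2, 1, 3, 0]), (4, [2, 2, 0, 3, 1]), (4, [0, 2, 1, 1, 3,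 3, 3, 0]), (4, [1, 1, 3, 1, 2, 2, 2]), (2, [0]), (2, [0]), (4, [2, 2, 2, 0, 0, 3]), (4, [2, 2, 1, 2, 1, 1, 3]), (2, [0]), (2, [0]), (4, [3, 1, 1, 1, 3, 0, 3, 3]), (4, [1, 1, 3, 3, 0, 2, 2]), (2, [0]), (2, [0]), (4, [3, 0, 3, 3, 3, 1, 1]), (4, [3, 0, 3, 3, 3, 0, 0]), (2, [0]), (2, [0]), (2, [0]), (2, [0]), (4, [0, 0, 3, 3, 0, 2, 2, 1, 1]), (4, [0, 0, 3, 3, 0, 2, 2, 0, 0])]

/-- A part of `sorts`. -/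
def sorts6 : List (ℕ × List ℕ) := [(2, [0]), (2, [0]), (2, [0]), (2, [0]), (2, [0]), (2, [0]), (2, [0]), (2, [0]), (2, [0]), (2, [0]), (2, [0]), (2, [0]), (2, [0]), (2, [0]), (2, [0]), (2, [0]), (2, [0]), (2, [0]), (2, [0]), (2, [0]), (2, [0]), (2, [0]), (2, [0]), (2, [0]), (2, [0]), (2, [0]), (2, [0]), (2, [0]), (2, [0]), (2, [0]), (2, [0]), (2, [0]), (4, [1, 2, 2, 2, 2, 1]), (4, [1, 2, 2, 2, 1, 2, 2, 0]), (4, [3, 3, 3, 1, 1, 1, 2, 1]), (4, [1, 1, 3, 3, 1, 3, 3, 1, 1]), (4, [0, 3, 3, 3, 0, 2, 2]), (4, [0, 3, 3, 0, 0, 3, 0, 2]), (4, [3, 3, 3, 1, 2, 1, 1]), (4, [1, 3, 0, 0, 3, 3, 0, 2, 1]), (2, [0]), (2, [0]), (2, [0]), (2, [0]), (2, [0]), (2, [0]), (2, [0]), (2, [0]), (4, [3, 1, 3, 1, 1, 3, 1, 3]), (4, [1, 1, 1, 3, 3, 3, 0, 2, 2]), (4, [3, 3, 3, 0, 2, 1]), (4, [1, 2, 2, 1,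 1, 2, 1, 2]), (4, [1, 3, 1, 1, 3, 0, 3, 1, 2]), (4, [1, 2, 2, 2, 1, 2, 1, 1, 2]), (4, [0, 3, 1, 2, 1, 2, 2]), (4, [3, 1, 1, 3, 3, 0, 2, 2]), (2, [0]), (2, [0]), (2, [0]), (2, [0]), (2, [0]), (2, [0]), (2, [0]), (2, [0]), (2, [0]), (2, [0]), (2, [0]), (2, [0]), (2, [0]), (2, [0]), (2, [0]), (2, [0]), (2, [0]), (2, [0]), (2, [0]), (2, [0]), (2, [4]), (2, [4]), (2, [4]), (2, [4]), (2, [0]), (2, [0]), (2, [0]), (2, [0]), (2, [0]), (2, [0]), (2, [0]), (2, [0]), (2, [4]), (2, [4]), (2, [4]), (2, [4]), (2, [0]), (2, [0]), (2, [0]), (2, [0]), (2, [0]), (2, [0]), (2, [0]), (2, [0]), (2, [0]), (2, [0]), (2, [0]), (2, [0]), (4, [3, 1, 2, 1, 1, 1, 2, 2, 0]), (4, [3, 1, 2, 0, 2, 0, 2, 2, 1]), (4, [3, 1, 2, 1, 2, 2, 2]), (4, [3, 3, 3, 0, 2, 0]), (4, [0, 0, 2, 2, 2, 0, 2, 2, 2]), (4, [1,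 2, 2, 2, 1, 1, 2]), (4, [1, 3, 3, 3, 1, 2, 2, 1, 2]), (4, [3, 3, 3, 0, 0, 0, 2]), (2, [0]), (2, [0]), (2, [0]), (2, [0]), (2, [0]), (2, [0]), (2, [0]), (2, [0]), (4, [3, 3, 3, 1, 1, 1, 2, 0]), (4, [1, 1, 3, 3, 1, 3, 3]), (4, [1, 2, 2, 2, 2, 0]), (4, [1, 2, 2, 2, 1, 2, 2, 1]), (4, [3, 3, 3, 1, 2]), (4, [1, 3, 0, 0, 3, 3, 0, 2, 0]), (4, [1, 2, 2, 2, 0, 0, 2]), (4, [3, 0, 3, 0, 2, 2, 2])]

/-- A part of `sorts`. -/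
def sorts7 : List (ℕ × List ℕ) := [(2, [0]), (2, [0]), (2, [0]), (2, [0]), (2, [0]), (2, [0]), (2, [0]), (2, [0]), (2, [0]), (2, [0]), (2, [0]), (2, [0]), (2, [0]), (2, [0]), (2, [0]), (2, [0]), (2, [0]), (2, [0]), (2, [0]), (2, [0]), (2, [0]), (2, [0]), (2, [0]), (2, [0]), (2, [0]), (2, [0]), (2, [0]), (2, [0]), (2, [0]), (2, [0]), (2, [0]), (2, [0]), (2, [0]), (2, [0]), (2, [0]), (2, [0]), (2, [0]), (2, [0]), (2, [0]), (2, [0]), (2, [0]), (2, [0]), (2, [0]), (2, [0]), (2, [0]), (2, [0]), (2, [0]), (2, [0]), (2, [0]), (2, [0]), (2, [0]), (2, [0]), (2, [0]), (2, [0]), (2, [0]), (2, [0]), (2, [0]), (2, [0]), (2, [0]), (2, [0]), (2, [0]), (2, [0]), (2, [0]), (2, [0]), (2, [0]), (2, [0]), (2, [0]), (2, [0]), (2, [0]), (2, [0]), (2, [0]), (2, [0]), (2, [0]), (2, [0]), (2, [0]),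 (2, [0]), (2, [0]), (2, [0]), (2, [0]), (2, [0]), (2, [0]), (2, [0]), (2, [0]), (2, [0]), (2, [0]), (2, [0]), (2, [0]), (2, [0]), (2, [0]), (2, [0]), (2, [0]), (2, [0]), (2, [0]), (2, [0]), (2, [0]), (2, [0]), (2, [0]), (2, [0]), (2, [0]), (2, [0]), (2, [0]), (2, [0]), (2, [0]), (2, [0]), (2, [0]), (2, [0]), (2, [0]), (2, [0]), (2, [0]), (2, [0]), (2, [0]), (2, [0]), (2, [0]), (2, [0]), (2, [0]), (2, [0]), (2, [0]), (2, [0]), (2, [0]), (2, [0]), (2, [0]), (2, [0]), (2, [0]), (2, [0]), (2, [0]), (2, [0]), (2, [0]), (2, [0])]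

/-- The list `sorts`. -/
def sorts : List (ℕ × List ℕ) := sorts0 ++ sorts1 ++ sorts2 ++ sorts3 ++ sorts4 ++ sorts5 ++ sorts6 ++ sorts7

/-- A part of `squares`. -/
def squares0 : List ℕ := [0, 0, 0, 0, 1, 1, 1, 1, 1, 1, 1, 1, 1, 1, 1, 1, 1, 1, 1, 1, 0, 0, 0, 0, 0, 0, 0, 0, 0, 0, 0, 0, 0, 0, 0, 0, 0, 0, 0, 0, 0, 0, 0, 0, 1, 1, 1, 1, 0, 0, 0, 0, 0, 0, 0, 0, 0, 0, 0, 0, 1, 1, 1, 1, 2, 2, 2, 2, 2, 2, 2, 2, 3, 3, 3, 3, 2, 2, 2, 2, 3, 3, 3, 3, 3, 3, 3, 3, 2, 2, 2, 2, 3, 3, 3, 3, 0, 0, 0, 0, 1, 1, 1, 1, 0, 0, 0, 0, 0, 0, 0, 0, 0, 0, 0, 0, 1, 1, 1, 1, 0, 0, 0, 0, 0, 0, 0, 0, 2, 2, 2, 2, 3, 3, 3, 3, 3, 3, 3, 3, 3, 3, 3, 3, 1, 1, 1, 1, 0, 0, 0, 0, 0, 0, 0, 0, 0, 0, 0, 0, 2, 2, 2, 2, 2, 2, 2, 2, 2, 2, 2, 2, 3, 3, 3, 3, 0, 0, 0, 0, 0, 0, 0, 0, 0, 0, 0, 0, 1, 1, 1, 1, 0, 0, 0, 0, 0, 0,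 0, 0, 1, 1, 1, 1, 0, 0, 0, 0, 3, 3, 3, 3, 3, 3, 3, 3, 2, 2, 2, 2, 3, 3, 3, 3, 2, 2, 2, 2, 3, 3, 3, 3, 2, 2, 2, 2, 2, 2, 2, 2, 0, 0, 0, 0, 1, 1, 1, 1, 0, 0, 0, 0, 0, 0, 0, 0]

/-- A part of `squares`. -/
def squares1 : List ℕ := [96, 96, 97, 97, 96, 96, 97, 97, 102, 102, 103, 103, 103, 103, 102, 102, 99, 99, 98, 98, 99, 99, 98, 98, 101, 101, 100, 100, 100, 100, 101, 101, 119, 119, 118, 118, 118, 118, 119, 119, 112, 112, 113, 113, 112, 112, 113, 113, 117, 117, 116, 116, 116, 116, 117, 117, 114, 114, 115, 115, 114, 114, 115, 115, 116, 116, 117, 117, 117, 117, 116, 116, 114, 114, 115, 115, 114, 114, 115, 115, 119, 119, 118, 118, 118, 118, 119, 119, 113, 113, 112, 112, 113, 113, 112, 112, 96, 96, 97, 97, 96, 96, 97, 97, 103, 103, 102, 102, 102, 102, 103, 103, 98, 98, 99, 99, 98,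 98, 99, 99, 101, 101, 100, 100, 100, 100, 101, 101, 6, 6, 7, 7, 6, 6, 7, 7, 1, 1, 0, 0, 0, 0, 1, 1, 7, 7, 6, 6, 7, 7, 6, 6, 0, 0, 1, 1, 1, 1, 0, 0, 18, 18, 19, 19, 19, 19, 18, 18, 20, 20, 21, 21, 20, 20, 21, 21, 18, 18, 19, 19, 19, 19, 18, 18, 20, 20, 21, 21, 20, 20, 21, 21, 17, 17, 16, 16, 16, 16, 17, 17, 22, 22, 23, 23, 22, 22, 23, 23, 16, 16, 17, 17, 17, 17, 16, 16, 23, 23, 22, 22, 23, 23, 22, 22, 6, 6, 7, 7, 6, 6, 7, 7, 0, 0, 1, 1, 1, 1, 0, 0, 6, 6, 7, 7, 6, 6, 7, 7, 0, 0, 1, 1, 1, 1, 0, 0]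

/-- A part of `squares`. -/
def squares2 : List ℕ := [60, 60, 61, 61, 60, 60, 61, 61, 61, 61, 60, 60, 60, 60, 61, 61, 62, 62, 63, 63, 62, 62, 63, 63, 63, 63, 62, 62, 62, 62, 63, 63, 62, 62, 63, 63, 63, 63, 62, 62, 62, 62, 63, 63, 62, 62, 63, 63, 61, 61, 60, 60, 60, 60, 61, 61, 61, 61, 60, 60, 61, 61, 60, 60, 44, 44, 45, 45, 45, 45, 44, 44, 45, 45, 44, 44, 45, 45, 44, 44, 46, 46, 47, 47, 47, 47, 46, 46, 47, 47, 46, 46, 47, 47, 46, 46, 44, 44, 45, 45, 44, 44, 45, 45, 44, 44, 45, 45, 45, 45, 44, 44, 47, 47, 46, 46, 47, 47, 46, 46, 47, 47, 46, 46, 46, 46, 47, 47, 19, 19, 18, 18, 19, 19, 18, 18, 18, 18, 19, 19, 19, 19, 18, 18, 19, 19, 18, 18, 19, 19, 18, 18, 18, 18, 19, 19, 19, 19, 18, 18, 17, 17, 16, 16, 16, 16, 17, 17, 17, 17, 16, 16, 17, 17, 16, 16, 16, 16, 17, 17, 17, 17, 16,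 16, 16, 16, 17, 17, 16, 16, 17, 17, 1, 1, 0, 0, 0, 0, 1, 1, 0, 0, 1, 1, 0, 0, 1, 1, 1, 1, 0, 0, 0, 0, 1, 1, 0, 0, 1, 1, 0, 0, 1, 1, 1, 1, 0, 0, 1, 1, 0, 0, 1, 1, 0, 0, 0, 0, 1, 1, 0, 0, 1, 1, 0, 0, 1, 1, 0, 0, 1, 1, 1, 1, 0, 0]

/-- A part of `squares`. -/
def squares3 : List ℕ := [20, 20, 20, 20, 21, 21, 21, 21, 19, 19, 19, 19, 19, 19, 19, 19, 21, 21, 21, 21, 20, 20, 20, 20, 18, 18, 18, 18, 18, 18, 18, 18, 0, 0, 0, 0, 0, 0, 0, 0, 6, 6, 6, 6, 7, 7, 7, 7, 0, 0, 0, 0, 0, 0, 0, 0, 6, 6, 6, 6, 7, 7, 7, 7, 16, 16, 16, 16, 16, 16, 16, 16, 23, 23, 23, 23, 22, 22, 22, 22, 17, 17, 17, 17, 17, 17, 17, 17, 22, 22, 22, 22, 23, 23, 23, 23, 6, 6, 6, 6, 7, 7, 7, 7, 0, 0, 0, 0, 0, 0, 0, 0, 6, 6, 6, 6, 7, 7, 7, 7, 0, 0, 0, 0, 0, 0, 0, 0, 77, 77, 77, 77, 76, 76, 76, 76, 74, 74, 74, 74, 74, 74,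 74, 74, 78, 78, 78, 78, 79, 79, 79, 79, 73, 73, 73, 73, 73, 73, 73, 73, 90, 90, 90, 90, 90, 90, 90, 90, 92, 92, 92, 92, 93, 93, 93, 93, 88, 88, 88, 88, 88, 88, 88, 88, 94, 94, 94, 94, 95, 95, 95, 95, 73, 73, 73, 73, 73, 73, 73, 73, 78, 78, 78, 78, 79, 79, 79, 79, 74, 74, 74, 74, 74, 74, 74, 74, 77, 77, 77, 77, 76, 76, 76, 76, 92, 92, 92, 92, 93, 93, 93, 93, 90, 90, 90, 90, 90, 90, 90, 90, 94, 94, 94, 94, 95, 95, 95, 95, 88, 88, 88, 88, 88, 88, 88, 88]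

/-- The list `squares`. -/
def squares : List ℕ := squares0 ++ squares1 ++ squares2 ++ squares3

end CfsgLib.CoThreeRec.Inv
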