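import Cfsg.Agent.Lib.CoThreeRec.Fusion
import Cfsg.Agent.Lib.CoThreeRec.FusionData

/-!
# The involution classes and the squares of the double cover, from a Sylow 2-subgroup
-/

set_option autoImplicit false
set_option maxRecDepth 100000
set_option Elab.async false

namespace CfsgLib.CoThreeRec.Inv

open CfsgLib.LeechPSU CfsgLib.CoThreeRec

/-- Four points. -/
def sepPts : List ℕ := [13, 2, 101, 57]

/-- The points separate the values of words. -/
def Sep : Prop := ∀ u v : List ℕ, (∀ l ∈ u, l < 4) → (∀ l ∈ v, l < 4) →
  (∀ a ∈ sepPts, evalPt u a = evalPt v a) → ev xm u = ev xm v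

theorem ev_app {M : Type*} [Monoid M] (f : ℕ → M) (u w : List ℕ) : ev f (u ++ w) = ev f u * ev f w := by simp [ev]

/-- Two codes are inverse. -/
noncomputable def invPair (c d : ℕ) : Bool :=
  (List.range 276).all fun a => Nat.blt (fieldAt c a) 276 && Nat.beq (fieldAt d (fieldAt c a)) a

theorem invPair_ok : ((List.range 4).all fun l => invPair (codes.getD l 0) (codes.getD (flipLetter l) 0)) = true := by
  decide +kernel

theorem letter_code {l : ℕ} (hl : l < 4) : IsCode (codes.getD l 0) (letter l) := by
  classical
  have hf : flipLetter l < 4 ∧ flipLetter (flipLetter l) = l := by unfold flipLetter; split_ifs <;> omega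
  have h := List.all_eq_true.1 invPair_ok
  have h1 := h l (List.mem_range.2 hl)
  have h2 := h (flipLetter l) (List.mem_range.2 hf.1)
  rw [hf.2] at h2
  simp only [invPair, List.all_eq_true, List.mem_range, Bool.and_eq_true, Nat.blt_eq, Nat.beq_eq] at h1 h2
  have hex : ∃ σ : Equiv.Perm (Fin 276), IsCode (codes.getD l 0) σ :=
    ⟨{ toFun := fun a => ⟨fieldAt (codes.getD l 0) a, (h1 a a.isLt).1⟩
       invFun := fun a => ⟨fieldAt (codes.getD (flipLetter l) 0) a, (h2 a a.isLt).1⟩
       left_inv := fun a => Fin.ext (h1 a a.isLt).2
       right_inv := fun a => Fin.ext (h2 a a.isLt).2 }, fun _ => rfl⟩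
  rw [letter, codePerm, dif_pos hex]
  exact hex.choose_spec

/-- The permutation of a word. -/
noncomputable def perm (w : List ℕ) : Equiv.Perm (Fin 276) := ((ev xm w : Cm) : Equiv.Perm (Fin 276))

theorem perm_apply : ∀ (w : List ℕ), (∀ l ∈ w, l < 4) → ∀ a : Fin 276, (perm w a : ℕ) = evalPt w a := by
  intro w
  induction w with
  | nil => intro _ a; rfl
  | cons l w ih =>
    intro h a
    have hl := h l List.mem_cons_self
    have e : perm (l :: w) = letter l * perm w := by
      simp only [perm, ev, List.map_cons, List.prod_cons, Subgroup.coe_mul, xm, dif_pos hl]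
    rw [e, Equiv.Perm.mul_apply, letter_code hl, ih (fun b hb => h b (List.mem_cons_of_mem _ hb))]
    rfl

/-- Short letters. -/
def okW (w : List ℕ) : Bool := w.all fun l => Nat.blt l 4

/-- Two words agree on the separating points. -/
noncomputable def eqB (u v : List ℕ) : Bool :=
  okW u && okW v && sepPts.all fun a => Nat.beq (evalPt u a) (evalPt v a)

/-- Two words differ on a separating point. -/
noncomputable def neB (u v : List ℕ) : Bool :=
  okW u && okW v && sepPts.any fun a => !Nat.beq (evalPt u a) (evalPt v a)

theorem okW_iff {w : List ℕ} : okW w = true ↔ ∀ l ∈ w, l < 4 := by simp [okW, List.all_eq_true]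

theorem eqB_spec (hsep : Sep) {u v : List ℕ} (h : eqB u v = true) : ev xm u = ev xm v := by
  simp only [eqB, Bool.and_eq_true, List.all_eq_true, Nat.beq_eq, okW_iff] at h
  exact hsep u v h.1.1 h.1.2 h.2

theorem neB_spec {u v : List ℕ} (h : neB u v = true) : ev xm u ≠ ev xm v := by
  simp only [neB, Bool.and_eq_true, List.any_eq_true, okW_iff] at h
  obtain ⟨⟨hu, hv⟩, a, ha, h⟩ := h
  intro e
  have ha' : a < 276 := by simp [sepPts] at ha; omega
  have e' : perm u ⟨a, ha'⟩ = perm v ⟨a, ha'⟩ := by rw [perm, perm, e]
  have := congrArg Fin.val e'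
  rw [perm_apply u hu, perm_apply v hv] at this
  simp [this] at h

/-- The elements: each generator doubles the list. -/
def elemsFrom (E : List (List ℕ)) : List (List ℕ) → List (List ℕ)
  | [] => E
  | w :: ws => elemsFrom (E ++ E.map (w ++ ·)) ws

/-- The elements of the Sylow 2-subgroup. -/
def sylElems : List (List ℕ) := elemsFrom [[]] sylGens

/-- The generators square and conjugate into the group of the earlier ones and lie outside it. -/
noncomputable def stepsB (E : List (List ℕ)) (past : List (List ℕ)) : List (List ℕ) → List (List ℕ) → Bool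
  | [], _ => true
  | w :: ws, rs => match rs with
    | [] => false
    | r :: rs =>
      (match r with
        | [] => false
        | j :: js => decide (j < E.length) && eqB (w ++ w) (E.getD j []) &&
            decide (js.length = past.length) &&
            ((past.zip js).all fun p => decide (p.2 < E.length) && eqB (w ++ p.1) (E.getD p.2 [] ++ w))) &&
        E.all (fun e => neB w e) && stepsB (E ++ E.map (w ++ ·)) (past ++ [w]) ws rs

theorem steps_sound (hsep : Sep) : ∀ (ws rs E past : List (List ℕ)) (H : Subgroup Cm),
    H = Subgroup.closure (ev xm '' {w | w ∈ past}) → (∀ g, g ∈ H ↔ ∃ e ∈ E, ev xm e = g) →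
    stepsB E past ws rs = true →
    ∃ S : Subgroup Cm, Nat.card S = Nat.card H * 2 ^ ws.length ∧ ∀ g, g ∈ S ↔ ∃ e ∈ elemsFrom E ws, ev xm e = g := by
  intro ws
  induction ws with
  | nil => intro rs E past H _ hmem _; exact ⟨H, by simp, hmem⟩
  | cons w ws ih =>
    intro rs E past H hH hmem h
    match rs with
    | [] => simp [stepsB] at h
    | [] :: rs => simp [stepsB] at h
    | (j :: js) :: rs =>
      simp only [stepsB, Bool.and_eq_true, decide_eq_true_eq, List.all_eq_true] at h
      obtain ⟨⟨⟨⟨⟨hj, hsq⟩, hlen⟩, hconj⟩, hout⟩, hrest⟩ := h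
      set g := ev xm w with hg
      have hget : ∀ i, i < E.length → ev xm (E.getD i []) ∈ H := fun i hi =>
        (hmem _).2 ⟨_, by rw [List.getD_eq_getElem _ _ hi]; exact List.getElem_mem hi, rfl⟩
      have hgg : g * g ∈ H := by rw [hg, ← ev_app, eqB_spec hsep hsq]; exact hget j hj
      have hnorm : ∀ x ∈ H, g * x * g⁻¹ ∈ H := by
        have hle : H ≤ H.comap (MulAut.conj g).toMonoidHom := by
          conv_lhs => rw [hH]
          rw [Subgroup.closure_le]
          rintro _ ⟨v, hv, rfl⟩
          obtain ⟨i, hi, rfl⟩ := List.getElem_of_mem hv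
          have hz : (past[i], js[i]'(by omega)) ∈ past.zip js := by
            have := List.getElem_mem (show i < (past.zip js).length by simp; omega)
            simpa using this
          obtain ⟨h1, h2⟩ := hconj _ hz
          show g * ev xm past[i] * g⁻¹ ∈ H
          rw [hg, ← ev_app, eqB_spec hsep h2, ev_app, mul_inv_cancel_right]
          exact hget _ h1
        exact fun x hx => hle hx
      have hnorm' : ∀ x ∈ H, g⁻¹ * x * g ∈ H := fun x hx => by
        rw [show g⁻¹ * x * g = (g * g)⁻¹ * (g * x * g⁻¹) * (g * g) by group]
        exact mul_mem (mul_mem (inv_mem hgg) (hnorm x hx)) hgg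
      let H' : Subgroup Cm :=
        { carrier := {x | x ∈ H ∨ g⁻¹ * x ∈ H}
          one_mem' := Or.inl (one_mem _)
          mul_mem' := by
            rintro a b (ha | ha) (hb | hb)
            · exact Or.inl (mul_mem ha hb)
            · refine Or.inr ?_
              rw [show g⁻¹ * (a * b) = g⁻¹ * a * g * (g⁻¹ * b) by group]
              exact mul_mem (hnorm' a ha) hb
            · refine Or.inr ?_
              rw [← mul_assoc]
              exact mul_mem ha hb
            · refine Or.inl ?_
              rw [show a * b = g * g * (g⁻¹ * (g⁻¹ * a) * g) * (g⁻¹ * b) by group]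
              exact mul_mem (mul_mem hgg (hnorm' _ ha)) hb
          inv_mem' := by
            rintro a (ha | ha)
            · exact Or.inl (inv_mem ha)
            · refine Or.inr ?_
              rw [show g⁻¹ * a⁻¹ = g⁻¹ * (g⁻¹ * a)⁻¹ * g * (g * g)⁻¹ by group]
              exact mul_mem (hnorm' _ (inv_mem ha)) (inv_mem hgg) }
      have hgH : g ∉ H := fun hgH => by
        obtain ⟨e, he, heq⟩ := (hmem g).1 hgH
        exact neB_spec (hout e he) heq.symm
      have hcard : Nat.card H' = Nat.card H * 2 := by
        classical
        have hset : (H' : Set Cm) = (H : Set Cm) ∪ (g * ·) '' (H : Set Cm) := by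
          ext x
          constructor
          · rintro (hx | hx)
            · exact Or.inl hx
            · exact Or.inr ⟨g⁻¹ * x, hx, mul_inv_cancel_left g x⟩
          · rintro (hx | ⟨y, hy, rfl⟩)
            · exact Or.inl hx
            · exact Or.inr (show g⁻¹ * (g * y) ∈ H by rw [inv_mul_cancel_left]; exact hy)
        have hdis : Disjoint (H : Set Cm) ((g * ·) '' (H : Set Cm)) := by
          rw [Set.disjoint_left]
          rintro _ hx ⟨y, hy, rfl⟩
          exact hgH (by have := mul_mem hx (inv_mem hy); rwa [mul_inv_cancel_right] at this)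
        rw [← SetLike.coe_sort_coe, Nat.card_coe_set_eq, hset, Set.ncard_union_eq hdis,
          Set.ncard_image_of_injective _ (mul_right_injective g), ← Nat.card_coe_set_eq,
          SetLike.coe_sort_coe, mul_two]
      have hmem' : ∀ x, x ∈ H' ↔ ∃ e ∈ E ++ E.map (w ++ ·), ev xm e = x := by
        intro x
        constructor
        · rintro (hx | hx)
          · obtain ⟨e, he, rfl⟩ := (hmem x).1 hx
            exact ⟨e, List.mem_append_left _ he, rfl⟩
          · obtain ⟨e, he, heq⟩ := (hmem _).1 hx
            exact ⟨w ++ e, List.mem_append_right _ (List.mem_map.2 ⟨e, he, rfl⟩),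
              by rw [ev_app, heq, ← hg, mul_inv_cancel_left]⟩
        · rintro ⟨e, he, rfl⟩
          rcases List.mem_append.1 he with he | he
          · exact Or.inl ((hmem _).2 ⟨e, he, rfl⟩)
          · obtain ⟨e', he', rfl⟩ := List.mem_map.1 he
            exact Or.inr ((hmem _).2 ⟨e', he', by rw [ev_app, ← hg, inv_mul_cancel_left]⟩)
      have hH' : H' = Subgroup.closure (ev xm '' {v | v ∈ past ++ [w]}) := by
        have hle : H ≤ Subgroup.closure (ev xm '' {v | v ∈ past ++ [w]}) := by
          rw [hH]
          exact Subgroup.closure_mono (Set.image_mono fun v hv => List.mem_append_left _ hv)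
        refine le_antisymm ?_ ((Subgroup.closure_le _).2 ?_)
        · rintro x (hx | hx)
          · exact hle hx
          · rw [← mul_inv_cancel_left g x]
            exact mul_mem (Subgroup.subset_closure ⟨w, by simp, rfl⟩) (hle hx)
        · rintro _ ⟨v, hv, rfl⟩
          rcases List.mem_append.1 hv with hv | hv
          · exact Or.inl (hH ▸ Subgroup.subset_closure ⟨v, hv, rfl⟩)
          · rw [List.mem_singleton.1 hv]
            exact Or.inr (by rw [← hg, inv_mul_cancel]; exact one_mem _)
      obtain ⟨S, hS, hSm⟩ := ih rs _ _ H' hH' hmem' hrest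
      refine ⟨S, ?_, hSm⟩
      rw [hS, hcard, List.length_cons, pow_succ']
      ring

theorem steps_ok : stepsB [[]] [] sylGens sylRels = true := by decide +kernel

/-- The sort of one element. -/
noncomputable def sortB (e : List ℕ) (s : ℕ × List ℕ) : Bool :=
  match s.1 with
  | 0 => eqB e []
  | 1 => eqB e tWord
  | 2 => neB (e ++ e) []
  | 3 => eqB (s.2 ++ e) (xWord ++ s.2)
  | 4 => eqB (s.2 ++ e) (yWord ++ s.2)
  | _ => false

/-- A part of the list of sorts holds. -/
noncomputable def sortPart (i : ℕ) : Bool :=
  (((sylElems.zip sorts).drop (256 * i)).take 256).all fun p => sortB p.1 p.2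

theorem sort0 : sortPart 0 = true := by decide +kernel
theorem sort1 : sortPart 1 = true := by decide +kernel
theorem sort2 : sortPart 2 = true := by decide +kernel
theorem sort3 : sortPart 3 = true := by decide +kernel

/-- A part of the list of squares holds. -/
noncomputable def squarePart (i : ℕ) : Bool :=
  (((sylElems.zip squares).drop (128 * i)).take 128).all fun p =>
    decide (p.2 < 120) && decide ((sorts.getD p.2 (4, [])).1 ≠ 4) && eqB (p.1 ++ p.1) (sylElems.getD p.2 [])

theorem square0 : squarePart 0 = true := by decide +kernel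
theorem square1 : squarePart 1 = true := by decide +kernel
theorem square2 : squarePart 2 = true := by decide +kernel
theorem square3 : squarePart 3 = true := by decide +kernel
theorem square4 : squarePart 4 = true := by decide +kernel
theorem square5 : squarePart 5 = true := by decide +kernel
theorem square6 : squarePart 6 = true := by decide +kernel
theorem square7 : squarePart 7 = true := by decide +kernel

theorem lengths_ok : sylElems.length = 1024 ∧ sorts.length = 1024 ∧ squares.length = 1024 := by
  refine ⟨?_, ?_, ?_⟩ <;> decide +kernel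

theorem small_ok : eqB (xWord ++ xWord) [] = true ∧ neB xWord [] = true ∧ neB xWord tWord = true ∧
    eqB (yWord ++ yWord) [] = true ∧ neB yWord [] = true ∧ neB yWord tWord = true ∧ neB tWord [] = true ∧
    eqB (tWord ++ tWord) [] = true ∧ eqB (rootX ++ rootX) tWord = true ∧ eqB (rootX ++ xWord) (xWord ++ rootX) = true ∧
    eqB (rootY ++ rootY) tWord = true ∧ eqB (rootY ++ yWord) (yWord ++ rootY) = true := by
  decide +kernel

theorem fix_counts : ((List.range 276).filter fun a => Nat.beq (evalPt xWord a) a).length = 36 ∧
    ((List.range 276).filter fun a => Nat.beq (evalPt yWord a) a).length = 12 := by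
  decide +kernel

end CfsgLib.CoThreeRec.Inv
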