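import Cfsg.Agent.Lib.CoThreeRec.FusionCheck
import Mathlib.GroupTheory.Sylow

/-!
# The facts on the classes of the double cover
-/

set_option autoImplicit false
set_option maxRecDepth 100000

namespace CfsgLib.CoThreeRec.Inv

open CfsgLib.LeechPSU CfsgLib.CoThreeRec

theorem central_ok : ((List.range 4).all fun l => eqB (l :: tWord) (tWord ++ [l])) = true := by decide +kernel

theorem tm_central (hsep : Sep) (c : Cm) : Commute tm c := by
  have key : ∀ l, l < 4 → Commute tm (xm l) := fun l hl => by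
    have h := eqB_spec hsep (List.all_eq_true.1 central_ok l (List.mem_range.2 hl))
    rw [ev_app] at h
    show tm * xm l = xm l * tm
    simpa [ev, tm] using h.symm
  have h2 : ∀ x : Equiv.Perm (Fin 276), x ∈ Cm → Commute (tm : Equiv.Perm (Fin 276)) x := by
    intro x hx
    induction hx using Subgroup.closure_induction with
    | mem y hy =>
      obtain ⟨l, rfl⟩ := hy
      have := congrArg Subtype.val (key l l.isLt).eq
      simp only [Subgroup.coe_mul, xm, dif_pos l.isLt] at this
      exact this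
    | one => exact Commute.one_right _
    | mul a b _ _ ha hb => exact ha.mul_right hb
    | inv a _ ha => exact ha.inv_right
  exact Subtype.ext (h2 c c.2).eq

/-- The number of fixed points. -/
noncomputable def fixedCard (c : Cm) : ℕ :=
  (Finset.univ.filter fun a : Fin 276 => (c : Equiv.Perm (Fin 276)) a = a).card

theorem fixedCard_conj (c v : Cm) : fixedCard (c * v * c⁻¹) = fixedCard v := by
  refine (Finset.card_equiv (c : Equiv.Perm (Fin 276)) fun a => ?_).symm
  rw [Finset.mem_filter, Finset.mem_filter]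
  simp [Equiv.Perm.mul_apply, Equiv.apply_eq_iff_eq]

theorem fixedCard_ev {w : List ℕ} (hw : ∀ l ∈ w, l < 4) :
    fixedCard (ev xm w) = ((List.range 276).filter fun a => Nat.beq (evalPt w a) a).length := by
  have h : ∀ a : Fin 276, (perm w a = a) ↔ Nat.beq (evalPt w a) a = true := fun a => by
    rw [Nat.beq_eq, ← perm_apply w hw a, Fin.val_inj]
  rw [fixedCard, ← List.toFinset_card_of_nodup (List.nodup_range.filter _)]
  refine Finset.card_bij (fun a _ => a.val) (fun a ha => ?_) (fun a _ b _ e => Fin.ext e) (fun b hb => ?_)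
  · rw [List.mem_toFinset, List.mem_filter, List.mem_range]
    exact ⟨a.isLt, (h a).1 (Finset.mem_filter.1 ha).2⟩
  · rw [List.mem_toFinset, List.mem_filter, List.mem_range] at hb
    exact ⟨⟨b, hb.1⟩, Finset.mem_filter.2 ⟨Finset.mem_univ _, (h ⟨b, hb.1⟩).2 hb.2⟩, rfl⟩

/-- The involutions of the two classes are not conjugate. -/
theorem nbr_sec (c : Cm) : c * nbr * c⁻¹ ≠ sec := fun h => by
  have := fixedCard_conj c nbr
  rw [h, nbr, sec, fixedCard_ev (by decide), fixedCard_ev (by decide), fix_counts.1, fix_counts.2] at this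
  omega

theorem exists_sylow (hcard : Nat.card Cm = 2903040) (hsep : Sep) :
    ∃ S : Sylow 2 Cm, ∀ g, g ∈ (S : Subgroup Cm) ↔ ∃ e ∈ sylElems, ev xm e = g := by
  haveI : Fact (Nat.Prime 2) := ⟨Nat.prime_two⟩
  obtain ⟨S, hS, hmem⟩ := steps_sound hsep sylGens sylRels [[]] [] ⊥ (by simp)
    (fun g => by simp [ev, eq_comm]) steps_ok
  rw [Subgroup.card_bot, one_mul, show sylGens.length = 10 from rfl] at hS
  have hi : ¬ 2 ∣ S.index := by
    have h := S.card_mul_index
    rw [hS, hcard] at h
    omega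
  exact ⟨(IsPGroup.of_card hS).toSylow hi, hmem⟩

theorem sort_spec {p : List ℕ × (ℕ × List ℕ)} (hp : p ∈ sylElems.zip sorts) : sortB p.1 p.2 = true := by
  obtain ⟨i, hi, rfl⟩ := List.getElem_of_mem hp
  have hlen : (sylElems.zip sorts).length = 1024 := by
    rw [List.length_zip, lengths_ok.1, lengths_ok.2.1]; rfl
  have key : ∀ j, sortPart j = true → 256 * j ≤ i → i < 256 * j + 256 →
      sortB (sylElems.zip sorts)[i].1 (sylElems.zip sorts)[i].2 = true := by
    intro j hj h1 h2
    refine List.all_eq_true.1 hj _ (List.mem_iff_getElem.2 ⟨i - 256 * j, ?_, ?_⟩)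
    · simp only [List.length_take, List.length_drop]; omega
    · rw [List.getElem_take, List.getElem_drop]; congr 1; omega
  rcases (by omega : i < 256 ∨ (256 ≤ i ∧ i < 512) ∨ (512 ≤ i ∧ i < 768) ∨ (768 ≤ i ∧ i < 1024)) with h | h | h | h
  exacts [key 0 sort0 (by omega) (by omega), key 1 sort1 (by omega) (by omega), key 2 sort2 (by omega) (by omega),
    key 3 sort3 (by omega) (by omega)]

theorem square_spec {p : List ℕ × ℕ} (hp : p ∈ sylElems.zip squares) :
    p.2 < 120 ∧ (sorts.getD p.2 (4, [])).1 ≠ 4 ∧ eqB (p.1 ++ p.1) (sylElems.getD p.2 []) = true := by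
  obtain ⟨i, hi, rfl⟩ := List.getElem_of_mem hp
  have hlen : (sylElems.zip squares).length = 1024 := by
    rw [List.length_zip, lengths_ok.1, lengths_ok.2.2]; rfl
  have key : ∀ j, squarePart j = true → 128 * j ≤ i → i < 128 * j + 128 → (sylElems.zip squares)[i].2 < 120 ∧
      (sorts.getD (sylElems.zip squares)[i].2 (4, [])).1 ≠ 4 ∧
      eqB ((sylElems.zip squares)[i].1 ++ (sylElems.zip squares)[i].1)
        (sylElems.getD (sylElems.zip squares)[i].2 []) = true := by
    intro j hj h1 h2
    have h := List.all_eq_true.1 hj (sylElems.zip squares)[i] (List.mem_iff_getElem.2 ⟨i - 128 * j,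
      by simp only [List.length_take, List.length_drop]; omega,
      by rw [List.getElem_take, List.getElem_drop]; congr 1; omega⟩)
    simp only [Bool.and_eq_true, decide_eq_true_eq] at h
    exact ⟨h.1.1, h.1.2, h.2⟩
  rcases (by omega : i < 128 ∨ (128 ≤ i ∧ i < 256) ∨ (256 ≤ i ∧ i < 384) ∨ (384 ≤ i ∧ i < 512) ∨
    (512 ≤ i ∧ i < 640) ∨ (640 ≤ i ∧ i < 768) ∨ (768 ≤ i ∧ i < 896) ∨ (896 ≤ i ∧ i < 1024)) with
    h | h | h | h | h | h | h | h
  exacts [key 0 square0 (by omega) (by omega), key 1 square1 (by omega) (by omega), key 2 square2 (by omega) (by omega),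
    key 3 square3 (by omega) (by omega), key 4 square4 (by omega) (by omega), key 5 square5 (by omega) (by omega),
    key 6 square6 (by omega) (by omega), key 7 square7 (by omega) (by omega)]

theorem mem_zip_right {α β : Type*} {A : List α} {B : List β} (h : A.length = B.length) {a : α} (ha : a ∈ A) :
    ∃ b, (a, b) ∈ A.zip B := by
  obtain ⟨i, hi, rfl⟩ := List.getElem_of_mem ha
  exact ⟨B[i]'(h ▸ hi), List.mem_iff_getElem.2 ⟨i, by simp; omega, by simp⟩⟩

theorem getD_zip {α β : Type*} {A : List α} {B : List β} (h : A.length = B.length) {i : ℕ} (hi : i < A.length) (d : α)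
    (d' : β) : (A.getD i d, B.getD i d') ∈ A.zip B :=
  List.mem_iff_getElem.2 ⟨i, by simp; omega, by
    rw [List.getD_eq_getElem _ _ hi, List.getD_eq_getElem _ _ (h ▸ hi)]; simp⟩

theorem ev_word_conj {w e v : List ℕ} (hsep : Sep) (h : eqB (w ++ e) (v ++ w) = true) :
    ev xm w * ev xm e * (ev xm w)⁻¹ = ev xm v := by
  rw [← ev_app, eqB_spec hsep h, ev_app, mul_inv_cancel_right]

theorem sec_sq (hsep : Sep) : sec * sec = 1 := by
  rw [sec, ← ev_app]; exact eqB_spec hsep small_ok.2.2.2.1

/-- The facts used by the fusion. -/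
theorem classFacts (hcard : Nat.card Cm = 2903040) (hsep : Sep) : ClassFacts := by
  obtain ⟨hx2, hx1, hxt, hy2, hy1, hyt, -, -, hrx, hrxc, hry, hryc⟩ := small_ok
  obtain ⟨S, hS⟩ := exists_sylow hcard hsep
  have hlen1 : sylElems.length = sorts.length := lengths_ok.1.trans lengths_ok.2.1.symm
  have hlen2 : sylElems.length = squares.length := lengths_ok.1.trans lengths_ok.2.2.symm
  have hsec1 : sec ≠ 1 := neB_spec (v := []) hy1
  have hsect : sec ≠ tm := neB_spec hyt
  refine ⟨fun c hc hct => ?_, ?_, neB_spec hxt, hsect, ⟨ev xm rootX, ?_, ?_⟩, ⟨ev xm rootY, ?_, ?_⟩, fun r hr => ?_⟩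
  · haveI : Fact (Nat.Prime 2) := ⟨Nat.prime_two⟩
    obtain ⟨a, ha⟩ := CfsgLib.Invol.exists_mem_sylow_orderOf_two S hc
    obtain ⟨e, he, heq⟩ := (hS _).1 ha
    obtain ⟨⟨k, w⟩, hk⟩ := mem_zip_right hlen1 he
    have hs := sort_spec hk
    have h2 : orderOf (ev xm e) = 2 := by rw [heq, CfsgLib.CoThreeRec.orderOf_conjugate]; exact hc
    simp only [sortB] at hs
    split at hs
    · rw [eqB_spec hsep hs] at h2
      simp [ev] at h2
    · exfalso
      have e1 : a * c * a⁻¹ = tm := heq.symm.trans (eqB_spec hsep hs)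
      apply hct
      have e2 : c = a⁻¹ * tm * a := by rw [← e1]; group
      rw [e2, mul_assoc, (tm_central hsep a).eq, inv_mul_cancel_left]
    · exfalso
      apply neB_spec hs
      rw [ev_app]
      have := pow_orderOf_eq_one (ev xm e)
      rw [h2, pow_two] at this
      simpa [ev] using this
    · refine ⟨ev xm w * a, Or.inl ?_⟩
      rw [nbr, ← ev_word_conj hsep hs, heq]; group
    · refine ⟨ev xm w * a, Or.inr ?_⟩
      rw [sec, ← ev_word_conj hsep hs, heq]; group
    · simp at hs
  · rw [nbr, ← ev_app]; exact eqB_spec hsep hx2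
  · rw [← ev_app]; exact eqB_spec hsep hrx
  · show ev xm rootX * nbr = nbr * ev xm rootX
    rw [nbr, ← ev_app, ← ev_app]; exact eqB_spec hsep hrxc
  · rw [← ev_app]; exact eqB_spec hsep hry
  · show ev xm rootY * sec = sec * ev xm rootY
    rw [sec, ← ev_app, ← ev_app]; exact eqB_spec hsep hryc
  · -- a square root of the second involution lies in a conjugate of the Sylow subgroup
    haveI : Fact (Nat.Prime 2) := ⟨Nat.prime_two⟩
    obtain ⟨d, -, hd⟩ := (Nat.dvd_prime_pow Nat.prime_two).1 (show Nat.card ↥(Subgroup.zpowers r) ∣ 2 ^ 2 by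
      rw [Nat.card_zpowers]
      refine orderOf_dvd_of_pow_eq_one ?_
      rw [show r ^ 2 ^ 2 = r * r * (r * r) from (pow_succ r 3).trans (by simp only [pow_succ, pow_zero, one_mul, mul_assoc]), hr, sec_sq hsep])
    obtain ⟨T, hT⟩ := (IsPGroup.of_card hd).exists_le_sylow
    obtain ⟨a, ha⟩ := MulAction.exists_smul_eq Cm T S
    have hmem : a * r * a⁻¹ ∈ (S : Subgroup Cm) := by
      rw [← ha]; exact ⟨r, hT (Subgroup.mem_zpowers r), rfl⟩
    obtain ⟨e, he, heq⟩ := (hS _).1 hmem
    obtain ⟨j, hj⟩ := mem_zip_right hlen2 he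
    obtain ⟨hj1, hj4, hjeq⟩ := square_spec hj
    have hv : ev xm (sylElems.getD j []) = a * sec * a⁻¹ := by
      rw [← eqB_spec hsep hjeq, ev_app, heq, ← hr]; group
    have hs := sort_spec (getD_zip hlen1 (show j < sylElems.length by rw [lengths_ok.1]; exact hj1.trans (by norm_num)) [] (4, []))
    simp only [sortB] at hs
    split at hs
    · have e1 := eqB_spec hsep hs
      rw [hv] at e1
      exact hsec1 (conj_eq_one_iff.1 (show a * sec * a⁻¹ = 1 from e1))
    · have e1 := eqB_spec hsep hs
      rw [hv] at e1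
      apply hsect
      have e2 : sec = a⁻¹ * tm * a := by rw [tm, ← e1]; group
      rw [e2, mul_assoc, (tm_central hsep a).eq, inv_mul_cancel_left]
    · apply neB_spec hs
      rw [ev_app, hv]
      rw [show a * sec * a⁻¹ * (a * sec * a⁻¹) = a * (sec * sec) * a⁻¹ by group, sec_sq hsep]
      simp [ev]
    · rename_i hk
      have e1 := ev_word_conj hsep hs
      rw [hv] at e1
      refine nbr_sec (ev xm (sorts.getD j (4, [])).2 * a)⁻¹ ?_
      rw [nbr, ← e1]; group
    · rename_i hk
      exact hj4 hk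
    · simp at hs

end CfsgLib.CoThreeRec.Inv
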