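import Cfsg.Agent.Lib.CoThreeRec.FusionFacts
import Cfsg.Agent.Lib.CoThreeRec.CoordsModel

/-!
# The class facts of the double cover
-/

set_option autoImplicit false

namespace CfsgLib.CoThreeRec

theorem classFacts : ClassFacts :=
  Inv.classFacts card_Cm fun u v hu hv h => ev_eq_of_pts hu hv (by
    simp only [List.all_eq_true, Nat.beq_eq]
    exact fun a ha => h a ha)

end CfsgLib.CoThreeRec
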