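import Mathlib.Data.Nat.Notation

/-!
# Certificate data: the two triangle relators have no second version
-/

set_option autoImplicit false

namespace CfsgLib.CoThreeRec

/-- Candidate corrections of the first triangle. -/
def triCand1 : List (List ℕ) := [
  [],
  [0, 0, 0, 0],
  [2, 2, 2, 2, 2, 2, 2, 2, 2, 2],
  [3, 0, 2, 2, 1, 2, 0, 2, 1, 2, 0, 2, 0],
  [0, 3, 0, 3, 1, 1, 2, 2, 2, 1, 1, 3, 0, 2, 0],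
  [1, 2, 2, 1, 3, 1, 3, 3, 1, 2, 2, 2, 0, 3, 0],
  [0, 2, 2, 1, 3, 1, 3, 3, 1, 2, 2, 2, 0, 3, 1],
  [3, 1, 2, 1, 1, 3, 0, 3, 3, 0, 0, 2, 0, 2]]

/-- Candidate corrections of the second triangle. -/
def triCand2 : List (List ℕ) := [
  [],
  [0, 0, 0, 0],
  [2, 2, 2, 2, 2, 2, 2, 2, 2, 2],
  [3, 0, 2, 2, 1, 2, 0, 2, 1, 2, 0, 2, 0]]

/-- Elements of the pair centraliser as products of its generators, with short words for them and their images. -/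
def killFacts : List (List ℕ × List ℕ × List ℕ) := [
  ([0, 1, 3, 2], [0, 2, 1, 2, 2, 1, 2, 1, 3, 0, 2, 0, 2], [2, 1, 2, 2, 1, 1, 2, 0, 2, 2, 0, 0, 0, 2]),
  ([2, 0, 2, 3, 1, 1, 2], [0, 3, 0, 2, 2, 2, 0, 3, 3, 3, 0, 0, 3, 0], [3, 1, 3, 1, 3, 0, 2, 2, 1, 1, 2, 1, 1, 2, 1]),
  ([0, 2], [0, 2, 0, 0, 3], [2, 1, 2, 0, 3, 3, 0, 0, 0, 2, 2, 2]),
  ([0, 0, 3, 3, 2], [2, 2, 2, 0, 2, 2, 2, 1, 2, 0, 2, 0, 0, 0], [3, 3, 1, 3, 3, 0, 2, 1, 2, 2, 1, 2, 2, 2]),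
  ([1, 2], [3, 0, 0, 2, 2, 0, 0, 3], [0, 0, 3, 0, 3, 1, 3, 0, 2, 1, 2, 2, 2, 0]),
  ([1, 2, 0, 1, 2, 3, 3], [1, 3, 3, 0, 3, 0, 0, 3, 1, 2, 1, 2, 1], [1, 2, 2, 0, 3, 0, 0, 3, 3, 0, 2, 2, 2, 2, 0, 2]),
  ([0, 1, 3, 0, 0, 1], [2, 2, 1, 2, 0, 2, 2, 1, 3, 1, 3, 3, 1, 3], [2, 1, 2, 2, 1, 1, 1, 2, 1, 2, 0, 2, 1, 3, 3, 1]),
  ([3, 2, 3, 2, 3, 0], [0, 0, 3, 0, 2, 2, 2, 0, 2, 2, 2, 2, 2, 2], [1, 2, 0, 2, 0, 0, 0, 0, 3, 0, 0, 3]),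
  ([3, 0, 1, 2, 2, 1], [0, 3, 3, 3, 0, 3, 3, 3, 1, 2, 0, 3, 1], [2, 0, 2, 0, 0, 0, 0, 3, 0, 0, 3, 1]),
  ([1, 3, 3, 1, 2, 2, 0], [0, 0, 0, 2, 2, 2, 0, 2, 1, 2, 1, 3, 3], [2, 2, 0, 0, 3, 0, 2, 0, 3, 0, 2, 1, 1, 3, 3, 1]),
  ([2, 3, 2, 2, 2, 0, 3], [2, 0, 0, 2, 1, 3, 1, 3, 1, 3, 3, 3, 1], [2, 0, 2, 0, 0, 3, 3, 0, 0, 2, 2, 1, 3, 1]),
  ([0, 2, 1, 0, 3, 2], [1, 1, 3, 0, 2, 2, 2, 0, 3, 3, 3, 3], [2, 2, 1, 3, 1, 2, 2, 1, 2, 1, 2, 0]),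
  ([3, 2, 2, 0], [3, 1, 1, 3, 0, 0, 3, 1, 2, 2, 2, 0, 0], [2, 2, 0, 3, 0, 3, 3, 1, 2, 2, 2, 0, 0, 0, 3, 0]),
  ([0, 3, 0, 0, 3, 1, 0], [2, 2, 1, 2, 1, 3, 3, 3, 1, 3, 1, 2, 2, 0], [3, 1, 3, 0, 3, 3, 1, 2, 1, 3, 0, 0, 3]),
  ([1, 2, 0, 1, 3, 2], [2, 0, 2, 1, 2, 2, 2, 2, 2, 1, 3, 0, 2, 1], [0, 3, 0, 3, 0, 3, 3, 0, 2, 0, 3, 3]),
  ([0, 0, 2, 1, 0, 2, 3, 0], [1, 2, 2, 2, 0, 2, 1, 2, 1, 3, 3], [1, 2, 2, 2, 1, 3, 1, 2, 2, 0, 2, 2, 1, 3, 0, 0]),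
  ([0, 0, 1, 3, 2, 3, 3, 2], [2, 1, 1, 2, 2, 0, 2, 2, 2, 1, 2, 0, 2, 0, 0], [0, 2, 1, 1, 2, 0, 3, 0, 2, 2, 1, 2, 1, 2]),
  ([2, 1, 0, 2, 0, 3, 3], [2, 1, 3, 3, 0, 3, 0, 3, 1, 1, 3, 1, 3, 0], [0, 2, 2, 2, 1, 3, 1, 2, 2, 0, 2, 2, 1, 3]),
  ([2, 2, 1, 3, 0, 0, 3], [2, 0, 3, 1, 2, 1, 2, 2, 2, 0, 3, 3, 1, 2, 1], [2, 1, 2, 0, 3, 3, 0, 2, 0, 3, 0, 3, 3, 3, 1]),
  ([], [], []),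
  ([1, 1], [3, 0, 0, 0, 0, 2], [0, 3, 0, 3, 1, 1, 2, 2, 2, 1, 1, 3, 0, 2, 0]),
  ([2, 1, 0, 1, 1, 3, 3], [1, 3, 3, 0, 2, 2, 2, 2, 0, 3, 1, 2, 0, 2], [2, 0, 0, 0, 2, 2, 1, 1, 2, 0, 2, 2, 0, 2, 1]),
  ([3, 3, 2, 0, 1, 3], [0, 3, 3, 1, 1, 3, 0, 2, 0, 3, 3, 1, 3, 1], [2, 1, 1, 3, 3, 3, 0, 0, 3, 1, 2, 2, 2])]

/-- The word of the cell used for the first triangle. -/
def killCell : List ℕ := [3, 3, 3, 0, 2, 2]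

/-- The numbers of the two facts used for each candidate of the first triangle. -/
def killOne : List (List ℕ × ℕ × ℕ) := [
  ([0, 0, 0, 0], 5, 6),
  ([2, 2, 2, 2, 2, 2, 2, 2, 2, 2], 7, 8),
  ([3, 0, 2, 2, 1, 2, 0, 2, 1, 2, 0, 2, 0], 9, 10),
  ([0, 3, 0, 3, 1, 1, 2, 2, 2, 1, 1, 3, 0, 2, 0], 11, 12),
  ([1, 2, 2, 1, 3, 1, 3, 3, 1, 2, 2, 2, 0, 3, 0], 13, 14),
  ([0, 2, 2, 1, 3, 1, 3, 3, 1, 2, 2, 2, 0, 3, 1], 15, 16),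
  ([3, 1, 2, 1, 1, 3, 0, 3, 3, 0, 0, 2, 0, 2], 17, 18)]

/-- The form and the numbers of the three facts used for each candidate of the second triangle. -/
def killTwo : List (List ℕ × Bool × ℕ × ℕ × ℕ) := [
  ([0, 0, 0, 0], false, 19, 20, 21),
  ([2, 2, 2, 2, 2, 2, 2, 2, 2, 2], false, 19, 20, 22),
  ([3, 0, 2, 2, 1, 2, 0, 2, 1, 2, 0, 2, 0], true, 19, 20, 21)]

end CfsgLib.CoThreeRec
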