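import Cfsg.Agent.Lib.CoThreeRec.CertPrep
import Cfsg.Agent.Lib.CoThreeRec.KillData

/-!
# The triangle relators are determined

A triangle relator `n a₁ n a₂ n a₃ = 1` substituted into itself gives an identity inside the cover. The identity
fails for every nontrivial correction of the third segment by a candidate.
-/

set_option autoImplicit false
set_option maxRecDepth 100000

namespace CfsgLib.CoThreeRec

/-- The segments of the first triangle. -/
def triSegs1 : List ℕ × List ℕ × List ℕ :=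
  ([3, 3, 1, 3, 0, 0, 3, 3], [2], [0, 0, 2, 2, 1, 2, 1, 3, 0, 3, 3, 0, 3])

/-- The segments of the second triangle. -/
def triSegs2 : List ℕ × List ℕ × List ℕ :=
  ([3, 1, 3, 0, 0, 2, 2], [3, 3, 1, 1, 2, 0, 2], [1, 3, 0, 3, 1, 1, 3, 0, 2, 1, 3, 3, 3, 1])

/-- A triangle with a correction before the third segment. -/
def triWith (S : List ℕ × List ℕ × List ℕ) (r : List ℕ) : List ℕ :=
  [4] ++ S.1 ++ [4] ++ S.2.1 ++ [4] ++ r ++ S.2.2

theorem triWith_nil : triWith triSegs1 [] = rels.getD 5 [] ∧ triWith triSegs2 [] = rels.getD 6 [] := by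
  decide +kernel

/-- The pairs given by the four conjugation relators. -/
def killGiven : List (List ℕ × List ℕ) := List.zip dWords dImgs

/-- The system with these pairs only. -/
def killSys : Sys := ⟨[], [], killGiven⟩

/-- A fact of the certificate. -/
def killFact (i : ℕ) : List ℕ × List ℕ := (killFacts.getD i ([], [], [])).2

/-- The facts follow from the given pairs, and all words concern the cover only. -/
noncomputable def killFactsB : Bool :=
  decide (rels.take 4 = killGiven.map fun p => [5] ++ p.1 ++ [4] ++ invWord p.2) &&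
    (killGiven.all fun p => (p.1 ++ p.2).all fun l => Nat.blt l 4) &&
    ([triSegs1, triSegs2].all fun S => (S.1 ++ S.2.1 ++ S.2.2).all fun l => Nat.blt l 4) &&
    ((triCand1 ++ triCand2).all fun r => r.all fun l => Nat.blt l 4) &&
    killFacts.all fun e => e.1.all (fun i => Nat.blt i killGiven.length) &&
      certEqB e.2.1 (killSys.dx e.1) && certEqB e.2.2 (killSys.dy e.1)

theorem killFactsB_ok : killFactsB = true := by decide +kernel

/-- The identities for a candidate of the first triangle; the last one fails. -/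
noncomputable def killOneB (e : List ℕ × ℕ × ℕ) : Bool :=
  let a₁ := triSegs1.1; let a₂ := triSegs1.2.1; let a₃ := e.1 ++ triSegs1.2.2
  certEqB (killCell ++ a₁) ((killFact 0).1 ++ a₁ ++ (killFact 1).1) &&
    certEqB ((killFact 1).2 ++ a₂) (a₂ ++ ((killFact 2).1 ++ a₁ ++ (killFact 3).1)) &&
    certEqB ((killFact 3).2 ++ a₃) (a₂ ++ ((killFact 4).1 ++ a₁ ++ (killFact e.2.1).1)) &&
    certEqB (killCell ++ invWord (killFact e.2.1).2 ++ a₂) (killFact e.2.2).1 &&
    !certEqB (killFact e.2.2).2 ((killFact 0).2 ++ invWord a₃ ++ (killFact 2).2 ++ invWord a₃ ++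
      (killFact 4).2 ++ invWord a₃) &&
    ((List.range killFacts.length).all fun i => ((killFact i).1 ++ (killFact i).2).all fun l => Nat.blt l 4)

/-- The identities for a candidate of the second triangle; the last one fails. -/
noncomputable def killTwoB (e : List ℕ × Bool × ℕ × ℕ × ℕ) : Bool :=
  let a₁ := triSegs2.1; let a₂ := triSegs2.2.1; let a₃ := e.1 ++ triSegs2.2.2
  let c := bif e.2.1 then a₂ else invWord a₁
  let p := bif e.2.1 then invWord a₁ else a₂
  let q := bif e.2.1 then invWord a₃ else a₃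
  certEqB c ((killFact e.2.2.1).1 ++ a₁ ++ (killFact e.2.2.2.1).1) &&
    certEqB (killFact e.2.2.2.1).2 (a₂ ++ (killFact e.2.2.2.2).1 ++ q) &&
    !certEqB p ((killFact e.2.2.1).2 ++ invWord a₃ ++ (killFact e.2.2.2.2).2)

theorem killOne_ok : killOne.all killOneB = true := by decide +kernel

theorem killTwo_ok : killTwo.all killTwoB = true := by decide +kernel

theorem killCands_ok : triCand1 = [] :: killOne.map (fun e => e.1) ∧
    triCand2 = [] :: killTwo.map (fun e => e.1) := by decide +kernel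

section Group

variable {M : Type*} [Group M] {n a₁ a₂ a₃ : M}

/-- A triangle, read as a substitution. -/
theorem tri_subst (hn : n * n = 1) (hT : n * a₁ * n * a₂ * n * a₃ = 1) : n * a₁ * n = a₃⁻¹ * n * a₂⁻¹ := by
  have hni : n⁻¹ = n := inv_eq_of_mul_eq_one_right hn
  calc n * a₁ * n = (n * a₁ * n * a₂ * n * a₃) * a₃⁻¹ * n⁻¹ * a₂⁻¹ := by group
    _ = a₃⁻¹ * n * a₂⁻¹ := by rw [hT, one_mul, hni]

/-- A triangle substituted three times into itself. -/
theorem tri_loop (hn : n * n = 1) (hT : n * a₁ * n * a₂ * n * a₃ = 1)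
    {u d₁ d₂ e₁ e₂ f₁ f₂ s D₁ D₂ E₁ E₂ F₁ F₂ S : M}
    (h1 : n⁻¹ * d₁ * n = D₁) (h2 : n⁻¹ * d₂ * n = D₂) (h3 : n⁻¹ * e₁ * n = E₁) (h4 : n⁻¹ * e₂ * n = E₂)
    (h5 : n⁻¹ * f₁ * n = F₁) (h6 : n⁻¹ * f₂ * n = F₂) (h7 : n⁻¹ * s * n = S)
    (c1 : u * a₁ = d₁ * a₁ * d₂) (c2 : D₂ * a₂ = a₂ * (e₁ * a₁ * e₂)) (c3 : E₂ * a₃ = a₂ * (f₁ * a₁ * f₂))
    (c4 : u * F₂⁻¹ * a₂ = s) : S = D₁ * a₃⁻¹ * E₁ * a₃⁻¹ * F₁ * a₃⁻¹ := by
  have hni : n⁻¹ = n := inv_eq_of_mul_eq_one_right hn
  have hs := tri_subst hn hT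
  have sub : ∀ {x y X Y : M}, n⁻¹ * x * n = X → n⁻¹ * y * n = Y →
      n * (x * a₁ * y) * n = X * a₃⁻¹ * n * (a₂⁻¹ * Y) := by
    intro x y X Y hx hy
    calc n * (x * a₁ * y) * n = (n * x * n⁻¹) * (n * a₁ * n) * (n⁻¹ * y * n) := by group
      _ = (n⁻¹ * x * n) * (n * a₁ * n) * (n⁻¹ * y * n) := by rw [hni]
      _ = X * a₃⁻¹ * n * (a₂⁻¹ * Y) := by rw [hx, hy, hs]; group
  have q1 : a₂⁻¹ * D₂ * a₂ = e₁ * a₁ * e₂ := by rw [mul_assoc, c2, inv_mul_cancel_left]
  have q2 : a₂⁻¹ * E₂ * a₃ = f₁ * a₁ * f₂ := by rw [mul_assoc, c3, inv_mul_cancel_left]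
  have e : n * u = D₁ * a₃⁻¹ * E₁ * a₃⁻¹ * F₁ * a₃⁻¹ * n * (a₂⁻¹ * F₂) :=
    calc n * u = n * u * n⁻¹ * (n * a₁ * n * a₂ * n * a₃) * n := by rw [hT, mul_one, inv_mul_cancel_right]
      _ = n * (u * a₁) * n * a₂ * n * a₃ * n := by group
      _ = D₁ * a₃⁻¹ * (n * (a₂⁻¹ * D₂ * a₂) * n) * a₃ * n := by rw [c1, sub h1 h2]; group
      _ = D₁ * a₃⁻¹ * E₁ * a₃⁻¹ * (n * (a₂⁻¹ * E₂ * a₃) * n) := by rw [q1, sub h3 h4]; group
      _ = _ := by rw [q2, sub h5 h6]; group
  calc S = n⁻¹ * s * n := h7.symm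
    _ = n * u * (F₂⁻¹ * a₂ * n) := by rw [← c4, hni]; group
    _ = D₁ * a₃⁻¹ * E₁ * a₃⁻¹ * F₁ * a₃⁻¹ * (n * n) := by rw [e]; group
    _ = _ := by rw [hn, mul_one]

/-- Two forms of a triangle compared. -/
theorem tri_two (hn : n * n = 1) (hT : n * a₁ * n * a₂ * n * a₃ = 1)
    {c p q d₁ d₂ e D₁ D₂ E : M} (hc : n * c * n = p * n * q)
    (h1 : n⁻¹ * d₁ * n = D₁) (h2 : n⁻¹ * d₂ * n = D₂) (h3 : n⁻¹ * e * n = E)
    (c1 : c = d₁ * a₁ * d₂) (c2 : D₂ = a₂ * e * q) : p = D₁ * a₃⁻¹ * E := by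
  have hni : n⁻¹ = n := inv_eq_of_mul_eq_one_right hn
  have hs := tri_subst hn hT
  have h4 : p * n * q = D₁ * a₃⁻¹ * n * (a₂⁻¹ * D₂) := by
    rw [← hc, c1]
    calc n * (d₁ * a₁ * d₂) * n = (n * d₁ * n⁻¹) * (n * a₁ * n) * (n⁻¹ * d₂ * n) := by group
      _ = (n⁻¹ * d₁ * n) * (n * a₁ * n) * (n⁻¹ * d₂ * n) := by rw [hni]
      _ = _ := by rw [h1, h2, hs]; group
  calc p = (p * n * q) * q⁻¹ * n⁻¹ := by group
    _ = D₁ * a₃⁻¹ * (n * e * n⁻¹) := by rw [h4, c2]; group
    _ = _ := by rw [← h3, hni]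

end Group

section Unique

theorem kill_prod_invWord : ∀ {w : List ℕ}, (∀ l ∈ w, l < 4) →
    ((invWord w).map xm).prod = ((w.map xm).prod)⁻¹
  | [], _ => by simp [invWord]
  | l :: w, h => by
    have e : invWord (l :: w) = invWord w ++ [flipLetter l] := by simp [invWord]
    rw [e, List.map_append, List.prod_append, List.map_singleton, List.prod_singleton,
      certXm_flip (h l List.mem_cons_self), kill_prod_invWord fun a ha => h a (List.mem_cons_of_mem _ ha),
      List.map_cons, List.prod_cons, mul_inv_rev]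

theorem invWord_lt {w : List ℕ} (h : ∀ l ∈ w, l < 4) : ∀ l ∈ invWord w, l < 4 := by
  intro l hl
  simp only [invWord, List.mem_map, List.mem_reverse] at hl
  obtain ⟨a, ha, rfl⟩ := hl
  have := h a ha
  unfold flipLetter
  split_ifs <;> omega

variable {M : Type*} [Group M] {ι : Cm →* M} {n : M}

theorem kill_ev_cover {w : List ℕ} (h : ∀ l ∈ w, l < 4) : ev (gl ι n) w = cv xm ι w := by
  induction w with
  | nil => simp [ev, cv]
  | cons l w ih =>
    have ih' := ih fun a ha => h a (List.mem_cons_of_mem _ ha)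
    simp only [ev, cv] at ih' ⊢
    simp [ih', gl, h l List.mem_cons_self]

theorem cv_invWord {w : List ℕ} (h : ∀ l ∈ w, l < 4) : cv xm ι (invWord w) = (cv xm ι w)⁻¹ := by
  simp only [cv, kill_prod_invWord h, map_inv]

variable (hP : PtsFaithful) (hι : Function.Injective ι)
  (hconj : ∀ w ∈ rels.take 4, ev (gl ι n) w = 1) (hn : n * n = 1)

include hP in
theorem kill_cv_eq {u v : List ℕ} (h : certEqB u v = true) : cv xm ι u = cv xm ι v :=
  congrArg ι (certEqB_spec hP h)

include hι in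
theorem kill_cv_ne {u v : List ℕ} (h : certEqB u v = false) : cv xm ι u ≠ cv xm ι v := by
  intro e
  have e' := hι e
  have : certEqB u v = true := by
    simp only [certEqB, List.all_eq_true, Nat.beq_eq]
    intro p hp
    have hlt : p < 276 := by
      simp only [certPts, List.mem_cons, List.not_mem_nil, or_false] at hp
      omega
    rw [show p = ((⟨p, hlt⟩ : Fin 276) : ℕ) from rfl, ← evalC_spec, ← evalC_spec, e']
  rw [h] at this
  exact absurd this (by simp)

theorem killFacts_spec : rels.take 4 = killGiven.map (fun p => [5] ++ p.1 ++ [4] ++ invWord p.2) ∧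
    (∀ p ∈ killGiven, ∀ l ∈ p.1 ++ p.2, l < 4) ∧
    (∀ S ∈ [triSegs1, triSegs2], ∀ l ∈ S.1 ++ S.2.1 ++ S.2.2, l < 4) ∧
    (∀ r ∈ triCand1 ++ triCand2, ∀ l ∈ r, l < 4) ∧
    ∀ e ∈ killFacts, (∀ i ∈ e.1, i < killGiven.length) ∧
      certEqB e.2.1 (killSys.dx e.1) = true ∧ certEqB e.2.2 (killSys.dy e.1) = true := by
  have h := killFactsB_ok
  simp only [killFactsB, Bool.and_eq_true, decide_eq_true_eq, List.all_eq_true, Nat.blt_eq] at h
  obtain ⟨⟨⟨⟨h1, h2⟩, h3⟩, h4⟩, h5⟩ := h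
  exact ⟨h1, h2, h3, h4, fun e he => ⟨(h5 e he).1.1, (h5 e he).1.2, (h5 e he).2⟩⟩

include hconj in
theorem kill_given {p : List ℕ × List ℕ} (hp : p ∈ killGiven) : n⁻¹ * cv xm ι p.1 * n = cv xm ι p.2 := by
  obtain ⟨h1, h2, -, -, -⟩ := killFacts_spec
  have hp1 : ∀ l ∈ p.1, l < 4 := fun l hl => h2 p hp l (List.mem_append_left _ hl)
  have hp2 : ∀ l ∈ p.2, l < 4 := fun l hl => h2 p hp l (List.mem_append_right _ hl)
  have hw := hconj _ (by rw [h1]; exact List.mem_map.2 ⟨p, hp, rfl⟩)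
  have ha : ∀ u w, ev (gl ι n) (u ++ w) = ev (gl ι n) u * ev (gl ι n) w := fun u w => by simp [ev]
  rw [ha, ha, ha, kill_ev_cover hp1, kill_ev_cover (invWord_lt hp2), cv_invWord hp2] at hw
  simp only [ev, gl, List.map_cons, List.map_nil, List.prod_cons, List.prod_nil, mul_one] at hw
  norm_num at hw
  exact mul_inv_eq_one.1 hw

include hP hconj in
theorem kill_fact (i : ℕ) : n⁻¹ * cv xm ι (killFact i).1 * n = cv xm ι (killFact i).2 := by
  by_cases hi : i < killFacts.length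
  · have H : Holds certEqB killSys xm ι n :=
      ⟨fun _ _ e => certEqB_spec hP e, fun r hr => absurd hr (by simp [killSys]),
        fun p hp => kill_given hconj hp, rfl⟩
    obtain ⟨-, -, -, -, h5⟩ := killFacts_spec
    obtain ⟨hd, hx, hy⟩ := h5 _ (List.getElem_mem hi)
    have e : killFact i = killFacts[i].2 := by rw [killFact, List.getD_eq_getElem _ _ hi]
    rw [e, H.cv_eq hx, H.cv_eq hy]
    exact H.dxy hd
  · have e : killFact i = ([], []) := by rw [killFact, List.getD_eq_default _ _ (by omega)]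
    simp [e, cv_nil]

theorem killFact_lt (i : ℕ) : ∀ l ∈ (killFact i).1 ++ (killFact i).2, l < 4 := by
  by_cases hi : i < killFacts.length
  · have h0 : killOne ≠ [] := by decide
    obtain ⟨e, t, he⟩ := List.exists_cons_of_ne_nil h0
    have h := List.all_eq_true.1 killOne_ok e (by rw [he]; exact List.mem_cons_self)
    simp only [killOneB, Bool.and_eq_true, List.all_eq_true, List.mem_range, Nat.blt_eq] at h
    exact h.2 i hi
  · have e : killFact i = ([], []) := by rw [killFact, List.getD_eq_default _ _ (by omega)]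
    simp [e]

theorem ev_triWith {S : List ℕ × List ℕ × List ℕ} {r : List ℕ} (h1 : ∀ l ∈ S.1, l < 4)
    (h2 : ∀ l ∈ S.2.1, l < 4) (h3 : ∀ l ∈ r ++ S.2.2, l < 4) :
    ev (gl ι n) (triWith S r) = n * cv xm ι S.1 * n * cv xm ι S.2.1 * n * cv xm ι (r ++ S.2.2) := by
  have ha : ∀ u w, ev (gl ι n) (u ++ w) = ev (gl ι n) u * ev (gl ι n) w := fun u w => by simp [ev]
  have h4 : ev (gl ι n) [4] = n := by simp [ev, gl]
  rw [triWith, List.append_assoc _ r, ha, ha, ha, ha, ha, h4, kill_ev_cover h1, kill_ev_cover h2,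
    kill_ev_cover h3]

include hP hι hconj hn in
/-- The first triangle admits no correction. -/
theorem tri1_unique {r : List ℕ} (hr : r ∈ triCand1) (h : ev (gl ι n) (triWith triSegs1 r) = 1) :
    ev xm r = 1 := by
  rw [killCands_ok.1, List.mem_cons] at hr
  rcases hr with rfl | hr
  · rfl
  obtain ⟨e, he, rfl⟩ := List.mem_map.1 hr
  exfalso
  obtain ⟨-, -, h3, h4, -⟩ := killFacts_spec
  have hS := h3 triSegs1 (by simp)
  have ha1 : ∀ l ∈ triSegs1.1, l < 4 := fun l hl => hS l (by simp [hl])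
  have ha2 : ∀ l ∈ triSegs1.2.1, l < 4 := fun l hl => hS l (by simp [hl])
  have he3 : ∀ l ∈ e.1 ++ triSegs1.2.2, l < 4 := fun l hl => by
    rcases List.mem_append.1 hl with hl | hl
    · exact h4 e.1 (List.mem_append_left _ (by
        rw [killCands_ok.1]; exact List.mem_cons_of_mem _ (List.mem_map.2 ⟨e, he, rfl⟩))) l hl
    · exact hS l (by simp [hl])
  rw [ev_triWith ha1 ha2 he3] at h
  have hk := List.all_eq_true.1 killOne_ok e he
  simp only [killOneB, Bool.and_eq_true, Bool.not_eq_true'] at hk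
  obtain ⟨⟨⟨⟨⟨k1, k2⟩, k3⟩, k4⟩, k5⟩, -⟩ := hk
  generalize e.1 ++ triSegs1.2.2 = w₃ at he3 h k3 k5
  have g1 := kill_cv_eq (ι := ι) hP k1
  have g2 := kill_cv_eq (ι := ι) hP k2
  have g3 := kill_cv_eq (ι := ι) hP k3
  have g4 := kill_cv_eq (ι := ι) hP k4
  have g5 := kill_cv_ne hι k5
  have hy : ∀ i, ∀ l ∈ (killFact i).2, l < 4 := fun i l hl => killFact_lt i l (List.mem_append_right _ hl)
  simp only [cv_append, cv_invWord (hy _)] at g1 g2 g3 g4
  simp only [cv_append, cv_invWord he3] at g5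
  refine g5 (tri_loop hn h (kill_fact hP hconj 0) (kill_fact hP hconj 1) (kill_fact hP hconj 2)
    (kill_fact hP hconj 3) (kill_fact hP hconj 4) (kill_fact hP hconj e.2.1) (kill_fact hP hconj e.2.2)
    g1 g2 g3 g4)

include hP hι hconj hn in
/-- The second triangle admits no correction. -/
theorem tri2_unique {r : List ℕ} (hr : r ∈ triCand2) (h : ev (gl ι n) (triWith triSegs2 r) = 1) :
    ev xm r = 1 := by
  rw [killCands_ok.2, List.mem_cons] at hr
  rcases hr with rfl | hr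
  · rfl
  obtain ⟨e, he, rfl⟩ := List.mem_map.1 hr
  exfalso
  obtain ⟨-, -, h3, h4, -⟩ := killFacts_spec
  have hS := h3 triSegs2 (by simp)
  have ha1 : ∀ l ∈ triSegs2.1, l < 4 := fun l hl => hS l (by simp [hl])
  have ha2 : ∀ l ∈ triSegs2.2.1, l < 4 := fun l hl => hS l (by simp [hl])
  have he3 : ∀ l ∈ e.1 ++ triSegs2.2.2, l < 4 := fun l hl => by
    rcases List.mem_append.1 hl with hl | hl
    · exact h4 e.1 (List.mem_append_right _ (by
        rw [killCands_ok.2]; exact List.mem_cons_of_mem _ (List.mem_map.2 ⟨e, he, rfl⟩))) l hl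
    · exact hS l (by simp [hl])
  rw [ev_triWith ha1 ha2 he3] at h
  have hs := tri_subst hn h
  have hni : n⁻¹ = n := inv_eq_of_mul_eq_one_right hn
  have hk := List.all_eq_true.1 killTwo_ok e he
  simp only [killTwoB, Bool.and_eq_true, Bool.not_eq_true'] at hk
  obtain ⟨⟨k1, k2⟩, k3⟩ := hk
  have g1 := kill_cv_eq (ι := ι) hP k1
  have g2 := kill_cv_eq (ι := ι) hP k2
  have g3 := kill_cv_ne hι k3
  obtain ⟨r, form, i, j, k⟩ := e
  simp only at he3 h hs g1 g2 g3 ⊢
  generalize r ++ triSegs2.2.2 = w₃ at he3 h hs g1 g2 g3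
  simp only [cv_append] at g1 g2
  cases form
  · simp only [cond_false, cv_append, cv_invWord ha1, cv_invWord he3] at g1 g2 g3
    refine g3 (tri_two hn h (q := cv xm ι w₃) ?_ (kill_fact hP hconj i) (kill_fact hP hconj j)
      (kill_fact hP hconj k) g1 ?_)
    · rw [← inv_inj]
      simp only [mul_inv_rev, inv_inv, hni, ← mul_assoc]
      rw [hs]
    · exact g2
  · simp only [cond_true, cv_append, cv_invWord ha1, cv_invWord he3] at g1 g2 g3
    refine g3 (tri_two hn h ?_ (kill_fact hP hconj i) (kill_fact hP hconj j) (kill_fact hP hconj k) g1 g2)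
    refine tri_subst (a₁ := _) (a₂ := _) (a₃ := _) hn ?_
    calc n * cv xm ι triSegs2.2.1 * n * cv xm ι w₃ * n * cv xm ι triSegs2.1
        = (n * cv xm ι triSegs2.1)⁻¹ * (n * cv xm ι triSegs2.1 * n * cv xm ι triSegs2.2.1 * n *
            cv xm ι w₃) * (n * cv xm ι triSegs2.1) := by group
      _ = 1 := by rw [h]; group

end Unique

end CfsgLib.CoThreeRec
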