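import Cfsg.Agent.Lib.CoThreeRec.PairsCheck
import Cfsg.Agent.Lib.CoThreeRec.CoordsModel
import Cfsg.Agent.Lib.CoThreeRec.CertBound
import Cfsg.Agent.Lib.Leech.ConwaySimple.Co3
import Cfsg.Agent.Lib.Rigid.Spor

/-!
# The model on 276 points is the third Conway group, and maps into every group with the relations
-/

set_option autoImplicit false
set_option maxRecDepth 100000

namespace CfsgLib.CoThreeRec

open Cfsg CfsgLib.Leech CfsgLib.Rigid CfsgLib.LeechPSU
open scoped Pointwise

namespace Pairs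

attribute [local irreducible] vecCodes codeU codeV codeW opsUp opsChain levs

/-- The pair with a number. -/
noncomputable def point (a : Fin 276) : Set leechLattice :=
  {vecB Co3.basis (vecsX.getD a.val []), vecB Co3.basis (vecsY.getD a.val [])}

theorem lengths : vecsX.length = 276 ∧ vecsY.length = 276 ∧
    (∀ a < 276, (vecsX.getD a []).length = 24) ∧ ∀ a < 276, (vecsY.getD a []).length = 24 := by
  have hs := shape_ok
  simp only [shapeB, Bool.and_eq_true, decide_eq_true_eq, List.all_eq_true] at hs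
  obtain ⟨hl, h24⟩ := hs
  have hY : vecsY.length = 276 := by rw [vecsY, List.length_map]; exact hl
  refine ⟨hl, hY, fun a ha => ?_, fun a ha => ?_⟩
  · rw [List.getD_eq_getElem _ _ (by omega)]
    exact h24 _ (List.getElem_mem _)
  · rw [List.getD_eq_getElem _ _ (by omega)]
    simp [vecsY, compl]

theorem keyOf_injective {i j : ℕ} (hi : i < 552) (hj : j < 552) (e : keyOf i = keyOf j) : i = j := by
  have h := keys_ok
  simp only [keysB, Bool.and_eq_true, decide_eq_true_eq, List.all_eq_true, List.mem_range, Nat.beq_eq] at h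
  obtain ⟨⟨hlen, hinc⟩, hpos⟩ := h
  have hnd : (byKey.map keyOf).Nodup := (incOk_sound _ hinc).imp fun h => h.ne
  obtain ⟨h1, e1⟩ := hpos i hi
  obtain ⟨h2, e2⟩ := hpos j hj
  rw [fastGet_eq byKey 0 (by omega), List.getD_eq_getElem _ _ (by omega)] at e1 e2
  have hp : (byKey.map keyOf)[fastGet keyPos 0 i]'(by rw [List.length_map]; omega) =
      (byKey.map keyOf)[fastGet keyPos 0 j]'(by rw [List.length_map]; omega) := by
    rw [List.getElem_map, List.getElem_map, e1, e2, e]
  have := (hnd.getElem_inj_iff).1 hp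
  rw [← e1, ← e2]
  simp only [this]

theorem point_injective : Function.Injective point := by
  obtain ⟨hX, hY, lX, lY⟩ := lengths
  intro a b e
  have ha := a.isLt
  have hb := b.isLt
  have kX : ∀ k < 276, keyOf k = keyZ (vecsX.getD k []) := fun k hk => by
    rw [keyOf, if_pos hk, fastGet_eq _ _ (by omega)]
  have kY : keyOf (276 + b.val) = keyZ (vecsY.getD b.val []) := by
    rw [keyOf, if_neg (by omega), Nat.add_sub_cancel_left, fastGet_eq _ _ (by omega)]
  have hm : vecB Co3.basis (vecsX.getD a.val []) ∈ point b := e ▸ Or.inl rfl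
  rcases hm with h | h
  · have h' := congrArg keyZ (vecB_inj _ (lX _ ha) (lX _ hb) h)
    rw [← kX _ ha, ← kX _ hb] at h'
    exact Fin.ext (keyOf_injective (by omega) (by omega) h')
  · have h' := congrArg keyZ (vecB_inj _ (lX _ ha) (lY _ hb) h)
    rw [← kX _ ha, ← kY] at h'
    have := keyOf_injective (by omega) (by omega) h'
    omega

theorem vecB_compl {c : List ℤ} : vecB Co3.basis (compl c) = Co3.basis.e 0 - vecB Co3.basis c := by
  have h : ∀ i : Fin 24, (compl c).getD i.val 0 = (if i = 0 then 1 else 0) - c.getD i.val 0 := fun i => by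
    rw [compl, List.getD_eq_getElem _ _ (by rw [List.length_map, List.length_range]; exact i.isLt),
      List.getElem_map, List.getElem_range]
    by_cases hi : i = 0
    · subst hi; rfl
    · have hi' : ¬ (i : ℕ) = 0 := fun h => hi (Fin.ext h)
      simp only [hi, hi', if_false]
  simp only [vecB, h, sub_smul, Finset.sum_sub_distrib, ite_smul, one_smul, zero_smul, Finset.sum_ite_eq',
    Finset.mem_univ, if_true]

/-- The stabiliser acts on sets of vectors. -/
noncomputable def act : ↥Co3.grp →* Equiv.Perm (Set leechLattice) :=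
  (MulAction.toPermHom Co0 (Set leechLattice)).comp Co3.grp.subtype

theorem smul_sub_fix {g : Co3.grp} (x : leechLattice) :
    (g : Co0) • (Co3.basis.e 0 - x) = Co3.basis.e 0 - (g : Co0) • x := by
  rw [sub_eq_add_neg, sub_eq_add_neg, smul_add', smul_neg', Co3.grp_fix g g.2]

theorem act_point {g : Co3.grp} {N : List (List ℤ)} {code : ℕ} (hg : ∀ x, (g : Co0) • x = Co3.basis.linMap N x)
    (hm : Moves N code) (a : Fin 276) :
    ∃ b : Fin 276, (b : ℕ) = fieldAt code a ∧ act g (point a) = point b := by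
  obtain ⟨hr, hp⟩ := hm
  have ha := a.isLt
  have h := hp (a.val / 46) (by omega)
  simp only [movesPart, List.all_eq_true, List.mem_range, Bool.and_eq_true, Bool.or_eq_true,
    decide_eq_true_eq] at h
  obtain ⟨hlt, hmv⟩ := h (a.val % 46) (Nat.mod_lt _ (by norm_num))
  rw [Nat.div_add_mod] at hlt hmv
  obtain ⟨hX, hY, -, -⟩ := lengths
  rw [fastGet_eq _ _ (by omega), fastGet_eq _ _ (by omega), fastGet_eq _ _ (by omega)] at hmv
  refine ⟨⟨_, hlt⟩, rfl, ?_⟩
  show (g : Co0) • point a = point ⟨_, hlt⟩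
  have eY : ∀ k < 276, vecB Co3.basis (vecsY.getD k []) =
      Co3.basis.e 0 - vecB Co3.basis (vecsX.getD k []) := fun k hk => by
    rw [← vecB_compl, List.getD_eq_getElem _ _ (by omega), List.getD_eq_getElem _ _ (by omega)]
    simp [vecsY]
  rw [point, point, Set.smul_set_insert, Set.smul_set_singleton, eY _ a.isLt, smul_sub_fix, eY _ hlt]
  rcases hmv with h1 | h1
  · rw [smul_vecB hg hr h1]
  · rw [smul_vecB hg hr h1, eY _ hlt, sub_sub_cancel, Set.pair_comm]

theorem exists_gen_point {N N' NG : List (List ℤ)} {code : ℕ} (h : Basis.autTest Co3.gram N N' NG = true)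
    (h0 : ∀ k : Fin 24, Basis.ent N 0 k = if 0 = k then 1 else 0) (hm : Moves N code) :
    ∃ g : Co3.grp, ∀ a : Fin 276, ∃ b : Fin 276, (b : ℕ) = fieldAt code a ∧ act g (point a) = point b := by
  obtain ⟨g, hg⟩ := Co3.basis.exists_aut (mkBasis_gram Co3.table_ok) h
  refine ⟨⟨g, ?_⟩, act_point hg hm⟩
  show g • Spor.leechV = Spor.leechV
  rw [← Co3.e0_eq]
  exact smul_e0 Co3.basis hg h0

/-- The permutations coming from the stabiliser. -/
def fromGrp : Subgroup (Equiv.Perm (Fin 276)) where
  carrier := {σ | ∃ g : Co3.grp, ∀ a, act g (point a) = point (σ a)}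
  one_mem' := ⟨1, fun a => by rw [map_one]; rfl⟩
  mul_mem' := fun {σ τ} ⟨g, hg⟩ ⟨h, hh⟩ => ⟨g * h, fun a => by
    rw [map_mul, Equiv.Perm.mul_apply, hh, hg]; rfl⟩
  inv_mem' := fun {σ} ⟨g, hg⟩ => ⟨g⁻¹, fun a => by
    have h := hg (σ⁻¹ a)
    rw [show σ (σ⁻¹ a) = a from σ.apply_symm_apply a] at h
    rw [map_inv, ← h]
    exact (act g).symm_apply_apply _⟩

theorem exists_isCode_of_gen {P : ℕ} (h : ∃ g : Co3.grp, ∀ a : Fin 276, ∃ b : Fin 276,
    (b : ℕ) = fieldAt P a ∧ act g (point a) = point b) :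
    ∃ σ ∈ fromGrp, IsCode P σ := by
  obtain ⟨g, hg⟩ := h
  choose b hb hgb using hg
  have hinj : Function.Injective b := fun x y e =>
    point_injective ((act g).injective (by rw [hgb, hgb, e]))
  exact ⟨Equiv.ofBijective b (Finite.injective_iff_bijective.1 hinj), ⟨g, hgb⟩, hb⟩

theorem letters_fromGrp : ∀ c ∈ CoThreeRec.codes, ∃ σ ∈ fromGrp, IsCode c σ := by
  have hk : ∀ P ∈ [codeU, codeV, codeW], ∃ σ ∈ fromGrp, IsCode P σ := by
    intro P hP
    simp only [List.mem_cons, List.not_mem_nil, or_false] at hP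
    rcases hP with rfl | rfl | rfl
    · exact exists_isCode_of_gen (exists_gen_point Co3.autU_ok (fun k => (Co3.ent_row k).1) movesU_all)
    · exact exists_isCode_of_gen (exists_gen_point Co3.autV_ok (fun k => (Co3.ent_row k).2.1) movesV_all)
    · exact exists_isCode_of_gen (exists_gen_point Co3.autW_ok (fun k => (Co3.ent_row k).2.2) movesW_all)
  have h := up_ok
  simp only [upB, Bool.and_eq_true, List.all_eq_true, List.any_eq_true, Nat.beq_eq] at h
  intro c hc
  obtain ⟨d, hd, rfl⟩ := h.2 c hc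
  exact slp_sound _ _ hk h.1 c hd

end Pairs

theorem codes_length : codes.length = 6 := by decide +kernel

theorem letter_spec {l : ℕ} (hl : l < 6) : IsCode (codes.getD l 0) (letter l) := by
  obtain ⟨σ, -, hσ⟩ := Pairs.letters_fromGrp (codes.getD l 0) (by
    rw [List.getD_eq_getElem _ _ (by rw [codes_length]; exact hl)]; exact List.getElem_mem _)
  have hex : ∃ τ : Equiv.Perm (Fin 276), IsCode (codes.getD l 0) τ := ⟨σ, hσ⟩
  rw [letter, codePerm, dif_pos hex]
  exact hex.choose_spec

theorem letter_five : letter 5 = (letter 4)⁻¹ := by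
  refine eq_inv_of_mul_eq_one_right (Equiv.ext fun a => Fin.ext ?_)
  have h := Pairs.swap_ok
  simp only [Pairs.swapB, List.all_eq_true, List.mem_range, Nat.beq_eq] at h
  rw [Equiv.Perm.mul_apply, Equiv.Perm.one_apply, letter_spec (by norm_num), letter_spec (by norm_num)]
  exact h a.val a.isLt

/-- The group of the model. -/
noncomputable def modelGrp : Subgroup (Equiv.Perm (Fin 276)) :=
  Subgroup.closure (Set.range fun l : Fin 6 => letter l)

theorem letter_mem {l : ℕ} (hl : l < 6) : letter l ∈ modelGrp := Subgroup.subset_closure ⟨⟨l, hl⟩, rfl⟩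

theorem modelGrp_eq : modelGrp = permGroup 276 codes := by
  refine congrArg Subgroup.closure (Set.ext fun σ => ⟨?_, ?_⟩)
  · rintro ⟨l, rfl⟩
    refine ⟨codes.getD l 0, ?_, letter_spec l.isLt⟩
    rw [List.getD_eq_getElem _ _ (by rw [codes_length]; exact l.isLt)]
    exact List.getElem_mem _
  · rintro ⟨P, hP, hσ⟩
    obtain ⟨i, hi, rfl⟩ := List.getElem_of_mem hP
    refine ⟨⟨i, by rwa [codes_length] at hi⟩, isCode_unique ?_ hσ⟩
    have := letter_spec (l := i) (by rwa [codes_length] at hi)
    rwa [List.getD_eq_getElem _ _ hi] at this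

theorem equiv_model : Nonempty (↥Co3.grp ≃* ↥modelGrp) := by
  have : Finite Co3.grp := Nat.finite_of_card_ne_zero (by rw [Co3.card_grp]; norm_num)
  obtain ⟨⟨e⟩, -⟩ := nonempty_equiv_permGroup Pairs.act (⊥ : Subgroup Co3.grp) Pairs.point Pairs.point_injective
    (fun z hz a => by rw [Subgroup.mem_bot.1 hz, map_one]; rfl) Pairs.chainCert Pairs.chain_ok
    (fun P hP => by
      obtain ⟨σ, ⟨g, hg⟩, hσ⟩ := Pairs.letters_fromGrp P hP
      exact ⟨g, fun a => ⟨σ a, hσ a, hg a⟩⟩)
    (by rw [Co3.card_grp, Subgroup.card_bot, mul_one])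
  exact ⟨(QuotientGroup.quotientBot.symm.trans e).trans (MulEquiv.subgroupCongr modelGrp_eq.symm)⟩

theorem card_model : Nat.card ↥modelGrp = 495766656000 := by
  obtain ⟨e⟩ := equiv_model
  exact (Nat.card_congr e.symm.toEquiv).trans Co3.card_grp

theorem isoCo3_model : Cfsg.Spor.IsoCo3 ↥modelGrp := by
  obtain ⟨e⟩ := equiv_model
  exact ⟨e.symm.trans (stabEquiv Spor.leechV).symm⟩

theorem simple_model : IsSimpleGroup ↥modelGrp := by
  obtain ⟨e⟩ := equiv_model
  have h : IsSimpleGroup ↥Co3.grp :=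
    (CfsgLib.Leech.ConwaySimple.isCo3_of_norm (v := Spor.leechV) (by decide +kernel)).1
  exact e.symm.isSimpleGroup

theorem Cm_le_model : Cm ≤ modelGrp := (Subgroup.closure_le _).2 <| by
  rintro _ ⟨l, rfl⟩
  exact letter_mem (show (l : ℕ) < 6 by omega)

theorem gl_model {l : ℕ} (hl : l < 6) : gl Cm.subtype (letter 4) l = letter l := by
  unfold gl
  split_ifs with h1 h2
  · exact coe_xm h1
  · rw [h2]
  · rw [show l = 5 by omega, letter_five]

theorem prod_letter_apply : ∀ (w : List ℕ), (∀ l ∈ w, l < 6) → ∀ a : Fin 276,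
    ((ev letter w) a : ℕ) = evalPt w a
  | [], _, a => rfl
  | l :: w, hw, a => by
    have ih := prod_letter_apply w (fun k hk => hw k (List.mem_cons_of_mem _ hk)) a
    rw [show ev letter (l :: w) = letter l * ev letter w by simp [ev], Equiv.Perm.mul_apply,
      letter_spec (hw l List.mem_cons_self), ih]
    rfl

theorem amal_model : Amal Cm.subtype (letter 4) := by
  intro w hw
  have h := Pairs.rels_ok
  simp only [Pairs.relsB, List.all_eq_true, Bool.and_eq_true, decide_eq_true_eq, List.mem_range, Nat.beq_eq] at h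
  obtain ⟨hlt, hfix⟩ := h w hw
  have e : ev (gl Cm.subtype (letter 4)) w = ev letter w := by
    unfold ev
    rw [List.map_congr_left fun l hl => gl_model (hlt l hl)]
  rw [e]
  refine Equiv.ext fun a => Fin.ext ?_
  rw [prod_letter_apply w hlt]
  exact hfix a.val a.isLt

theorem map_ev_gl {M N : Type*} [Group M] [Group N] (f : M →* N) (ι : Cm →* M) (n : M) (w : List ℕ) :
    f (ev (gl ι n) w) = ev (gl (f.comp ι) (f n)) w := by
  unfold ev
  rw [map_list_prod, List.map_map]
  refine congrArg List.prod (List.map_congr_left fun l _ => ?_)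
  simp only [Function.comp_apply, gl]
  split_ifs <;> simp

theorem exists_hom {G : Type*} [Group G] [Finite G] {t : G} (co : Coord t) {n : G} (h : Amal co.iota n) :
    ∃ φ : ↥modelGrp →* G, Function.Injective φ ∧ Subgroup.centralizer ({t} : Set G) ≤ φ.range ∧
      n ∈ φ.range ∧ φ ⟨_, Cm_le_model tm.2⟩ = t := by
  classical
  let ι : Cm →* G × Equiv.Perm (Fin 276) := co.iota.prod Cm.subtype
  let n' : G × Equiv.Perm (Fin 276) := (n, letter 4)
  have hamal : Amal ι n' := fun w hw => by
    refine Prod.ext ?_ ?_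
    · exact (map_ev_gl (MonoidHom.fst G _) ι n' w).trans (h w hw)
    · exact (map_ev_gl (MonoidHom.snd G _) ι n' w).trans (amal_model w hw)
  set X := Subgroup.closure (Set.range ι ∪ {n'}) with hX
  have hcardX : Nat.card X ≤ 495766656000 :=
    card_closure_le_of card_Cm (fun c hc => eq_one_of_fix c hc) hamal
  have hn : n' ∈ X := Subgroup.subset_closure (Or.inr rfl)
  have hι : ∀ c, ι c ∈ X := fun c => Subgroup.subset_closure (Or.inl ⟨c, rfl⟩)
  have hsnd : X ≤ modelGrp.comap (MonoidHom.snd G _) := (Subgroup.closure_le _).2 <| by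
    rintro x (⟨c, rfl⟩ | hx)
    · exact Cm_le_model c.2
    · rw [Set.mem_singleton_iff.1 hx]
      exact letter_mem (by norm_num)
  let π : X →* modelGrp := ((MonoidHom.snd G _).comp X.subtype).codRestrict modelGrp fun x => hsnd x.2
  have hsurj : Function.Surjective π := by
    rintro ⟨σ, hσ⟩
    have hle : modelGrp ≤ X.map (MonoidHom.snd G _) := (Subgroup.closure_le _).2 <| by
      rintro _ ⟨l, rfl⟩
      by_cases h4 : l.val < 4
      · exact ⟨ι (xm l.val), hι _, coe_xm h4⟩
      · rcases (by omega : l.val = 4 ∨ l.val = 5) with e | e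
        · refine ⟨n', hn, ?_⟩
          show letter 4 = letter l
          rw [e]
        · refine ⟨n'⁻¹, X.inv_mem hn, ?_⟩
          show (letter 4)⁻¹ = letter l
          rw [e, letter_five]
    obtain ⟨x, hx, e⟩ := hle hσ
    exact ⟨⟨x, hx⟩, Subtype.ext e⟩
  have hinj : Function.Injective π := by
    have hb := Nat.card_le_card_of_surjective π hsurj
    rw [card_model] at hb
    exact ((Nat.bijective_iff_surjective_and_card π).2 ⟨hsurj, by rw [card_model]; omega⟩).1
  let ψ : modelGrp ≃* X := (MulEquiv.ofBijective π ⟨hinj, hsurj⟩).symm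
  let φ : modelGrp →* G := (MonoidHom.fst G _).comp (X.subtype.comp ψ.toMonoidHom)
  have hφ : ∀ x : X, φ (π x) = (x : G × Equiv.Perm (Fin 276)).1 := fun x => by
    show ((ψ (π x) : X) : G × Equiv.Perm (Fin 276)).1 = _
    rw [show ψ (π x) = x from (MulEquiv.ofBijective π ⟨hinj, hsurj⟩).symm_apply_apply x]
  have hc : ∀ c : Cm, φ ⟨(c : Equiv.Perm (Fin 276)), Cm_le_model c.2⟩ = co.iota c := fun c =>
    hφ ⟨ι c, hι c⟩
  refine ⟨φ, ?_, ?_, ⟨π ⟨n', hn⟩, hφ ⟨n', hn⟩⟩, (hc tm).trans co.map_t⟩
  · rw [← MonoidHom.ker_eq_bot_iff]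
    rcases simple_model.eq_bot_or_eq_top_of_normal φ.ker inferInstance with hk | hk
    · exact hk
    exfalso
    obtain ⟨c, hc1⟩ : ∃ c : Cm, c ≠ 1 := by
      by_contra hall
      have : Subsingleton Cm := ⟨fun a b => by
        rw [not_not.1 (not_exists.1 hall a), not_not.1 (not_exists.1 hall b)]⟩
      have := card_Cm
      rw [Nat.card_unique] at this
      omega
    refine hc1 (co.inj ?_)
    rw [map_one, ← hc c]
    exact MonoidHom.mem_ker.1 (hk ▸ Subgroup.mem_top _)
  · rw [← co.range_eq]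
    rintro _ ⟨c, rfl⟩
    exact ⟨_, hc c⟩

theorem exists_hom_grp {G : Type*} [Group G] [Finite G] {t : G} (co : Coord t) {n : G} (h : Amal co.iota n) :
    ∃ φ : ↥Co3.grp →* G, Function.Injective φ ∧ Subgroup.centralizer ({t} : Set G) ≤ φ.range := by
  obtain ⟨φ, hφ, hle, -, -⟩ := exists_hom co h
  obtain ⟨e⟩ := equiv_model
  refine ⟨φ.comp e.toMonoidHom, hφ.comp e.injective, hle.trans ?_⟩
  rintro _ ⟨x, rfl⟩
  exact ⟨e.symm x, congrArg φ (e.apply_symm_apply x)⟩

end CfsgLib.CoThreeRec
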