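import Cfsg.Agent.Lib.CoThreeRec.PairsDefs

/-!
# The points of the model as pairs of lattice vectors: checks
-/

set_option autoImplicit false
set_option maxRecDepth 100000

namespace CfsgLib.CoThreeRec.Pairs

open CfsgLib.Rigid

theorem shape_ok : shapeB = true := by decide +kernel

theorem chain_ok : chainCert.ok 276 CoThreeRec.codes 495766656000 = true := by decide +kernel

theorem up_ok : upB = true := by decide +kernel

theorem swap_ok : swapB = true := by decide +kernel

theorem rels_ok : relsB = true := by decide +kernel

theorem code_lt : (List.range 6).all (fun l => (List.range 276).all fun a =>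
    decide (CfsgLib.LeechPSU.fieldAt (CoThreeRec.codes.getD l 0) a < 276)) = true := by decide +kernel

theorem keys_ok : keysB = true := by decide +kernel

theorem rowsU_ok : CfsgLib.LeechPSU.rowsOk Co3.matU = true := by decide +kernel

theorem movesU_part0 : movesPart Co3.matU codeU 0 = true := by decide +kernel

theorem movesU_part1 : movesPart Co3.matU codeU 1 = true := by decide +kernel

theorem movesU_part2 : movesPart Co3.matU codeU 2 = true := by decide +kernel

theorem movesU_part3 : movesPart Co3.matU codeU 3 = true := by decide +kernel

theorem movesU_part4 : movesPart Co3.matU codeU 4 = true := by decide +kernel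

theorem movesU_part5 : movesPart Co3.matU codeU 5 = true := by decide +kernel

theorem movesU_all : Moves Co3.matU codeU := by
  refine ⟨rowsU_ok, fun part hp => ?_⟩
  rcases (by omega : part = 0 ∨ part = 1 ∨ part = 2 ∨ part = 3 ∨ part = 4 ∨ part = 5) with
    rfl | rfl | rfl | rfl | rfl | rfl
  exacts [movesU_part0, movesU_part1, movesU_part2, movesU_part3, movesU_part4, movesU_part5]

theorem rowsV_ok : CfsgLib.LeechPSU.rowsOk Co3.matV = true := by decide +kernel

theorem movesV_part0 : movesPart Co3.matV codeV 0 = true := by decide +kernel

theorem movesV_part1 : movesPart Co3.matV codeV 1 = true := by decide +kernel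

theorem movesV_part2 : movesPart Co3.matV codeV 2 = true := by decide +kernel

theorem movesV_part3 : movesPart Co3.matV codeV 3 = true := by decide +kernel

theorem movesV_part4 : movesPart Co3.matV codeV 4 = true := by decide +kernel

theorem movesV_part5 : movesPart Co3.matV codeV 5 = true := by decide +kernel

theorem movesV_all : Moves Co3.matV codeV := by
  refine ⟨rowsV_ok, fun part hp => ?_⟩
  rcases (by omega : part = 0 ∨ part = 1 ∨ part = 2 ∨ part = 3 ∨ part = 4 ∨ part = 5) with
    rfl | rfl | rfl | rfl | rfl | rfl
  exacts [movesV_part0, movesV_part1, movesV_part2, movesV_part3, movesV_part4, movesV_part5]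

theorem rowsW_ok : CfsgLib.LeechPSU.rowsOk Co3.matW = true := by decide +kernel

theorem movesW_part0 : movesPart Co3.matW codeW 0 = true := by decide +kernel

theorem movesW_part1 : movesPart Co3.matW codeW 1 = true := by decide +kernel

theorem movesW_part2 : movesPart Co3.matW codeW 2 = true := by decide +kernel

theorem movesW_part3 : movesPart Co3.matW codeW 3 = true := by decide +kernel

theorem movesW_part4 : movesPart Co3.matW codeW 4 = true := by decide +kernel

theorem movesW_part5 : movesPart Co3.matW codeW 5 = true := by decide +kernel

theorem movesW_all : Moves Co3.matW codeW := by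
  refine ⟨rowsW_ok, fun part hp => ?_⟩
  rcases (by omega : part = 0 ∨ part = 1 ∨ part = 2 ∨ part = 3 ∨ part = 4 ∨ part = 5) with
    rfl | rfl | rfl | rfl | rfl | rfl
  exacts [movesW_part0, movesW_part1, movesW_part2, movesW_part3, movesW_part4, movesW_part5]

end CfsgLib.CoThreeRec.Pairs
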