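import Cfsg.Agent.Lib.CoThreeRec.PairsData
import Cfsg.Agent.Lib.CoThreeRec.Basic
import Cfsg.Agent.Lib.LeechPSU.Lattice
import Cfsg.Agent.Lib.LeechPSU.Decode
import Cfsg.Agent.Lib.Rigid.Co3Out

/-!
# The points of the model as pairs of lattice vectors: definitions of the checks

The points are the pairs `{x, v - x}` of vectors of norm 32 with `v` the fixed vector of norm 48. A generator is a
function `a ↦ fieldAt code a`, read off from the row vector action of the matrices `matU`, `matV`, `matW`.
-/

set_option autoImplicit false
set_option maxRecDepth 100000

namespace CfsgLib.CoThreeRec.Pairs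

open CfsgLib.Rigid CfsgLib.LeechPSU

/-- The first vectors of the pairs. -/
noncomputable def vecsX : List (List ℤ) := vecCodes.map decVec

/-- The complement of a coefficient list in the fixed vector. -/
noncomputable def compl (c : List ℤ) : List ℤ :=
  (List.range 24).map fun i => (if i = 0 then 1 else 0) - c.getD i 0

/-- The second vectors of the pairs. -/
noncomputable def vecsY : List (List ℤ) := vecsX.map compl

/-- The lists have the right shape. -/
noncomputable def shapeB : Bool :=
  decide (vecsX.length = 276) && vecsX.all fun c => decide (c.length = 24)

/-- The key of the vector with an id: first vectors, then second ones. -/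
noncomputable def keyOf (i : ℕ) : ℤ :=
  if i < 276 then keyZ (fastGet vecsX [] i) else keyZ (fastGet vecsY [] (i - 276))

/-- All vectors have different keys. -/
noncomputable def keysB : Bool :=
  decide (byKey.length = 552) && incOk (byKey.map keyOf) &&
    (List.range 552).all fun i => decide (fastGet keyPos 0 i < 552) && Nat.beq (fastGet byKey 0 (fastGet keyPos 0 i)) i

/-- A matrix moves some pairs as a code says. -/
noncomputable def movesPart (N : List (List ℤ)) (code : ℕ) (part : ℕ) : Bool :=
  (List.range 46).all fun k =>
    decide (fieldAt code (46 * part + k) < 276) &&
      (moveOk (N.map packZ) (fastGet vecsX [] (46 * part + k)) (fastGet vecsX [] (fieldAt code (46 * part + k))) ||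
        moveOk (N.map packZ) (fastGet vecsX [] (46 * part + k)) (fastGet vecsY [] (fieldAt code (46 * part + k))))

/-- A matrix moves all pairs as a code says. -/
def Moves (N : List (List ℤ)) (code : ℕ) : Prop :=
  rowsOk N = true ∧ ∀ part < 6, movesPart N code part = true

/-- The certificate of the order. -/
def chainCert : CfsgLib.LeechPSU.Cert := ⟨opsChain, levs.map fun L => ⟨L.1, L.2.1, L.2.2⟩⟩

/-- The six letters are among the products of the three generators. -/
noncomputable def upB : Bool :=
  slpOk 276 opsUp [codeU, codeV, codeW] &&
    CoThreeRec.codes.all fun c => ([codeU, codeV, codeW] ++ opsUp.map fun o => o.2.2).any fun d => Nat.beq c d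

/-- The further element is an involution, with the same code for its inverse. -/
noncomputable def swapB : Bool :=
  (List.range 276).all fun a =>
    Nat.beq (fieldAt (CoThreeRec.codes.getD 4 0) (fieldAt (CoThreeRec.codes.getD 5 0) a)) a

/-- The relators are trivial on all points. -/
noncomputable def relsB : Bool :=
  CoThreeRec.rels.all fun w => decide (∀ l ∈ w, l < 6) && (List.range 276).all fun a => Nat.beq (evalPt w a) a

end CfsgLib.CoThreeRec.Pairs
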