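import Mathlib.Data.Nat.Notation

/-!
# The conjugates reached by the routes (generated)
-/

set_option autoImplicit false

namespace CfsgLib.CoThreeRec.Rel

/-- The conjugates reached by the last routes through triangle 5. -/
def reach50 : List (List ℕ) := [
  [3, 0, 0, 2, 0],
  [3, 3, 3, 0, 2, 1, 1, 2, 2, 0],
  [2, 0, 0, 0, 0, 3],
  [0, 2, 2, 0, 0, 0, 0, 3, 0, 3, 0]]

/-- The conjugates reached by the last routes through triangle 5. -/
def reach53 : List (List ℕ) := [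
  [3, 0, 0, 2, 0, 2, 2, 2, 2, 2, 2, 2, 2, 2, 2, 0, 0, 0, 0],
  [3, 3, 1, 3, 3, 1, 2, 0, 3, 0, 2, 0, 2, 2, 2, 2, 2, 2, 2, 2, 2, 2, 0, 0, 0, 0],
  [2, 0, 0, 0, 0, 3],
  [2, 0, 3, 3, 3, 0, 2, 2, 1, 2, 1, 3, 3, 1, 1, 0, 0, 0, 0]]

/-- The conjugates reached by the last routes through triangle 6. -/
def reach60 : List (List ℕ) := [
  [0],
  [3, 0, 0, 2],
  [2, 0, 0, 3],
  [3, 3, 3, 0, 2, 1, 1, 2, 2]]

end CfsgLib.CoThreeRec.Rel
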