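import Cfsg.Agent.Lib.CoThreeRec.RelatorsGens
import Cfsg.Agent.Lib.CoThreeRec.Kill
import Cfsg.Agent.Lib.CoThreeRec.RelatorsReach

/-!
# The relators hold in every group with such a centraliser
-/

set_option autoImplicit false
set_option maxRecDepth 100000
set_option Elab.async false

namespace CfsgLib.CoThreeRec.Rel

open CfsgLib.CoThreeRec

variable {G : Type*} [Group G] {t : G} {co : Coord t} {n : G}

/-- A route through a triangle. -/
noncomputable def routeB (z : ℕ) (S : List ℕ × List ℕ × List ℕ) (e : List ℕ × List ℕ × List ℕ) : Bool :=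
  (e.1 ++ e.2.1 ++ e.2.2).all (fun a => Nat.blt a 4) &&
    certEqB (S.2.1 ++ imV (vz z) e.1) (dF e.2.1 ++ S.2.1) &&
    certEqB (S.1 ++ imV (vz z) e.2.1) (dF e.2.2 ++ S.1) &&
    (List.range 4).all fun v => certEqB (vW.getD v [] ++ dF e.1) (dF e.1 ++ vW.getD v [])

/-- The routes leave the given entries of the table, which give the candidates. -/
noncomputable def triB (z : ℕ) (S : List ℕ × List ℕ × List ℕ) (rts : List (List ℕ × List ℕ × List ℕ))
    (left : List ℕ) (reach cands : List (List ℕ)) : Bool :=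
  rts.all (routeB z S) &&
    certEqB (dF (rts.getD 0 ([], [], [])).1) tWord && certEqB (imV (vz z) (rts.getD 0 ([], [], [])).2.2) tWord &&
    certEqB (dF (rts.getD 1 ([], [], [])).1) xWord &&
    certEqB (S.2.2 ++ imV (vz z) (rts.getD 1 ([], [], [])).2.2) (xWord ++ S.2.2) &&
    Nat.blt 1 rts.length &&
    (S.1 ++ S.2.1 ++ S.2.2).all (fun a => Nat.blt a 4) && cands.all (fun r => r.all fun a => Nat.blt a 4) &&
    (((rts.drop 2).zip reach).all fun p => certEqB p.2 (S.2.2 ++ imV (vz z) p.1.2.2 ++ invWord S.2.2)) &&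
    ((List.range 1152).all fun i => decide (i ∈ left) || ((rts.drop 2).zip reach).any fun p =>
      !certEqB (tWat i ++ dF p.1.1) (p.2 ++ tWat i)) &&
    left.all fun i => (List.range 4).all fun v =>
      cands.any fun r => certEqB (r ++ (tWat i ++ vW.getD v [])) []

theorem tri50_ok : triB 0 triSegs1 route50 left50 reach50 triCand1 = true := by decide +kernel

theorem tri60_ok : triB 0 triSegs2 route60 left60 reach60 triCand2 = true := by decide +kernel

theorem tri53_ok : triB 3 triSegs1 route53 left53 reach53 [] = true := by decide +kernel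

theorem triangle {z : ℕ} {S : List ℕ × List ℕ × List ℕ} {rts : List (List ℕ × List ℕ × List ℕ)} {left : List ℕ}
    {reach cands : List (List ℕ)} (hB : triB z S rts left reach cands = true)
    (hd : ∀ l < 4, Img co n (dd l) (ev xm (imW.getD l [] ++ vW.getD ((vz z).getD l 0) []))) :
    ∃ r ∈ cands, ev (gl co.iota n) (triWith S r) = 1 := by
  simp only [triB, Bool.and_eq_true, List.all_eq_true, Nat.blt_eq, Bool.or_eq_true, decide_eq_true_eq,
    List.mem_range, List.any_eq_true, Bool.not_eq_true'] at hB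
  obtain ⟨⟨⟨⟨⟨⟨⟨⟨⟨⟨hr, t0⟩, t1⟩, x0⟩, x1⟩, hlen⟩, hS⟩, hcl⟩, hreach⟩, htab⟩, hleft⟩ := hB
  have hS1 : ∀ a ∈ S.1, a < 4 := fun a ha => hS a (by simp [ha])
  have hS2 : ∀ a ∈ S.2.1, a < 4 := fun a ha => hS a (by simp [ha])
  have hS3 : ∀ a ∈ S.2.2, a < 4 := fun a ha => hS a (by simp [ha])
  set C₁ := co.iota (ev xm S.1) with hC1
  set C₂ := co.iota (ev xm S.2.1) with hC2
  set W := ev xm S.2.2 with hW
  set m := n * C₁ * n * C₂ * n with hm
  have key : ∀ e ∈ rts, m * co.iota (ev xm (dF e.1)) * m⁻¹ = co.iota (ev xm (imV (vz z) e.2.2)) := by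
    intro e he
    have h := hr e he
    simp only [routeB, Bool.and_eq_true, List.all_eq_true, Nat.blt_eq, List.mem_append] at h
    obtain ⟨⟨⟨hl, b1⟩, b2⟩, -⟩ := h
    have i0 := img_dF hd (w := e.1) fun a ha => hl a (Or.inl (Or.inl ha))
    have i1 := img_dF hd (w := e.2.1) fun a ha => hl a (Or.inl (Or.inr ha))
    have i2 := img_dF hd (w := e.2.2) fun a ha => hl a (Or.inr ha)
    have c1 := congrArg co.iota (eq_of_eqB b1)
    have c2 := congrArg co.iota (eq_of_eqB b2)
    rw [ev_app, ev_app, map_mul, map_mul, ← hC2] at c1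
    rw [ev_app, ev_app, map_mul, map_mul, ← hC1] at c2
    rw [Img] at i0 i1 i2
    rw [← eq_mul_inv_iff_mul_eq] at c1 c2
    rw [i2, hm]
    conv_rhs => rw [← mul_inv_eq_iff_eq_mul.2 (eq_mul_inv_iff_mul_eq.1 c2), i1,
      ← mul_inv_eq_iff_eq_mul.2 (eq_mul_inv_iff_mul_eq.1 c1), i0]
    group
  have m0 : rts.getD 0 ([], [], []) ∈ rts := by
    rw [List.getD_eq_getElem _ _ (by omega)]; exact List.getElem_mem _
  have m1 : rts.getD 1 ([], [], []) ∈ rts := by
    rw [List.getD_eq_getElem _ _ hlen]; exact List.getElem_mem _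
  have hmt : Commute m t := by
    have h := key _ m0
    rw [eq_of_eqB t0, eq_of_eqB t1, show ev xm tWord = tm from rfl, co.map_t] at h
    exact mul_inv_eq_iff_eq_mul.1 h
  obtain ⟨w, hw⟩ := co.exists_pre hmt
  have hconj : ∀ e ∈ rts,
      W * w * ev xm (dF e.1) = W * ev xm (imV (vz z) e.2.2) * W⁻¹ * (W * w) := fun e he => co.inj (by
    have h := key e he
    rw [← hw] at h
    simp only [map_mul, map_inv]
    rw [← h]; group)
  have hrx : Commute (W * w) nbr := by
    have h := hconj _ m1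
    have e1 := eq_of_eqB x1
    rw [ev_app, ev_app, ← hW] at e1
    rw [eq_of_eqB x0, e1, mul_inv_cancel_right] at h
    exact h
  obtain ⟨i, hi, v, hv, hiv, -⟩ := table_spec hrx
  have hil : i ∈ left := by
    refine (htab i hi).resolve_right ?_
    rintro ⟨p, hp, hne⟩
    refine ne_of_eqB hne ?_
    have hE := eq_of_eqB (hreach p hp)
    rw [ev_app, ev_app, ev_invWord hS3] at hE
    rw [ev_app, ev_app, hE]
    have he : p.1 ∈ rts := List.mem_of_mem_drop (List.of_mem_zip hp).1
    set e := p.1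
    have h := hconj e he
    have hcv := hr e he
    simp only [routeB, Bool.and_eq_true, List.all_eq_true, List.mem_range] at hcv
    have hc' := eq_of_eqB (hcv.2 v hv)
    rw [ev_app, ev_app] at hc'
    rw [hiv, mul_assoc _ _ (ev xm (dF e.1)), hc', ← mul_assoc, ← mul_assoc] at h
    exact mul_right_cancel h
  obtain ⟨r, hrc, hre⟩ := hleft i hil v hv
  refine ⟨r, hrc, ?_⟩
  have hrl : ∀ a ∈ r ++ S.2.2, a < 4 := fun a ha => by
    rcases List.mem_append.1 ha with ha | ha
    · exact hcl r hrc a ha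
    · exact hS3 a ha
  have e := eq_of_eqB hre
  rw [ev_app, ev_app, ← hiv, ev_nil] at e
  rw [ev_triWith hS1 hS2 hrl, cv_append]
  show n * C₁ * n * C₂ * n * (co.iota (ev xm r) * co.iota W) = 1
  rw [← hm, ← hw, ← map_mul, ← map_mul, eq_inv_of_mul_eq_one_left e, ← map_one co.iota]
  congr 1
  group

/-- The relators are the four conjugations, the square and the two triangles. -/
theorem rels_split : rels.take 4 = ((List.range 4).map fun l => [5] ++ dW.getD l [] ++ [4] ++ invWord (imW.getD l [])) ∧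
    rels.drop 4 = [[4, 4], triWith triSegs1 [], triWith triSegs2 []] ∧
    ((List.range 4).all fun l => (dW.getD l [] ++ imW.getD l []).all fun a => Nat.blt a 4) = true := by
  decide +kernel

theorem conj_rels (hn : n * n = 1)
    (hd : ∀ l < 4, Img co n (dd l) (ev xm (imW.getD l [] ++ vW.getD ((vz 0).getD l 0) []))) :
    ∀ w ∈ rels.take 4, ev (gl co.iota n) w = 1 := by
  obtain ⟨h4, -, hlt⟩ := rels_split
  simp only [List.all_eq_true, List.mem_range, Nat.blt_eq] at hlt
  rw [h4]
  intro w hw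
  obtain ⟨l, hl, rfl⟩ := List.mem_map.1 hw
  rw [List.mem_range] at hl
  have h := hd l hl
  have e0 : ev xm (vW.getD ((vz 0).getD l 0) []) = 1 := by interval_cases l <;> rfl
  rw [ev_app xm, e0, mul_one, Img] at h
  have hni : n⁻¹ = n := inv_eq_of_mul_eq_one_right hn
  rw [ev_gl_append, ev_gl_append, ev_gl_append,
    ev_gl_cover _ _ (fun a ha => hlt l hl a (List.mem_append_left _ ha)),
    ev_gl_cover _ _ (invWord_lt fun a ha => hlt l hl a (List.mem_append_right _ ha))]
  rw [cv_invWord fun a ha => hlt l hl a (List.mem_append_right _ ha)]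
  show n⁻¹ * 1 * co.iota (dd l) * (n * 1) * (co.iota (ev xm (imW.getD l [])))⁻¹ = 1
  rw [h, hni]
  simp only [mul_one]
  group

/-- The relators hold for a suitable element. -/
theorem exists_amal (ht : orderOf t = 2) (co : Coord t) (F : ClassFacts) {g : G}
    (h1 : g * t * g⁻¹ = co.iota nbr) (h2 : g * co.iota nbr * g⁻¹ = t) : ∃ n : G, Amal co.iota n := by
  have S : Swap co g := ⟨by rw [Img, co.map_t, h1], by rw [Img, co.map_t, h2]⟩
  obtain ⟨n, z, hz, hn, -, hd⟩ := exists_involution F ht S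
  rcases hz with rfl | rfl
  swap
  · obtain ⟨r, hr, -⟩ := triangle tri53_ok hd
    exact absurd hr List.not_mem_nil
  refine ⟨n, fun w hw => ?_⟩
  have hc := conj_rels hn hd
  rw [← List.take_append_drop 4 rels] at hw
  rcases List.mem_append.1 hw with hw | hw
  · exact hc w hw
  have hlt : ∀ S' ∈ [triSegs1, triSegs2], ∀ a ∈ S'.1 ++ S'.2.1 ++ S'.2.2, a < 4 := killFacts_spec.2.2.1
  have hstrip : ∀ {S' : List ℕ × List ℕ × List ℕ}, S' ∈ [triSegs1, triSegs2] → ∀ {r : List ℕ},
      (∀ a ∈ r, a < 4) → ev xm r = 1 → ev (gl co.iota n) (triWith S' r) = 1 →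
      ev (gl co.iota n) (triWith S' []) = 1 := by
    intro S' hS' r hr he h
    have a1 : ∀ a ∈ S'.1, a < 4 := fun a ha => hlt S' hS' a (by simp [ha])
    have a2 : ∀ a ∈ S'.2.1, a < 4 := fun a ha => hlt S' hS' a (by simp [ha])
    have a3 : ∀ a ∈ S'.2.2, a < 4 := fun a ha => hlt S' hS' a (by simp [ha])
    rw [ev_triWith a1 a2 fun a ha => (List.mem_append.1 ha).elim (hr a) (a3 a), cv_append,
      show cv xm co.iota r = 1 from (congrArg co.iota he).trans (map_one _), one_mul] at h
    rw [ev_triWith a1 a2 (by simpa using a3), List.nil_append]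
    exact h
  rw [rels_split.2.1] at hw
  simp only [List.mem_cons, List.not_mem_nil, or_false] at hw
  rcases hw with rfl | rfl | rfl
  · simpa [ev, gl] using hn
  · obtain ⟨r, hr, h⟩ := triangle tri50_ok hd
    exact hstrip (by simp) (killFacts_spec.2.2.2.1 r (List.mem_append_left _ hr))
      (tri1_unique faithful co.inj hc hn hr h) h
  · obtain ⟨r, hr, h⟩ := triangle tri60_ok hd
    exact hstrip (by simp) (killFacts_spec.2.2.2.1 r (List.mem_append_right _ hr))
      (tri2_unique faithful co.inj hc hn hr h) h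

end CfsgLib.CoThreeRec.Rel
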