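import Mathlib.Data.Nat.Notation

/-!
# The levels, the combinations and the routes (generated)
-/

set_option autoImplicit false
set_option maxRecDepth 100000

namespace CfsgLib.CoThreeRec.Rel

/-- The images of the generators in the model. -/
def imW : List (List ℕ) := [
  [0, 3, 3, 1, 2, 1, 2, 1, 3, 0, 0, 3, 3, 3],
  [0, 2, 1, 3, 0, 2, 2, 2, 1, 2, 2, 2, 0],
  [0, 2, 1, 3, 3, 1, 1, 3, 1, 2, 2, 0, 0, 2],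
  [3, 0, 3, 0, 2, 1, 1, 2, 1, 2, 1, 1, 2, 0, 0]]

/-- The same as products of generators. -/
def imG : List (List ℕ) := [
  [3, 1, 1, 0, 0, 0],
  [0, 1, 1, 3, 3, 0, 1],
  [3, 3, 0, 1, 2, 0, 1],
  [1, 2, 2, 3, 0, 0, 0]]

/-- The model permutation of the conjugates. -/
def sP : List ℕ := [27, 21, 3, 2, 30, 18, 25, 7, 8, 15, 32, 38, 14, 13, 12, 9, 16, 24, 5, 19, 34, 1, 36, 29, 17, 6, 35, 0, 31, 23, 4, 28, 10, 33, 20, 26, 22, 37, 11]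

/-- The sources: three fixed indices and six further ones. -/
def srcs : List ℕ := [2, 3, 33, 0, 1, 6, 7, 8, 9]

/-- For every level and candidate: a witness kind and its data. -/
def lev : List (List (ℕ × List ℕ × List ℕ)) := [
  [(2, [800], []), (2, [168], []), (0, [3], [1]), (0, [3], [0]), (2, [960], []), (2, [180], []), (2, [1], []), (2, [225], []), (2, [16], []), (2, [34], []), (2, [896], []), (2, [176], []), (2, [185], []), (2, [164], []), (2, [165], []), (2, [160], []), (2, [184], []), (2, [13], []), (2, [32], []), (2, [12], []), (2, [239], []), (2, [35], []), (2, [238], []), (2, [236], []), (2, [17], []), (2, [128], []), (2, [46], []), (2, [0], []), (2, [224], []), (2, [47], []), (2, [3], []), (2, [232], []), (2, [2], []), (0, [3], [2]), (2, [45], []), (2, [237], []), (2, [44],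 []), (2, [233], []), (2, [33], [])],
  [(0, [3, 4], [4, 3, 1]), (0, [3, 4], [4, 3, 1]), (0, [3, 4], [4, 3, 1]), (0, [3, 4], [4, 3, 1]), (0, [3, 4], [4, 3, 1]), (0, [3, 4], [4, 3, 1]), (0, [3, 4], [4, 3, 1]), (0, [3, 4], [4, 3, 1]), (0, [3, 4], [4, 3, 1]), (2, [24], []), (0, [3, 4], [4, 3, 1]), (0, [3, 4], [4, 3, 1]), (2, [552], []), (2, [200], []), (2, [560], []), (0, [3, 4], [4, 3, 1]), (2, [208], []), (0, [3, 4], [4, 3, 1]), (2, [4], []), (0, [3, 4], [4, 3, 1]), (0, [3, 4], [4, 3, 1]), (2, [0], []), (0, [3, 4], [4, 3, 1]), (0, [3, 4], [4, 3, 1]), (0, [3, 4], [4, 3, 1]), (0, [3, 4], [4, 3, 1]), (0, [3, 4], [4, 3, 1]), (0, [3, 4], [4, 3, 1]), (0, [3, 4], [4, 3, 1]), (0, [3, 4], [4, 3, 1]), (0, [3, 4], [4, 3, 1]), (0, [3, 4], [4, 3, 1]), (0, [3, 4], [4, 3, 1]), (0, [3, 4], [4, 3, 1]),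 (0, [3, 4], [4, 3, 1]), (0, [3, 4], [4, 3, 1]), (0, [3, 4], [4, 3, 1]), (0, [3, 4], [4, 3, 1]), (2, [8], [])],
  [(2, [744], []), (0, [5, 4], [4, 5]), (0, [3, 5, 0], [5, 3, 1]), (0, [3, 5, 0], [5, 3, 1]), (2, [280], []), (0, [5, 4], [4, 5]), (0, [5, 4], [4, 5]), (0, [5, 4], [4, 5]), (0, [5, 4], [4, 5]), (0, [3, 5, 0], [5, 3, 1]), (2, [68], []), (0, [5, 4], [4, 5]), (0, [5, 4], [4, 5]), (0, [5, 4], [4, 5]), (0, [5, 4], [4, 5]), (0, [5, 4], [4, 5]), (0, [5, 4], [4, 5]), (0, [5, 4], [4, 5]), (0, [3, 5, 0], [5, 3, 1]), (0, [5, 4], [4, 5]), (0, [5, 4], [4, 5]), (0, [3, 5, 0], [5, 3, 1]), (0, [5, 4], [4, 5]), (0, [5, 4], [4, 5]), (0, [5, 4], [4, 5]), (2, [0], []), (0, [3, 5, 0], [5, 3, 1]), (0, [5, 4], [4, 5]), (0, [5, 4], [4, 5]), (0, [3, 5, 0], [5, 3, 1]), (0, [5, 4], [4, 5]), (0, [5, 4],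 [4, 5]), (0, [5, 4], [4, 5]), (0, [3, 5, 0], [5, 3, 1]), (0, [3, 5, 0], [5, 3, 1]), (0, [5, 4], [4, 5]), (0, [3, 5, 0], [5, 3, 1]), (0, [5, 4], [4, 5]), (0, [3, 5, 0], [5, 3, 1])],
  [(0, [3, 6], [6, 3, 0]), (0, [3, 6], [6, 3, 0]), (0, [3, 6], [6, 3, 0]), (0, [3, 6], [6, 3, 0]), (0, [3, 6], [6, 3, 0]), (0, [3, 6], [6, 3, 0]), (0, [3, 6], [6, 3, 0]), (2, [0], []), (0, [3, 6], [6, 3, 0]), (0, [3, 6], [6, 3, 0]), (0, [3, 6], [6, 3, 0]), (0, [3, 6], [6, 3, 0]), (0, [3, 6], [6, 3, 0]), (0, [3, 6], [6, 3, 0]), (0, [3, 6], [6, 3, 0]), (0, [3, 6], [6, 3, 0]), (0, [3, 6], [6, 3, 0]), (0, [3, 6], [6, 3, 0]), (0, [3, 6], [6, 3, 0]), (0, [3, 6], [6, 3, 0]), (0, [3, 6], [6, 3, 0]), (0, [3, 6], [6, 3, 0]), (0, [3, 6], [6, 3, 0]), (0, [3, 6], [6, 3, 0]), (0, [3, 6], [6, 3, 0]), (0, [3, 6], [6, 3, 0]),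 (0, [4, 6, 0], [6, 4, 1]), (0, [3, 6], [6, 3, 0]), (3, [], []), (0, [4, 6, 0], [6, 4, 1]), (0, [3, 6], [6, 3, 0]), (3, [], []), (0, [3, 6], [6, 3, 0]), (0, [3, 6], [6, 3, 0]), (0, [4, 6, 0], [6, 4, 1]), (0, [3, 6], [6, 3, 0]), (0, [4, 6, 0], [6, 4, 1]), (3, [], []), (0, [3, 6], [6, 3, 0])],
  [(0, [7, 6], [6, 7]), (0, [7, 6], [6, 7]), (0, [4, 7], [7, 4, 0]), (0, [4, 7], [7, 4, 0]), (0, [7, 6], [6, 7]), (0, [7, 6], [6, 7]), (0, [7, 6], [6, 7]), (0, [4, 7], [7, 4, 0]), (2, [0], []), (0, [7, 6], [6, 7]), (0, [7, 6], [6, 7]), (0, [7, 6], [6, 7]), (0, [4, 7], [7, 4, 0]), (0, [4, 7], [7, 4, 0]), (0, [4, 7], [7, 4, 0]), (0, [7, 6], [6, 7]), (0, [4, 7], [7, 4, 0]), (3, [], []), (0, [7, 6], [6, 7]), (3, [], []), (0, [7, 6], [6, 7]), (0, [7, 6], [6, 7]), (0, [7, 6], [6, 7]), (0, [7, 6], [6, 7]),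 (3, [], []), (0, [7, 6], [6, 7]), (0, [7, 6], [6, 7]), (0, [7, 6], [6, 7]), (0, [4, 7], [7, 4, 0]), (0, [7, 6], [6, 7]), (0, [7, 6], [6, 7]), (0, [4, 7], [7, 4, 0]), (0, [7, 6], [6, 7]), (0, [4, 7], [7, 4, 0]), (0, [7, 6], [6, 7]), (0, [7, 6], [6, 7]), (0, [7, 6], [6, 7]), (0, [4, 7], [7, 4, 0]), (0, [7, 6], [6, 7])],
  [(0, [8, 3], [3, 8]), (3, [], []), (0, [5, 8], [8, 5, 0]), (0, [5, 8], [8, 5, 0]), (0, [8, 3], [3, 8]), (3, [], []), (0, [5, 8], [8, 5, 0]), (0, [8, 3], [3, 8]), (0, [8, 3], [3, 8]), (0, [8, 3], [3, 8]), (0, [8, 3], [3, 8]), (3, [], []), (0, [8, 3], [3, 8]), (0, [8, 3], [3, 8]), (0, [8, 3], [3, 8]), (2, [0], []), (0, [8, 3], [3, 8]), (0, [8, 3], [3, 8]), (0, [8, 3], [3, 8]), (0, [8, 3], [3, 8]), (0, [5, 8], [8, 5, 0]), (0, [8, 3], [3, 8]), (0, [5, 8], [8, 5, 0]), (0, [5,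 8], [8, 5, 0]), (0, [8, 3], [3, 8]), (0, [8, 3], [3, 8]), (0, [8, 3], [3, 8]), (0, [5, 8], [8, 5, 0]), (0, [8, 3], [3, 8]), (0, [8, 3], [3, 8]), (0, [5, 8], [8, 5, 0]), (0, [8, 3], [3, 8]), (0, [5, 8], [8, 5, 0]), (0, [5, 8], [8, 5, 0]), (0, [8, 3], [3, 8]), (0, [5, 8], [8, 5, 0]), (0, [8, 3], [3, 8]), (0, [8, 3], [3, 8]), (0, [8, 3], [3, 8])]]

/-- The conjugates as products of the sources. -/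
def kSrc : List (List ℕ) := [
  [3],
  [4],
  [0],
  [1],
  [3, 0],
  [4, 0],
  [5],
  [6],
  [7],
  [8],
  [3, 1],
  [4, 1],
  [7, 6, 1],
  [7, 6, 2],
  [7, 6, 0],
  [4, 2],
  [7, 6],
  [7, 0],
  [8, 0],
  [7, 2],
  [5, 4, 0],
  [8, 2],
  [5, 4],
  [5, 4, 1],
  [7, 1],
  [3, 2],
  [8, 3, 2],
  [5, 2],
  [6, 1],
  [8, 3, 0],
  [5, 0],
  [6, 0],
  [5, 1],
  [2],
  [8, 3, 1],
  [5, 4, 2],
  [8, 3],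
  [6, 2],
  [8, 1]]

/-- The remaining combinations with their permutations and witnesses. -/
def combo : List (List ℕ × List ℕ × ℕ) := [
  ([7, 8, 1], [27, 21, 3, 2, 30, 18, 25, 7, 8, 1, 32, 38, 14, 13, 12, 9, 16, 24, 11, 19, 34, 15, 36, 29, 17, 6, 22, 0, 31, 20, 4, 28, 10, 33, 23, 26, 35, 37, 5], 2),
  ([7, 8, 5], [27, 21, 3, 2, 30, 18, 25, 7, 8, 5, 32, 38, 14, 13, 12, 9, 16, 24, 15, 19, 34, 11, 36, 29, 17, 6, 20, 0, 31, 22, 4, 28, 10, 33, 35, 26, 23, 37, 1], 2),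
  ([7, 8, 11], [27, 21, 3, 2, 30, 18, 25, 7, 8, 11, 32, 38, 14, 13, 12, 9, 16, 24, 1, 19, 34, 5, 36, 29, 17, 6, 23, 0, 31, 35, 4, 28, 10, 33, 22, 26, 20, 37, 15], 2),
  ([7, 8, 15], [27, 21, 3, 2, 30, 18, 25, 7, 8, 15, 32, 38, 14, 13, 12, 9, 16, 24, 5, 19, 34, 1, 36, 29, 17, 6, 35, 0, 31, 23, 4, 28, 10, 33, 20, 26, 22, 37, 11], 9),
  ([7, 17, 1], [27, 21, 3, 2, 30, 18, 25, 7, 17, 1, 32, 38, 16, 12, 13, 9, 14, 19, 11, 24, 34, 15, 36, 29, 8, 6, 22, 0, 31, 20, 4, 28, 10, 33, 23, 26, 35, 37, 5], 0),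
  ([7, 17, 5], [27, 21, 3, 2, 30, 18, 25, 7, 17, 5, 32, 38, 16, 12, 13, 9, 14, 19, 15, 24, 34, 11, 36, 29, 8, 6, 20, 0, 31, 22, 4, 28, 10, 33, 35, 26, 23, 37, 1], 0),
  ([7, 17, 11], [27, 21, 3, 2, 30, 18, 25, 7, 17, 11, 32, 38, 16, 12, 13, 9, 14, 19, 1, 24, 34, 5, 36, 29, 8, 6, 23, 0, 31, 35, 4, 28, 10, 33, 22, 26, 20, 37, 15], 0),
  ([7, 17, 15], [27, 21, 3, 2, 30, 18, 25, 7, 17, 15, 32, 38, 16, 12, 13, 9, 14, 19, 5, 24, 34, 1, 36, 29, 8, 6, 35, 0, 31, 23, 4, 28, 10, 33, 20, 26, 22, 37, 11], 0),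
  ([7, 19, 1], [27, 21, 3, 2, 30, 18, 25, 7, 19, 1, 32, 38, 12, 16, 14, 9, 13, 17, 11, 8, 34, 15, 36, 29, 24, 6, 22, 0, 31, 20, 4, 28, 10, 33, 23, 26, 35, 37, 5], 0),
  ([7, 19, 5], [27, 21, 3, 2, 30, 18, 25, 7, 19, 5, 32, 38, 12, 16, 14, 9, 13, 17, 15, 8, 34, 11, 36, 29, 24, 6, 20, 0, 31, 22, 4, 28, 10, 33, 35, 26, 23, 37, 1], 0),
  ([7, 19, 11], [27, 21, 3, 2, 30, 18, 25, 7, 19, 11, 32, 38, 12, 16, 14, 9, 13, 17, 1, 8, 34, 5, 36, 29, 24, 6, 23, 0, 31, 35, 4, 28, 10, 33, 22, 26, 20, 37, 15], 0),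
  ([7, 19, 15], [27, 21, 3, 2, 30, 18, 25, 7, 19, 15, 32, 38, 12, 16, 14, 9, 13, 17, 5, 8, 34, 1, 36, 29, 24, 6, 35, 0, 31, 23, 4, 28, 10, 33, 20, 26, 22, 37, 11], 0),
  ([7, 24, 1], [27, 21, 3, 2, 30, 18, 25, 7, 24, 1, 32, 38, 13, 14, 16, 9, 12, 8, 11, 17, 34, 15, 36, 29, 19, 6, 22, 0, 31, 20, 4, 28, 10, 33, 23, 26, 35, 37, 5], 0),
  ([7, 24, 5], [27, 21, 3, 2, 30, 18, 25, 7, 24, 5, 32, 38, 13, 14, 16, 9, 12, 8, 15, 17, 34, 11, 36, 29, 19, 6, 20, 0, 31, 22, 4, 28, 10, 33, 35, 26, 23, 37, 1], 0),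
  ([7, 24, 11], [27, 21, 3, 2, 30, 18, 25, 7, 24, 11, 32, 38, 13, 14, 16, 9, 12, 8, 1, 17, 34, 5, 36, 29, 19, 6, 23, 0, 31, 35, 4, 28, 10, 33, 22, 26, 20, 37, 15], 0),
  ([7, 24, 15], [27, 21, 3, 2, 30, 18, 25, 7, 24, 15, 32, 38, 13, 14, 16, 9, 12, 8, 5, 17, 34, 1, 36, 29, 19, 6, 35, 0, 31, 23, 4, 28, 10, 33, 20, 26, 22, 37, 11], 0),
  ([28, 8, 1], [27, 21, 3, 2, 30, 18, 25, 28, 8, 1, 32, 38, 13, 14, 16, 9, 12, 24, 11, 19, 34, 15, 36, 29, 17, 6, 22, 0, 37, 20, 4, 7, 10, 33, 23, 26, 35, 31, 5], 0),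
  ([28, 8, 5], [27, 21, 3, 2, 30, 18, 25, 28, 8, 5, 32, 38, 13, 14, 16, 9, 12, 24, 15, 19, 34, 11, 36, 29, 17, 6, 20, 0, 37, 22, 4, 7, 10, 33, 35, 26, 23, 31, 1], 0),
  ([28, 8, 11], [27, 21, 3, 2, 30, 18, 25, 28, 8, 11, 32, 38, 13, 14, 16, 9, 12, 24, 1, 19, 34, 5, 36, 29, 17, 6, 23, 0, 37, 35, 4, 7, 10, 33, 22, 26, 20, 31, 15], 0),
  ([28, 8, 15], [27, 21, 3, 2, 30, 18, 25, 28, 8, 15, 32, 38, 13, 14, 16, 9, 12, 24, 5, 19, 34, 1, 36, 29, 17, 6, 35, 0, 37, 23, 4, 7, 10, 33, 20, 26, 22, 31, 11], 0),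
  ([28, 17, 1], [27, 21, 3, 2, 30, 18, 25, 28, 17, 1, 32, 38, 12, 16, 14, 9, 13, 19, 11, 24, 34, 15, 36, 29, 8, 6, 22, 0, 37, 20, 4, 7, 10, 33, 23, 26, 35, 31, 5], 0),
  ([28, 17, 5], [27, 21, 3, 2, 30, 18, 25, 28, 17, 5, 32, 38, 12, 16, 14, 9, 13, 19, 15, 24, 34, 11, 36, 29, 8, 6, 20, 0, 37, 22, 4, 7, 10, 33, 35, 26, 23, 31, 1], 0),
  ([28, 17, 11], [27, 21, 3, 2, 30, 18, 25, 28, 17, 11, 32, 38, 12, 16, 14, 9, 13, 19, 1, 24, 34, 5, 36, 29, 8, 6, 23, 0, 37, 35, 4, 7, 10, 33, 22, 26, 20, 31, 15], 0),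
  ([28, 17, 15], [27, 21, 3, 2, 30, 18, 25, 28, 17, 15, 32, 38, 12, 16, 14, 9, 13, 19, 5, 24, 34, 1, 36, 29, 8, 6, 35, 0, 37, 23, 4, 7, 10, 33, 20, 26, 22, 31, 11], 0),
  ([28, 19, 1], [27, 21, 3, 2, 30, 18, 25, 28, 19, 1, 32, 38, 16, 12, 13, 9, 14, 17, 11, 8, 34, 15, 36, 29, 24, 6, 22, 0, 37, 20, 4, 7, 10, 33, 23, 26, 35, 31, 5], 2),
  ([28, 19, 5], [27, 21, 3, 2, 30, 18, 25, 28, 19, 5, 32, 38, 16, 12, 13, 9, 14, 17, 15, 8, 34, 11, 36, 29, 24, 6, 20, 0, 37, 22, 4, 7, 10, 33, 35, 26, 23, 31, 1], 2),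
  ([28, 19, 11], [27, 21, 3, 2, 30, 18, 25, 28, 19, 11, 32, 38, 16, 12, 13, 9, 14, 17, 1, 8, 34, 5, 36, 29, 24, 6, 23, 0, 37, 35, 4, 7, 10, 33, 22, 26, 20, 31, 15], 3),
  ([28, 19, 15], [27, 21, 3, 2, 30, 18, 25, 28, 19, 15, 32, 38, 16, 12, 13, 9, 14, 17, 5, 8, 34, 1, 36, 29, 24, 6, 35, 0, 37, 23, 4, 7, 10, 33, 20, 26, 22, 31, 11], 2),
  ([28, 24, 1], [27, 21, 3, 2, 30, 18, 25, 28, 24, 1, 32, 38, 14, 13, 12, 9, 16, 8, 11, 17, 34, 15, 36, 29, 19, 6, 22, 0, 37, 20, 4, 7, 10, 33, 23, 26, 35, 31, 5], 0),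
  ([28, 24, 5], [27, 21, 3, 2, 30, 18, 25, 28, 24, 5, 32, 38, 14, 13, 12, 9, 16, 8, 15, 17, 34, 11, 36, 29, 19, 6, 20, 0, 37, 22, 4, 7, 10, 33, 35, 26, 23, 31, 1], 0),
  ([28, 24, 11], [27, 21, 3, 2, 30, 18, 25, 28, 24, 11, 32, 38, 14, 13, 12, 9, 16, 8, 1, 17, 34, 5, 36, 29, 19, 6, 23, 0, 37, 35, 4, 7, 10, 33, 22, 26, 20, 31, 15], 0),
  ([28, 24, 15], [27, 21, 3, 2, 30, 18, 25, 28, 24, 15, 32, 38, 14, 13, 12, 9, 16, 8, 5, 17, 34, 1, 36, 29, 19, 6, 35, 0, 37, 23, 4, 7, 10, 33, 20, 26, 22, 31, 11], 0),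
  ([31, 8, 1], [27, 21, 3, 2, 30, 18, 25, 31, 8, 1, 32, 38, 16, 12, 13, 9, 14, 24, 11, 19, 34, 15, 36, 29, 17, 6, 22, 0, 7, 20, 4, 37, 10, 33, 23, 26, 35, 28, 5], 0),
  ([31, 8, 5], [27, 21, 3, 2, 30, 18, 25, 31, 8, 5, 32, 38, 16, 12, 13, 9, 14, 24, 15, 19, 34, 11, 36, 29, 17, 6, 20, 0, 7, 22, 4, 37, 10, 33, 35, 26, 23, 28, 1], 0),
  ([31, 8, 11], [27, 21, 3, 2, 30, 18, 25, 31, 8, 11, 32, 38, 16, 12, 13, 9, 14, 24, 1, 19, 34, 5, 36, 29, 17, 6, 23, 0, 7, 35, 4, 37, 10, 33, 22, 26, 20, 28, 15], 0),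
  ([31, 8, 15], [27, 21, 3, 2, 30, 18, 25, 31, 8, 15, 32, 38, 16, 12, 13, 9, 14, 24, 5, 19, 34, 1, 36, 29, 17, 6, 35, 0, 7, 23, 4, 37, 10, 33, 20, 26, 22, 28, 11], 0),
  ([31, 17, 1], [27, 21, 3, 2, 30, 18, 25, 31, 17, 1, 32, 38, 14, 13, 12, 9, 16, 19, 11, 24, 34, 15, 36, 29, 8, 6, 22, 0, 7, 20, 4, 37, 10, 33, 23, 26, 35, 28, 5], 0),
  ([31, 17, 5], [27, 21, 3, 2, 30, 18, 25, 31, 17, 5, 32, 38, 14, 13, 12, 9, 16, 19, 15, 24, 34, 11, 36, 29, 8, 6, 20, 0, 7, 22, 4, 37, 10, 33, 35, 26, 23, 28, 1], 0),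
  ([31, 17, 11], [27, 21, 3, 2, 30, 18, 25, 31, 17, 11, 32, 38, 14, 13, 12, 9, 16, 19, 1, 24, 34, 5, 36, 29, 8, 6, 23, 0, 7, 35, 4, 37, 10, 33, 22, 26, 20, 28, 15], 0),
  ([31, 17, 15], [27, 21, 3, 2, 30, 18, 25, 31, 17, 15, 32, 38, 14, 13, 12, 9, 16, 19, 5, 24, 34, 1, 36, 29, 8, 6, 35, 0, 7, 23, 4, 37, 10, 33, 20, 26, 22, 28, 11], 0),
  ([31, 19, 1], [27, 21, 3, 2, 30, 18, 25, 31, 19, 1, 32, 38, 13, 14, 16, 9, 12, 17, 11, 8, 34, 15, 36, 29, 24, 6, 22, 0, 7, 20, 4, 37, 10, 33, 23, 26, 35, 28, 5], 0),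
  ([31, 19, 5], [27, 21, 3, 2, 30, 18, 25, 31, 19, 5, 32, 38, 13, 14, 16, 9, 12, 17, 15, 8, 34, 11, 36, 29, 24, 6, 20, 0, 7, 22, 4, 37, 10, 33, 35, 26, 23, 28, 1], 0),
  ([31, 19, 11], [27, 21, 3, 2, 30, 18, 25, 31, 19, 11, 32, 38, 13, 14, 16, 9, 12, 17, 1, 8, 34, 5, 36, 29, 24, 6, 23, 0, 7, 35, 4, 37, 10, 33, 22, 26, 20, 28, 15], 0),
  ([31, 19, 15], [27, 21, 3, 2, 30, 18, 25, 31, 19, 15, 32, 38, 13, 14, 16, 9, 12, 17, 5, 8, 34, 1, 36, 29, 24, 6, 35, 0, 7, 23, 4, 37, 10, 33, 20, 26, 22, 28, 11], 0),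
  ([31, 24, 1], [27, 21, 3, 2, 30, 18, 25, 31, 24, 1, 32, 38, 12, 16, 14, 9, 13, 8, 11, 17, 34, 15, 36, 29, 19, 6, 22, 0, 7, 20, 4, 37, 10, 33, 23, 26, 35, 28, 5], 0),
  ([31, 24, 5], [27, 21, 3, 2, 30, 18, 25, 31, 24, 5, 32, 38, 12, 16, 14, 9, 13, 8, 15, 17, 34, 11, 36, 29, 19, 6, 20, 0, 7, 22, 4, 37, 10, 33, 35, 26, 23, 28, 1], 0),
  ([31, 24, 11], [27, 21, 3, 2, 30, 18, 25, 31, 24, 11, 32, 38, 12, 16, 14, 9, 13, 8, 1, 17, 34, 5, 36, 29, 19, 6, 23, 0, 7, 35, 4, 37, 10, 33, 22, 26, 20, 28, 15], 0),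
  ([31, 24, 15], [27, 21, 3, 2, 30, 18, 25, 31, 24, 15, 32, 38, 12, 16, 14, 9, 13, 8, 5, 17, 34, 1, 36, 29, 19, 6, 35, 0, 7, 23, 4, 37, 10, 33, 20, 26, 22, 28, 11], 0),
  ([37, 8, 1], [27, 21, 3, 2, 30, 18, 25, 37, 8, 1, 32, 38, 12, 16, 14, 9, 13, 24, 11, 19, 34, 15, 36, 29, 17, 6, 22, 0, 28, 20, 4, 31, 10, 33, 23, 26, 35, 7, 5], 0),
  ([37, 8, 5], [27, 21, 3, 2, 30, 18, 25, 37, 8, 5, 32, 38, 12, 16, 14, 9, 13, 24, 15, 19, 34, 11, 36, 29, 17, 6, 20, 0, 28, 22, 4, 31, 10, 33, 35, 26, 23, 7, 1], 0),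
  ([37, 8, 11], [27, 21, 3, 2, 30, 18, 25, 37, 8, 11, 32, 38, 12, 16, 14, 9, 13, 24, 1, 19, 34, 5, 36, 29, 17, 6, 23, 0, 28, 35, 4, 31, 10, 33, 22, 26, 20, 7, 15], 0),
  ([37, 8, 15], [27, 21, 3, 2, 30, 18, 25, 37, 8, 15, 32, 38, 12, 16, 14, 9, 13, 24, 5, 19, 34, 1, 36, 29, 17, 6, 35, 0, 28, 23, 4, 31, 10, 33, 20, 26, 22, 7, 11], 0),
  ([37, 17, 1], [27, 21, 3, 2, 30, 18, 25, 37, 17, 1, 32, 38, 13, 14, 16, 9, 12, 19, 11, 24, 34, 15, 36, 29, 8, 6, 22, 0, 28, 20, 4, 31, 10, 33, 23, 26, 35, 7, 5], 0),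
  ([37, 17, 5], [27, 21, 3, 2, 30, 18, 25, 37, 17, 5, 32, 38, 13, 14, 16, 9, 12, 19, 15, 24, 34, 11, 36, 29, 8, 6, 20, 0, 28, 22, 4, 31, 10, 33, 35, 26, 23, 7, 1], 0),
  ([37, 17, 11], [27, 21, 3, 2, 30, 18, 25, 37, 17, 11, 32, 38, 13, 14, 16, 9, 12, 19, 1, 24, 34, 5, 36, 29, 8, 6, 23, 0, 28, 35, 4, 31, 10, 33, 22, 26, 20, 7, 15], 0),
  ([37, 17, 15], [27, 21, 3, 2, 30, 18, 25, 37, 17, 15, 32, 38, 13, 14, 16, 9, 12, 19, 5, 24, 34, 1, 36, 29, 8, 6, 35, 0, 28, 23, 4, 31, 10, 33, 20, 26, 22, 7, 11], 0),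
  ([37, 19, 1], [27, 21, 3, 2, 30, 18, 25, 37, 19, 1, 32, 38, 14, 13, 12, 9, 16, 17, 11, 8, 34, 15, 36, 29, 24, 6, 22, 0, 28, 20, 4, 31, 10, 33, 23, 26, 35, 7, 5], 0),
  ([37, 19, 5], [27, 21, 3, 2, 30, 18, 25, 37, 19, 5, 32, 38, 14, 13, 12, 9, 16, 17, 15, 8, 34, 11, 36, 29, 24, 6, 20, 0, 28, 22, 4, 31, 10, 33, 35, 26, 23, 7, 1], 0),
  ([37, 19, 11], [27, 21, 3, 2, 30, 18, 25, 37, 19, 11, 32, 38, 14, 13, 12, 9, 16, 17, 1, 8, 34, 5, 36, 29, 24, 6, 23, 0, 28, 35, 4, 31, 10, 33, 22, 26, 20, 7, 15], 0),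
  ([37, 19, 15], [27, 21, 3, 2, 30, 18, 25, 37, 19, 15, 32, 38, 14, 13, 12, 9, 16, 17, 5, 8, 34, 1, 36, 29, 24, 6, 35, 0, 28, 23, 4, 31, 10, 33, 20, 26, 22, 7, 11], 0),
  ([37, 24, 1], [27, 21, 3, 2, 30, 18, 25, 37, 24, 1, 32, 38, 16, 12, 13, 9, 14, 8, 11, 17, 34, 15, 36, 29, 19, 6, 22, 0, 28, 20, 4, 31, 10, 33, 23, 26, 35, 7, 5], 0),
  ([37, 24, 5], [27, 21, 3, 2, 30, 18, 25, 37, 24, 5, 32, 38, 16, 12, 13, 9, 14, 8, 15, 17, 34, 11, 36, 29, 19, 6, 20, 0, 28, 22, 4, 31, 10, 33, 35, 26, 23, 7, 1], 0),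
  ([37, 24, 11], [27, 21, 3, 2, 30, 18, 25, 37, 24, 11, 32, 38, 16, 12, 13, 9, 14, 8, 1, 17, 34, 5, 36, 29, 19, 6, 23, 0, 28, 35, 4, 31, 10, 33, 22, 26, 20, 7, 15], 0),
  ([37, 24, 15], [27, 21, 3, 2, 30, 18, 25, 37, 24, 15, 32, 38, 16, 12, 13, 9, 14, 8, 5, 17, 34, 1, 36, 29, 19, 6, 35, 0, 28, 23, 4, 31, 10, 33, 20, 26, 22, 7, 11], 0)]

/-- Products of generators lying among the conjugates. -/
def charRels : List (List ℕ × ℕ) := [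
  ([3, 3, 3], 2),
  ([0, 0, 0, 3, 1, 3], 11),
  ([0, 0, 0, 2, 0, 2, 0, 2], 2)]

/-- Routes through triangle 5. -/
def route50 : List (List ℕ × List ℕ × List ℕ) := [
  ([3, 3, 3], [2, 2], [0, 0, 0, 0]),
  ([0, 0, 0, 0], [3, 3, 3], [3, 0, 1, 1, 3, 0]),
  ([1, 0], [1, 3, 0, 2, 0, 3, 1], [3, 3, 1, 0, 1]),
  ([3, 0], [3, 1, 0, 0, 3, 0, 0, 0], [0, 1, 1, 3, 1, 1]),
  ([2, 2], [0, 3, 0, 1, 1, 3], [1, 3, 1, 1, 0, 3]),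
  ([2, 0, 1, 2], [3, 3, 3, 2], [3, 3, 0, 0, 3, 0, 0])]

/-- What survives in triangle 5. -/
def left50 : List ℕ := [0, 736]

/-- Routes through triangle 5. -/
def route53 : List (List ℕ × List ℕ × List ℕ) := [
  ([3, 3, 3], [2, 2], [0, 0, 0, 0]),
  ([0, 0, 0, 0], [3, 3, 3], [3, 0, 1, 1, 3, 0]),
  ([1, 0], [1, 3, 0, 2, 0, 3, 1], [0, 1, 3, 3, 1]),
  ([3, 0], [2, 3, 1, 1, 2, 3, 0, 0], [0, 3, 2, 2, 1, 0]),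
  ([2, 2], [0, 3, 0, 1, 1, 3], [1, 3, 1, 1, 0, 3]),
  ([2, 0, 1, 2], [3, 3, 3, 2], [2, 0, 1, 2, 0, 1, 1, 0])]

/-- What survives in triangle 5. -/
def left53 : List ℕ := []

/-- Routes through triangle 6. -/
def route60 : List (List ℕ × List ℕ × List ℕ) := [
  ([3, 3, 3], [3, 3, 3, 0, 0, 0, 0], [0, 0, 0, 0]),
  ([0, 0, 0, 0], [3, 3, 3], [3, 3, 3, 0, 0, 0, 0]),
  ([0], [3, 0, 0, 3, 3, 2, 1, 0], [3, 0, 2, 0, 1, 0]),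
  ([1], [2, 2, 2, 0, 0, 0, 0], [2, 3, 0, 2, 3]),
  ([2], [1, 2, 0, 3, 3, 0, 0], [0, 2, 3, 3, 0, 1, 0]),
  ([3], [3, 3, 3, 1, 1, 0, 2], [2, 2, 3, 0, 2, 3])]

/-- What survives in triangle 6. -/
def left60 : List ℕ := [0]

/-- Segment 1 of relator 5. -/
def seg51 : List ℕ := [3, 3, 1, 3, 0, 0, 3, 3]

/-- Segment 2 of relator 5. -/
def seg52 : List ℕ := [2]

/-- Segment 3 of relator 5. -/
def seg53 : List ℕ := [0, 0, 2, 2, 1, 2, 1, 3, 0, 3, 3, 0, 3]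

/-- Segment 1 of relator 6. -/
def seg61 : List ℕ := [3, 1, 3, 0, 0, 2, 2]

/-- Segment 2 of relator 6. -/
def seg62 : List ℕ := [3, 3, 1, 1, 2, 0, 2]

/-- Segment 3 of relator 6. -/
def seg63 : List ℕ := [1, 3, 0, 3, 1, 1, 3, 0, 2, 1, 3, 3, 3, 1]

end CfsgLib.CoThreeRec.Rel
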