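import Cfsg.Agent.Lib.CoThreeRec.RelatorsPerm

/-!
# The images of the generators of the centraliser of the pair
-/

set_option autoImplicit false
set_option maxRecDepth 100000
set_option Elab.async false

namespace CfsgLib.CoThreeRec.Rel

open CfsgLib.CoThreeRec

variable {G : Type*} [Group G] {t : G} {co : Coord t} {g : G}

/-- A word in the generators. -/
def dF (w : List ℕ) : List ℕ := (w.map fun l => dW.getD l []).flatten

/-- The image of a word in the generators, with central corrections. -/
def imV (v : List ℕ) (w : List ℕ) : List ℕ :=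
  (w.map fun l => imW.getD l [] ++ vW.getD (v.getD l 0) []).flatten

/-- The corrections allowed. -/
def vz (z : ℕ) : List ℕ := [z, z, z, 0]

/-- The exchange on the four-group. -/
def vSwap (v : ℕ) : ℕ := [0, 2, 1, 3].getD v 0

theorem img_dF {v : List ℕ}
    (h : ∀ l < 4, Img co g (dd l) (ev xm (imW.getD l [] ++ vW.getD (v.getD l 0) []))) :
    ∀ {w : List ℕ}, (∀ l ∈ w, l < 4) → Img co g (ev xm (dF w)) (ev xm (imV v w))
  | [], _ => by rw [dF, imV]; exact Img.one
  | l :: w, hw => by
    have e1 : ev xm (dF (l :: w)) = dd l * ev xm (dF w) := by rw [dd, ← ev_app]; rfl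
    have e2 : ev xm (imV v (l :: w)) =
        ev xm (imW.getD l [] ++ vW.getD (v.getD l 0) []) * ev xm (imV v w) := by rw [← ev_app]; rfl
    rw [e1, e2]
    exact (h l (hw l List.mem_cons_self)).mul (img_dF h fun a ha => hw a (List.mem_cons_of_mem _ ha))

/-- Only the first entry of the table fixes all conjugates. -/
noncomputable def idB : Bool :=
  (List.range 1152).all fun i =>
    Nat.beq (tPat i).length 39 && (!decide (tPat i = List.range 39) || Nat.beq i 0)

theorem idB_ok : idB = true := by decide +kernel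

/-- The model's action on the conjugates, and the images as words in the generators. -/
noncomputable def modelB : Bool :=
  ((List.range 39).all fun k => Nat.blt (sP.getD k 0) 39 && Nat.beq (sP.getD (sP.getD k 0) 0) k) &&
  (List.range 4).all fun l => certEqB (imW.getD l [] ++ xWord) (xWord ++ imW.getD l []) &&
    (imG.getD l []).all (fun a => Nat.blt a 4) && certEqB (dF (imG.getD l [])) (imW.getD l []) &&
    (List.range 39).all fun k => certEqB (imW.getD l [] ++ kW.getD (sP.getD k 0) [])
      (kW.getD (sP.getD ((gP.getD l []).getD k 0) 0) [] ++ imW.getD l [])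

theorem modelB_ok : modelB = true := by decide +kernel

/-- The products among the conjugates leave one correction. -/
noncomputable def charB : Bool :=
  (charRels.all fun e => e.1.all (fun a => Nat.blt a 4) && Nat.blt e.2 39 && certEqB (dF e.1) (kW.getD e.2 [])) &&
  (List.range 4).all fun a => (List.range 4).all fun b => (List.range 4).all fun c => (List.range 4).all fun d =>
    (charRels.any fun e => !certEqB (imV [a, b, c, d] e.1) (kW.getD (sP.getD e.2 0) [])) ||
      (Nat.beq b a && Nat.beq c a && Nat.beq d 0)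

theorem charB_ok : charB = true := by decide +kernel

/-- The square of the image leaves two corrections; the exchange fixes two elements. -/
noncomputable def squareB : Bool :=
  ((List.range 4).all fun z => Nat.beq z 0 || Nat.beq z 3 || (List.range 4).any fun l =>
    !certEqB (imV (vz z) (imG.getD l []) ++ vW.getD (vSwap ((vz z).getD l 0)) []) (dW.getD l [])) &&
  ((List.range 4).all fun u => Nat.beq u 0 || Nat.beq u 3 ||
    !certEqB (vW.getD (vSwap u) []) (vW.getD u [])) &&
  certEqB (xWord ++ vW.getD 3 [] ++ tWord) []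

theorem squareB_ok : squareB = true := by decide +kernel

theorem centralizer_kk {c : Cm} (hc : Commute c nbr) (h : ∀ k < 39, Commute c (kk k)) :
    ∃ v < 4, c = ev xm (vW.getD v []) := by
  obtain ⟨i, hi, v, hv, e, hact⟩ := table_spec hc
  obtain ⟨-, hW0, -⟩ := table_len
  have hck := idB_ok
  simp only [idB, List.all_eq_true, Bool.and_eq_true, Nat.beq_eq, Bool.or_eq_true, Bool.not_eq_true',
    decide_eq_false_iff_not] at hck
  obtain ⟨hlen, hid⟩ := hck i (List.mem_range.2 hi)
  have heq : tPat i = List.range 39 := by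
    refine List.ext_getElem (by simpa using hlen) fun k hk _ => ?_
    have hk' : k < 39 := by rw [← hlen]; exact hk
    rw [List.getElem_range, ← List.getD_eq_getElem _ 0 hk]
    refine kk_inj (pp_lt hi hk') hk' (mul_right_cancel (b := c) ?_)
    rw [← pp, ← hact k hk', (h k hk').eq]
  obtain rfl : i = 0 := hid.resolve_left (by simpa using heq)
  exact ⟨v, hv, by rw [e, hW0, ev_nil, one_mul]⟩

theorem Swap.img_vW (S : Swap co g) {v : ℕ} (hv : v < 4) :
    Img co g (ev xm (vW.getD v [])) (ev xm (vW.getD (vSwap v) [])) := by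
  obtain ⟨-, -, -, e1, e2, e3, -⟩ := conj_spec
  have e0 : ev xm (vW.getD 0 []) = 1 := rfl
  interval_cases v
  · show Img co g (ev xm (vW.getD 0 [])) (ev xm (vW.getD 0 []))
    rw [e0]; exact Img.one
  · show Img co g (ev xm (vW.getD 1 [])) (ev xm (vW.getD 2 []))
    rw [e1, e2]; exact S.imgT
  · show Img co g (ev xm (vW.getD 2 [])) (ev xm (vW.getD 1 []))
    rw [e1, e2]; exact S.imgX
  · show Img co g (ev xm (vW.getD 3 [])) (ev xm (vW.getD 3 []))
    rw [e3]
    have h := S.imgT.mul S.imgX
    have hx : Commute tm nbr := co.inj (by rw [map_mul, map_mul, co.map_t, (co.commute_iota nbr).eq])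
    rwa [← hx.eq] at h

theorem Img.mul_t {a b : Cm} (h : Img co g a b) : Img co (g * t) a b := by
  rw [Img] at h ⊢
  rw [h, mul_inv_rev, mul_assoc g t, ← (co.commute_iota a).eq]; group

/-- An involution exchanging the pair, with the images of the generators. -/
theorem exists_involution (F : ClassFacts) (ht : orderOf t = 2) (S₀ : Swap co g) :
    ∃ n z, (z = 0 ∨ z = 3) ∧ n * n = 1 ∧ Swap co n ∧
      ∀ l < 4, Img co n (dd l) (ev xm (imW.getD l [] ++ vW.getD ((vz z).getD l 0) [])) := by
  obtain ⟨g, S, himg⟩ := exists_perm F ht S₀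
  have hm := modelB_ok
  simp only [modelB, Bool.and_eq_true, List.all_eq_true, List.mem_range, Nat.blt_eq, Nat.beq_eq] at hm
  obtain ⟨hsp, hgen⟩ := hm
  have hv : ∀ l, ∃ v, l < 4 → v < 4 ∧ Img co g (dd l) (ev xm (imW.getD l [] ++ vW.getD v [])) := by
    intro l
    by_cases hl : l < 4
    swap
    · exact ⟨0, fun h => absurd h hl⟩
    obtain ⟨⟨⟨m1, -⟩, -⟩, m4⟩ := hgen l hl
    obtain ⟨c', hc', hcx⟩ := S.exists_img (base_spec.2.2.2 l hl)
    set m := ev xm (imW.getD l []) with hmdef
    have hmx : Commute m nbr := by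
      show _ * _ = _ * _
      rw [hmdef, nbr, ← ev_app, ← ev_app]; exact eq_of_eqB m1
    obtain ⟨v, hv, e⟩ := centralizer_kk (c := m⁻¹ * c') (hmx.inv_left.mul_left hcx) fun j hj => by
      obtain ⟨hj', hjj⟩ := hsp j hj
      obtain ⟨hq, hcomm⟩ := base_spec.1 l hl _ hj'
      have h1 := hc'.mul (himg _ hj')
      rw [hcomm, hjj] at h1
      have h2 := h1.unique ((himg _ hq).mul hc')
      have h3 := eq_of_eqB (m4 _ hj')
      rw [ev_app, ev_app, hjj] at h3
      show _ * _ = _ * _
      have h3' : m * kk j = kk (sP.getD ((gP.getD l []).getD (sP.getD j 0) 0) 0) * m := h3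
      have e : m⁻¹ * kk (sP.getD ((gP.getD l []).getD (sP.getD j 0) 0) 0) * m = kk j := by
        rw [mul_assoc, ← h3', inv_mul_cancel_left]
      rw [mul_assoc, h2, ← e]; group
    exact ⟨v, fun _ => ⟨hv, by rw [ev_app, ← hmdef, ← e, mul_inv_cancel_left]; exact hc'⟩⟩
  choose v hv using hv
  have hd : ∀ l < 4, Img co g (dd l) (ev xm (imW.getD l [] ++ vW.getD ([v 0, v 1, v 2, v 3].getD l 0) [])) := by
    intro l hl
    have h := (hv l hl).2
    interval_cases l <;> exact h
  have hcb := charB_ok
  simp only [charB, Bool.and_eq_true, List.all_eq_true, List.mem_range, Nat.blt_eq, Bool.or_eq_true,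
    List.any_eq_true, Bool.not_eq_true', Nat.beq_eq] at hcb
  obtain ⟨hch, hchar⟩ := hcb
  obtain ⟨⟨eb, ec⟩, e3⟩ := (hchar _ (hv 0 (by norm_num)).1 _ (hv 1 (by norm_num)).1 _ (hv 2 (by norm_num)).1 _
    (hv 3 (by norm_num)).1).resolve_left (by
      rintro ⟨e, he, hne⟩
      obtain ⟨⟨a1, a2⟩, a3⟩ := hch e he
      have h := img_dF hd a1
      rw [eq_of_eqB a3] at h
      exact ne_of_eqB hne (h.unique (himg _ a2)))
  rw [eb, ec, e3] at hd
  change ∀ l < 4, Img co g (dd l) (ev xm (imW.getD l [] ++ vW.getD ((vz (v 0)).getD l 0) [])) at hd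
  have hz4 := (hv 0 (by norm_num)).1
  generalize v 0 = z at hd hz4
  have hT := S.imgT
  have hX := S.imgX
  rw [Img, co.map_t] at hT hX
  have hgg : Commute (g * g) t := by
    have e : g * g * t * (g * g)⁻¹ = t :=
      calc g * g * t * (g * g)⁻¹ = g * (g * t * g⁻¹) * g⁻¹ := by group
        _ = t := by rw [← hT, ← hX]
    exact mul_inv_eq_iff_eq_mul.1 e
  obtain ⟨q, hq⟩ := co.exists_pre hgg
  have hqk : ∀ k < 39, Commute q (kk k) := fun k hk => co.inj (by
    have a := himg k hk
    have b := himg _ (hsp k hk).1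
    rw [(hsp k hk).2] at b
    rw [Img] at a b
    rw [map_mul, map_mul, hq]
    conv_rhs => rw [b, a]
    group)
  obtain ⟨u, hu, rfl⟩ := centralizer_kk (c := q) (by
    have := hqk 3 (by norm_num)
    rwa [kk, conj_spec.2.1] at this) hqk
  obtain ⟨hz, hu', hprod⟩ := (by simpa only [squareB, Bool.and_eq_true, and_assoc] using squareB_ok :
    ((List.range 4).all fun z => Nat.beq z 0 || Nat.beq z 3 || (List.range 4).any fun l =>
      !certEqB (imV (vz z) (imG.getD l []) ++ vW.getD (vSwap ((vz z).getD l 0)) []) (dW.getD l [])) = true ∧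
    ((List.range 4).all fun u => Nat.beq u 0 || Nat.beq u 3 ||
      !certEqB (vW.getD (vSwap u) []) (vW.getD u [])) = true ∧
    certEqB (xWord ++ vW.getD 3 [] ++ tWord) [] = true)
  simp only [List.all_eq_true, List.mem_range, Bool.or_eq_true, List.any_eq_true, Bool.not_eq_true',
    Nat.beq_eq] at hz hu'
  have hzz : z = 0 ∨ z = 3 := (hz z hz4).resolve_right (by
    rintro ⟨l, hl, hne⟩
    refine ne_of_eqB hne ?_
    obtain ⟨⟨⟨-, m2⟩, m3⟩, -⟩ := hgen l hl
    have hw : (vz z).getD l 0 < 4 := by interval_cases l <;> simp [vz] <;> omega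
    have h := (img_dF hd m2).mul (S.img_vW hw)
    rw [eq_of_eqB m3, ← ev_app, ← ev_app] at h
    have h' := hd l hl
    have hcd : Img co g (ev xm (imW.getD l [] ++ vW.getD ((vz z).getD l 0) [])) (dd l) := by
      rw [Img] at h' ⊢
      rw [h']
      have hc := ((base_spec.2.2.1 u hu l hl).map co.iota).eq
      rw [hq, ← eq_mul_inv_iff_mul_eq] at hc
      calc co.iota (dd l) = g * g * co.iota (dd l) * (g * g)⁻¹ := by
            conv_rhs => rw [mul_inv_eq_iff_eq_mul.2 (eq_mul_inv_iff_mul_eq.1 hc)]
        _ = _ := by group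
    exact h.unique hcd)
  have hu03 : u = 0 ∨ u = 3 := (hu' u hu).resolve_right fun hne => ne_of_eqB hne (Img.unique (S.img_vW hu) (by
    rw [Img, hq]; group))
  rcases hu03 with rfl | rfl
  · refine ⟨g, z, hzz, ?_, S, hd⟩
    rw [← hq, show ev xm (vW.getD 0 []) = 1 from rfl, map_one]
  · refine ⟨g * t, z, hzz, ?_, ⟨S.imgT.mul_t, S.imgX.mul_t⟩, fun l hl => (hd l hl).mul_t⟩
    calc g * t * (g * t) = (g * t * g⁻¹) * (g * g) * t := by group
      _ = co.iota (ev xm (xWord ++ vW.getD 3 [] ++ tWord)) := by
        rw [← hT, ← hq, ev_app, ev_app, map_mul, map_mul]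
        congr 1
        exact co.map_t.symm
      _ = 1 := by rw [eq_of_eqB hprod, ev_nil, map_one]

end CfsgLib.CoThreeRec.Rel
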