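import Cfsg.Agent.Lib.CoThreeRec.CertPrep
import Cfsg.Agent.Lib.CoThreeRec.RelatorsTableData

/-!
# The moves of the table of the centraliser of the pair: the checks
-/

set_option autoImplicit false
set_option maxRecDepth 100000
set_option Elab.async false

namespace CfsgLib.CoThreeRec.Rel

/-- One move. -/
noncomputable def moveB (l i : ℕ) (e : ℕ × ℕ) : Bool :=
  Nat.blt e.1 1152 && Nat.blt e.2 4 &&
    certEqB (dW.getD l [] ++ tWat i) (tWat e.1 ++ vW.getD e.2 []) &&
    decide (tPat e.1 = (tPat i).map fun a => (gP.getD l []).getD a 0) &&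
    Nat.beq (tPat i).length 39 && (tPat i).all fun a => Nat.blt a 39

/-- The moves by one generator. -/
def moves (l : ℕ) : List (List (ℕ × ℕ)) := [mv0, mv1, mv2, mv3].getD l []

/-- The move of an entry. -/
def moveAt (l i : ℕ) : ℕ × ℕ := ((moves l).getD (i / 32) []).getD (i % 32) (0, 0)

/-- A ninth of the moves by one generator. -/
noncomputable def movesPartB (l j : ℕ) : Bool :=
  (List.range' (128 * j) 128).all fun i => moveB l i (moveAt l i)

end CfsgLib.CoThreeRec.Rel
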