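import Cfsg.Agent.Lib.CoThreeRec.RelatorsMoves
import Mathlib.Tactic.IntervalCases

/-!
# The moves by generators 0 and 1
-/

set_option autoImplicit false
set_option maxRecDepth 100000
set_option Elab.async false

namespace CfsgLib.CoThreeRec.Rel

theorem moves0_0 : movesPartB 0 0 = true := by decide +kernel

theorem moves0_1 : movesPartB 0 1 = true := by decide +kernel

theorem moves0_2 : movesPartB 0 2 = true := by decide +kernel

theorem moves0_3 : movesPartB 0 3 = true := by decide +kernel

theorem moves0_4 : movesPartB 0 4 = true := by decide +kernel

theorem moves0_5 : movesPartB 0 5 = true := by decide +kernel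

theorem moves0_6 : movesPartB 0 6 = true := by decide +kernel

theorem moves0_7 : movesPartB 0 7 = true := by decide +kernel

theorem moves0_8 : movesPartB 0 8 = true := by decide +kernel

theorem moves0_ok : ∀ j < 9, movesPartB 0 j = true := by
  intro j hj
  interval_cases j
  exacts [moves0_0, moves0_1, moves0_2, moves0_3, moves0_4, moves0_5, moves0_6, moves0_7, moves0_8]

theorem moves1_0 : movesPartB 1 0 = true := by decide +kernel

theorem moves1_1 : movesPartB 1 1 = true := by decide +kernel

theorem moves1_2 : movesPartB 1 2 = true := by decide +kernel

theorem moves1_3 : movesPartB 1 3 = true := by decide +kernel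

theorem moves1_4 : movesPartB 1 4 = true := by decide +kernel

theorem moves1_5 : movesPartB 1 5 = true := by decide +kernel

theorem moves1_6 : movesPartB 1 6 = true := by decide +kernel

theorem moves1_7 : movesPartB 1 7 = true := by decide +kernel

theorem moves1_8 : movesPartB 1 8 = true := by decide +kernel

theorem moves1_ok : ∀ j < 9, movesPartB 1 j = true := by
  intro j hj
  interval_cases j
  exacts [moves1_0, moves1_1, moves1_2, moves1_3, moves1_4, moves1_5, moves1_6, moves1_7, moves1_8]

end CfsgLib.CoThreeRec.Rel
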