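import Cfsg.Agent.Lib.CoThreeRec.RelatorsMoves
import Mathlib.Tactic.IntervalCases

/-!
# The moves by generators 2 and 3
-/

set_option autoImplicit false
set_option maxRecDepth 100000
set_option Elab.async false

namespace CfsgLib.CoThreeRec.Rel

theorem moves2_0 : movesPartB 2 0 = true := by decide +kernel

theorem moves2_1 : movesPartB 2 1 = true := by decide +kernel

theorem moves2_2 : movesPartB 2 2 = true := by decide +kernel

theorem moves2_3 : movesPartB 2 3 = true := by decide +kernel

theorem moves2_4 : movesPartB 2 4 = true := by decide +kernel

theorem moves2_5 : movesPartB 2 5 = true := by decide +kernel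

theorem moves2_6 : movesPartB 2 6 = true := by decide +kernel

theorem moves2_7 : movesPartB 2 7 = true := by decide +kernel

theorem moves2_8 : movesPartB 2 8 = true := by decide +kernel

theorem moves2_ok : ∀ j < 9, movesPartB 2 j = true := by
  intro j hj
  interval_cases j
  exacts [moves2_0, moves2_1, moves2_2, moves2_3, moves2_4, moves2_5, moves2_6, moves2_7, moves2_8]

theorem moves3_0 : movesPartB 3 0 = true := by decide +kernel

theorem moves3_1 : movesPartB 3 1 = true := by decide +kernel

theorem moves3_2 : movesPartB 3 2 = true := by decide +kernel

theorem moves3_3 : movesPartB 3 3 = true := by decide +kernel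

theorem moves3_4 : movesPartB 3 4 = true := by decide +kernel

theorem moves3_5 : movesPartB 3 5 = true := by decide +kernel

theorem moves3_6 : movesPartB 3 6 = true := by decide +kernel

theorem moves3_7 : movesPartB 3 7 = true := by decide +kernel

theorem moves3_8 : movesPartB 3 8 = true := by decide +kernel

theorem moves3_ok : ∀ j < 9, movesPartB 3 j = true := by
  intro j hj
  interval_cases j
  exacts [moves3_0, moves3_1, moves3_2, moves3_3, moves3_4, moves3_5, moves3_6, moves3_7, moves3_8]

end CfsgLib.CoThreeRec.Rel
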