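import Cfsg.Agent.Lib.CoThreeRec.RelatorsTable
import Cfsg.Agent.Lib.CoThreeRec.RelatorsData
import Cfsg.Agent.Lib.CoThreeRec.Fusion

/-!
# An element exchanging the pair can be chosen to permute the conjugates as in the model
-/

set_option autoImplicit false
set_option maxRecDepth 100000
set_option Elab.async false

namespace CfsgLib.CoThreeRec.Rel

open CfsgLib.CoThreeRec

variable {G : Type*} [Group G] {t : G}

/-- Conjugation by an element carries one element of the cover to another. -/
def Img (co : Coord t) (g : G) (c c' : Cm) : Prop := co.iota c' = g * co.iota c * g⁻¹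

variable {co : Coord t} {g : G}

theorem Img.mul {a a' b b' : Cm} (h : Img co g a a') (h' : Img co g b b') : Img co g (a * b) (a' * b') := by
  rw [Img] at h h' ⊢
  rw [map_mul, map_mul, h, h']; group

theorem Img.one : Img co g 1 1 := by simp [Img]

theorem Img.unique {a b b' : Cm} (h : Img co g a b) (h' : Img co g a b') : b = b' := co.inj (h.trans h'.symm)

theorem Img.inj {a a' b : Cm} (h : Img co g a b) (h' : Img co g a' b) : a = a' :=
  co.inj (mul_left_cancel (mul_right_cancel (h.symm.trans h')))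

theorem Img.adjust {a b b' : Cm} (h : Img co g a b) {T : Cm} (e : T * b = b' * T) :
    Img co (co.iota T * g) a b' := by
  rw [Img] at h ⊢
  have e' : co.iota b' = co.iota T * co.iota b * (co.iota T)⁻¹ := by
    rw [← map_mul, e, map_mul, mul_inv_cancel_right]
  rw [e', h]; group

/-- An element exchanging the pair. -/
structure Swap (co : Coord t) (g : G) : Prop where
  /-- It carries the central involution to the neighbour. -/
  imgT : Img co g tm nbr
  /-- It carries the neighbour to the central involution. -/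
  imgX : Img co g nbr tm

theorem Swap.exists_img (S : Swap co g) {c : Cm} (hc : Commute c nbr) :
    ∃ c', Img co g c c' ∧ Commute c' nbr := by
  have h1 := S.imgT
  have h2 := S.imgX
  rw [Img, co.map_t] at h1 h2
  have h3 : Commute (g * co.iota c * g⁻¹) t := by
    have h0 := (hc.map co.iota).map (MulAut.conj g).toMonoidHom
    simp only [MulEquiv.coe_toMonoidHom, MulAut.conj_apply] at h0
    rwa [← h2] at h0
  obtain ⟨c', hc'⟩ := co.exists_pre h3
  refine ⟨c', hc', co.inj ?_⟩
  rw [map_mul, map_mul, hc', h1]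
  have := (co.commute_iota c).map (MulAut.conj g).toMonoidHom
  simpa using this.eq

/-- A product of conjugates. -/
def pk (f : ℕ → ℕ) (w : List ℕ) : List ℕ := (w.map fun z => kW.getD (f z) []).flatten

theorem img_pk {f f' : ℕ → ℕ} : ∀ {w : List ℕ}, (∀ z ∈ w, Img co g (kk (f z)) (kk (f' z))) →
    Img co g (ev xm (pk f w)) (ev xm (pk f' w))
  | [], _ => by rw [pk, pk]; exact Img.one
  | z :: w, h => by
    have e : ∀ F : ℕ → ℕ, ev xm (pk F (z :: w)) = kk (F z) * ev xm (pk F w) := fun F => by
      rw [kk, ← ev_app]; rfl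
    rw [e, e]
    exact (h z List.mem_cons_self).mul (img_pk fun a ha => h a (List.mem_cons_of_mem _ ha))

theorem kk_mem (F : ClassFacts) (ht : orderOf t = 2) {c : Cm} (hc : Commute c nbr) {p : G}
    (hp : p * t * p⁻¹ = co.iota c) : ∃ k < 39, kk k = c := by
  rcases conj_in_centralizer co F ht (g := p) (by rw [hp]; exact co.commute_iota c) with e | ⟨h, e⟩
  · refine ⟨2, by norm_num, conj_spec.1.trans (co.inj ?_)⟩
    rw [co.map_t, ← hp, e]
  · rw [hp, ← map_mul, ← map_inv, ← map_mul] at e
    have e' : c = h⁻¹ * nbr * h⁻¹⁻¹ := by rw [← co.inj e]; group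
    rw [e'] at hc ⊢
    exact conj_mem h⁻¹ hc

theorem Swap.kk_conj (S : Swap co g) {k : ℕ} (hk : k < 39) : ∃ p : G, p * t * p⁻¹ = co.iota (kk k) := by
  rcases (conj_spec.2.2.2.2.2.2 k hk).2 with rfl | ⟨r, hr⟩
  · exact ⟨1, by rw [kk, conj_spec.1, co.map_t]; group⟩
  · refine ⟨co.iota r * g, ?_⟩
    have h1 := S.imgT
    rw [Img, co.map_t] at h1
    rw [← hr, map_mul, map_mul, map_inv, h1]; group

theorem Swap.img_kk (S : Swap co g) (F : ClassFacts) (ht : orderOf t = 2) {k : ℕ} (hk : k < 39) :
    ∃ j < 39, Img co g (kk k) (kk j) := by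
  obtain ⟨c', hc', hcx⟩ := S.exists_img (conj_spec.2.2.2.2.2.2 k hk).1
  obtain ⟨p, hp⟩ := S.kk_conj hk
  obtain ⟨j, hj, e⟩ := kk_mem F ht hcx (p := g * p) (by rw [hc', ← hp]; group)
  exact ⟨j, hj, e ▸ hc'⟩

/-- The images at the first six sources. -/
def dst0 : List ℕ := [3, 2, 33, 27, 21, 25]

/-- The options at the last three sources. -/
def opts : List (List ℕ) := [[7, 28, 31, 37], [8, 17, 19, 24], [1, 5, 11, 15]]

/-- A source. -/
def srcAt (z : ℕ) : ℕ := srcs.getD z 2

/-- An image in a list. -/
def dstAt (ds : List ℕ) (z : ℕ) : ℕ := ds.getD z 0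

/-- The images in a list are the images of the sources. -/
def Fixed (co : Coord t) (g : G) (ds : List ℕ) : Prop :=
  ∀ z < ds.length, Img co g (kk (srcAt z)) (kk (dstAt ds z))

/-- A witness against a further image. -/
noncomputable def witB (li : ℕ) (ds : List ℕ) (c : ℕ) : Bool :=
  let e := (lev.getD li []).getD c (9, [], [])
  Nat.beq e.1 0 && (e.2.1 ++ e.2.2).all (fun z => Nat.blt z (ds.length + 1)) &&
    (certEqB (pk srcAt e.2.1) (pk srcAt e.2.2) != certEqB (pk (dstAt (ds ++ [c])) e.2.1) (pk (dstAt (ds ++ [c])) e.2.2))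

/-- An adjustment carrying a further image to the model's. -/
noncomputable def adjB (li c : ℕ) : Bool :=
  let e := (lev.getD li []).getD c (9, [], [])
  let T := tWat (e.2.1.getD 0 0)
  certEqB (T ++ kW.getD c []) (kW.getD (dst0.getD (3 + li) 0) [] ++ T) &&
    (dst0.take (3 + li)).all fun d => certEqB (T ++ kW.getD d []) (kW.getD d [] ++ T)

/-- The first three levels. -/
noncomputable def lowB : Bool :=
  (List.range 3).all fun li => (List.range 39).all fun c => witB li (dst0.take (3 + li)) c || adjB li c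

theorem lowB_ok : lowB = true := by decide +kernel

/-- The last three levels. -/
noncomputable def highB : Bool :=
  ((List.range 39).all fun c => witB 3 dst0 c || decide (c ∈ opts.getD 0 [])) &&
  ((opts.getD 0 []).all fun a => (List.range 39).all fun c => witB 4 (dst0 ++ [a]) c || decide (c ∈ opts.getD 1 [])) &&
  (opts.getD 0 []).all fun a => (opts.getD 1 []).all fun b =>
    (List.range 39).all fun c => witB 5 (dst0 ++ [a] ++ [b]) c || decide (c ∈ opts.getD 2 [])

theorem highB_ok : highB = true := by decide +kernel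

/-- A permutation forced by the images, and a witness against it unless it is the model's. -/
noncomputable def comboOneB (ds : List ℕ) (e : List ℕ × List ℕ × ℕ) : Bool :=
  ((List.range 39).all fun k => Nat.blt (e.2.1.getD k 0) 39 && (kSrc.getD k []).all (fun z => Nat.blt z ds.length) &&
      certEqB (pk srcAt (kSrc.getD k [])) (kW.getD k []) &&
      certEqB (pk (dstAt ds) (kSrc.getD k [])) (kW.getD (e.2.1.getD k 0) [])) &&
    (decide (e.2.1 = sP) || (Nat.blt e.2.2 4 &&
      tPc.all fun b => b.all fun p => (List.range 39).any fun k =>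
        !Nat.beq (p.getD (e.2.1.getD k 0) 0) (e.2.1.getD ((gP.getD e.2.2 []).getD k 0) 0)))

/-- All combinations of the options. -/
noncomputable def comboB : Bool :=
  (opts.getD 0 []).all fun a => (opts.getD 1 []).all fun b => (opts.getD 2 []).all fun c =>
    combo.any fun e => decide (e.1 = [a, b, c]) && comboOneB (dst0 ++ [a] ++ [b] ++ [c]) e

theorem comboB_ok : comboB = true := by decide +kernel

theorem Fixed.snoc {ds : List ℕ} {c : ℕ} (h : Fixed co g ds) (hc : Img co g (kk (srcAt ds.length)) (kk c)) :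
    Fixed co g (ds ++ [c]) := by
  intro z hz
  simp only [List.length_append, List.length_singleton] at hz
  rcases (by omega : z < ds.length ∨ z = ds.length) with hz | rfl
  · rw [dstAt, List.getD_append _ _ _ _ hz]; exact h z hz
  · rw [dstAt, List.getD_append_right _ _ _ _ le_rfl, Nat.sub_self]; exact hc

theorem no_witness {li c : ℕ} {ds : List ℕ} (h : Fixed co g (ds ++ [c])) : witB li ds c = false := by
  rw [← Bool.not_eq_true]
  intro hw
  simp only [witB, Bool.and_eq_true, List.all_eq_true, Nat.blt_eq, bne_iff_ne, ne_eq] at hw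
  obtain ⟨⟨-, hlt⟩, hne⟩ := hw
  generalize (lev.getD li []).getD c (9, [], []) = e at hlt hne
  have hz : ∀ z ∈ e.2.1 ++ e.2.2, z < (ds ++ [c]).length := fun z hz => by simpa using hlt z hz
  have i1 := img_pk (w := e.2.1) fun z h' => h z (hz z (List.mem_append_left _ h'))
  have i2 := img_pk (w := e.2.2) fun z h' => h z (hz z (List.mem_append_right _ h'))
  refine hne (Bool.eq_iff_iff.2 ⟨fun e' => eqB_of_eq ?_, fun e' => eqB_of_eq ?_⟩)
  · rw [eq_of_eqB e'] at i1; exact i1.unique i2
  · rw [eq_of_eqB e'] at i1; exact i1.inj i2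

theorem swap_of_fixed {ds : List ℕ} (h : Fixed co g ds) (h2 : 2 ≤ ds.length) (e0 : dstAt ds 0 = 3)
    (e1 : dstAt ds 1 = 2) : Swap co g := by
  have a := h 0 (by omega)
  have b := h 1 (by omega)
  rw [e0, show srcAt 0 = 2 from rfl, kk, kk, conj_spec.1, conj_spec.2.1] at a
  rw [e1, show srcAt 1 = 3 from rfl, kk, kk, conj_spec.1, conj_spec.2.1] at b
  exact ⟨a, b⟩

theorem Swap.fixed3 (S : Swap co g) : Fixed co g (dst0.take 3) := by
  intro z hz
  have hz3 : z < 3 := hz
  obtain ⟨e2, e3, e33, -⟩ := conj_spec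
  interval_cases z
  · show Img co g (kk 2) (kk 3)
    rw [kk, kk, e2, e3]; exact S.imgT
  · show Img co g (kk 3) (kk 2)
    rw [kk, kk, e2, e3]; exact S.imgX
  · show Img co g (kk 33) (kk 33)
    rw [kk, e33]
    have h := S.imgT.mul S.imgX
    have hx : Commute tm nbr := co.inj (by rw [map_mul, map_mul, co.map_t, (co.commute_iota nbr).eq])
    rwa [← hx.eq] at h

theorem level_low (F : ClassFacts) (ht : orderOf t = 2) {li : ℕ} (hli : li < 3)
    (h : Fixed co g (dst0.take (3 + li))) : ∃ g', Fixed co g' (dst0.take (4 + li)) := by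
  have hlen : (dst0.take (3 + li)).length = 3 + li := by simp [dst0]; omega
  have S : Swap co g := swap_of_fixed h (by omega) (by interval_cases li <;> rfl) (by interval_cases li <;> rfl)
  have hs : srcAt (3 + li) < 39 := by interval_cases li <;> decide
  obtain ⟨c, hc, hi⟩ := S.img_kk F ht hs
  have hck := lowB_ok
  simp only [lowB, List.all_eq_true, List.mem_range, Bool.or_eq_true] at hck
  have hlast := h.snoc (c := c) (by rw [hlen]; exact hi)
  have hadj := (hck li hli c hc).resolve_left (by rw [no_witness hlast]; simp)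
  simp only [adjB, Bool.and_eq_true, List.all_eq_true] at hadj
  obtain ⟨a1, a2⟩ := hadj
  generalize tWat (((lev.getD li []).getD c (9, [], [])).2.1.getD 0 0) = T at a1 a2
  refine ⟨co.iota (ev xm T) * g, ?_⟩
  rw [show dst0.take (4 + li) = dst0.take (3 + li) ++ [dst0.getD (3 + li) 0] by interval_cases li <;> rfl]
  have hT : Img co (co.iota (ev xm T) * g) (kk (srcAt (3 + li))) (kk (dst0.getD (3 + li) 0)) :=
    hi.adjust (by rw [kk, kk, ← ev_app, ← ev_app]; exact eq_of_eqB a1)
  refine Fixed.snoc (fun z hz => (h z hz).adjust ?_) (by rw [hlen]; exact hT)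
  have hm : dstAt (dst0.take (3 + li)) z ∈ dst0.take (3 + li) := by
      rw [dstAt, List.getD_eq_getElem _ _ hz]; exact List.getElem_mem hz
  rw [kk, ← ev_app, ← ev_app]; exact eq_of_eqB (a2 _ hm)

/-- An element exchanging the pair and permuting the conjugates as in the model. -/
theorem exists_perm (F : ClassFacts) (ht : orderOf t = 2) (S₀ : Swap co g) :
    ∃ g', Swap co g' ∧ ∀ k < 39, Img co g' (kk k) (kk (sP.getD k 0)) := by
  obtain ⟨g1, h1⟩ := level_low F ht (li := 0) (by norm_num) S₀.fixed3
  obtain ⟨g2, h2⟩ := level_low F ht (li := 1) (by norm_num) h1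
  obtain ⟨g3, h3⟩ := level_low F ht (li := 2) (by norm_num) h2
  have h3' : Fixed co g3 dst0 := h3
  have S : Swap co g3 := swap_of_fixed h3' (by decide) rfl rfl
  have hck := highB_ok
  simp only [highB, Bool.and_eq_true, List.all_eq_true, List.mem_range, Bool.or_eq_true, decide_eq_true_eq] at hck
  obtain ⟨⟨k1, k2⟩, k3⟩ := hck
  obtain ⟨a, ha, hia⟩ := S.img_kk F ht (k := srcAt 6) (by decide)
  have ja := h3'.snoc (c := a) hia
  have ma := (k1 a ha).resolve_left (by rw [no_witness ja]; simp)
  obtain ⟨b, hb, hib⟩ := S.img_kk F ht (k := srcAt 7) (by decide)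
  have jb := ja.snoc (c := b) hib
  have mb := (k2 a ma b hb).resolve_left (by rw [no_witness jb]; simp)
  obtain ⟨c, hc, hic⟩ := S.img_kk F ht (k := srcAt 8) (by decide)
  have jc := jb.snoc (c := c) (by simpa [dst0] using hic)
  have mc := (k3 a ma b mb c hc).resolve_left (by rw [no_witness jc]; simp)
  have hcb := comboB_ok
  simp only [comboB, List.all_eq_true, List.any_eq_true, Bool.and_eq_true] at hcb
  obtain ⟨e, -, -, he⟩ := hcb a ma b mb c mc
  simp only [comboOneB, Bool.and_eq_true, Bool.or_eq_true, List.all_eq_true, List.mem_range, List.any_eq_true,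
    decide_eq_true_eq, Nat.blt_eq, Bool.not_eq_true'] at he
  obtain ⟨hall, hgood⟩ := he
  have himg : ∀ k < 39, Img co g3 (kk k) (kk (e.2.1.getD k 0)) := by
    intro k hk
    obtain ⟨⟨⟨-, a2⟩, a3⟩, a4⟩ := hall k hk
    have hi := img_pk (w := kSrc.getD k []) fun z hz => jc z (a2 z hz)
    rw [eq_of_eqB a3, eq_of_eqB a4] at hi
    exact hi
  refine ⟨g3, S, ?_⟩
  rcases hgood with hgood | ⟨hl, hbad⟩
  · rwa [hgood] at himg
  exfalso
  obtain ⟨c', hc', hcx⟩ := S.exists_img (base_spec.2.2.2 _ hl)
  obtain ⟨i, hi, v, -, -, hact⟩ := table_spec hcx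
  obtain ⟨k, hk, hne⟩ : ∃ k < 39, Nat.beq ((tPat i).getD (e.2.1.getD k 0) 0)
      (e.2.1.getD ((gP.getD e.2.2 []).getD k 0) 0) = false := by
    have h1 := all_tP (f := fun p => (List.range 39).any fun k =>
      !Nat.beq (p.getD (e.2.1.getD k 0) 0) (e.2.1.getD ((gP.getD e.2.2 []).getD k 0) 0))
      (by simpa only [List.all_eq_true, List.any_eq_true, List.mem_range, Bool.not_eq_true'] using hbad) hi
    simpa only [List.any_eq_true, List.mem_range, Bool.not_eq_true'] using h1
  obtain ⟨hq, hcomm⟩ := base_spec.1 _ hl k hk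
  have h' := hc'.mul (himg k hk)
  rw [hcomm, hact _ (hall k hk).1.1.1] at h'
  have h'' := h'.unique ((himg _ hq).mul hc')
  rw [← Bool.not_eq_true] at hne
  refine hne ?_
  have hij := kk_inj (pp_lt hi (hall k hk).1.1.1) (hall _ hq).1.1.1 (mul_right_cancel h'')
  rw [show (tPat i).getD (e.2.1.getD k 0) 0 = pp i (e.2.1.getD k 0) from rfl, hij]
  exact Nat.beq_refl _

end CfsgLib.CoThreeRec.Rel
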