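import Cfsg.Agent.Lib.CoThreeRec.CertBound
import Cfsg.Agent.Lib.CoThreeRec.CoordsModel
import Cfsg.Agent.Lib.CoThreeRec.RelatorsMovesA
import Cfsg.Agent.Lib.CoThreeRec.RelatorsMovesB

/-!
# The centraliser of the pair inside the double cover

It is the group generated by the four words, 1152 permutations of the 39 conjugates times a four-group.
-/

set_option autoImplicit false
set_option maxRecDepth 100000
set_option Elab.async false

namespace CfsgLib.CoThreeRec.Rel

open CfsgLib.CoThreeRec

theorem faithful : PtsFaithful := fun c h => eq_one_of_fix c h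

theorem ev_app {M : Type*} [Monoid M] (f : ℕ → M) (u w : List ℕ) : ev f (u ++ w) = ev f u * ev f w := by simp [ev]

theorem ev_nil {M : Type*} [Monoid M] (f : ℕ → M) : ev f [] = 1 := by simp [ev]

theorem eq_of_eqB {u v : List ℕ} (h : certEqB u v = true) : ev xm u = ev xm v := certEqB_spec faithful h

theorem eqB_of_eq {u v : List ℕ} (h : ev xm u = ev xm v) : certEqB u v = true := by
  simp only [certEqB, List.all_eq_true, Nat.beq_eq]
  intro p hp
  have hlt : p < 276 := by
    simp only [certPts, List.mem_cons, List.not_mem_nil, or_false] at hp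
    omega
  rw [show p = ((⟨p, hlt⟩ : Fin 276) : ℕ) from rfl, ← evalC_spec, ← evalC_spec]
  rw [show (u.map xm).prod = (v.map xm).prod from h]

theorem ne_of_eqB {u v : List ℕ} (h : certEqB u v = false) : ev xm u ≠ ev xm v := fun e => by
  rw [eqB_of_eq e] at h
  exact absurd h (by simp)

theorem ev_invWord {w : List ℕ} (h : ∀ l ∈ w, l < 4) : ev xm (invWord w) = (ev xm w)⁻¹ := xm_prod_invWord h

/-- A generator. -/
noncomputable def dd (l : ℕ) : Cm := ev xm (dW.getD l [])

/-- A conjugate of the central involution. -/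
noncomputable def kk (k : ℕ) : Cm := ev xm (kW.getD k [])

/-- The permutation of a table entry. -/
def pp (i k : ℕ) : ℕ := (tPat i).getD k 0

/-- The element induces the permutation of a table entry. -/
def Act (c : Cm) (i : ℕ) : Prop := ∀ k < 39, c * kk k = kk (pp i k) * c

theorem table_len : vW.length = 4 ∧ tWat 0 = [] ∧ vW.getD 0 [] = [] ∧ tPat 0 = List.range 39 ∧
    certPairs4.map (fun p => p.1) = dW ∧ tPc.length = 36 ∧ tPc.all (fun b => Nat.beq b.length 32) = true := by
  decide +kernel

/-- What holds for all permutations of the table holds for each entry. -/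
theorem all_tP {f : List ℕ → Bool} (h : (tPc.all fun b => b.all f) = true) {i : ℕ} (hi : i < 1152) :
    f (tPat i) = true := by
  obtain ⟨-, -, -, -, -, hlen, hb⟩ := table_len
  simp only [List.all_eq_true, Nat.beq_eq] at h hb
  have hj : i / 32 < tPc.length := by omega
  have hk : i % 32 < tPc[i / 32].length := by rw [hb _ (List.getElem_mem hj)]; omega
  rw [tPat, List.getD_eq_getElem _ _ hj, List.getD_eq_getElem _ _ hk]
  exact h _ (List.getElem_mem hj) _ (List.getElem_mem hk)

/-- The generators permute the conjugates and the four-group is closed. -/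
noncomputable def baseB : Bool :=
  ((List.range 4).all fun l => (List.range 39).all fun k => Nat.blt ((gP.getD l []).getD k 0) 39 &&
    certEqB (dW.getD l [] ++ kW.getD k []) (kW.getD ((gP.getD l []).getD k 0) [] ++ dW.getD l [])) &&
  ((List.range 4).all fun v => ((List.range 4).all fun u => Nat.blt (v ^^^ u) 4 &&
    certEqB (vW.getD v [] ++ vW.getD u []) (vW.getD (v ^^^ u) [])) &&
    ((List.range 4).all fun l => certEqB (vW.getD v [] ++ dW.getD l []) (dW.getD l [] ++ vW.getD v []))) &&
  ((List.range 4).all fun l => certEqB (dW.getD l [] ++ xWord) (xWord ++ dW.getD l []))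

theorem baseB_ok : baseB = true := by decide +kernel

/-- The representatives leave the centraliser, and conjugate the neighbour to a conjugate in the list or outside. -/
noncomputable def repsB : Bool :=
  certReps.all fun w => (decide (w = []) || !certEqB (w ++ xWord) (xWord ++ w)) &&
    (!certEqB (w ++ xWord ++ invWord w ++ xWord) (xWord ++ w ++ xWord ++ invWord w) ||
      (List.range 39).any fun k => certEqB (w ++ xWord) (kW.getD k [] ++ w)) &&
    w.all fun l => Nat.blt l 4

theorem repsB_ok : repsB = true := by decide +kernel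

/-- The conjugates commute with the neighbour and are conjugate to it. -/
noncomputable def conjB : Bool :=
  certEqB (kW.getD 2 []) tWord && certEqB (kW.getD 3 []) xWord && certEqB (kW.getD 33 []) (tWord ++ xWord) &&
    certEqB (vW.getD 1 []) tWord && certEqB (vW.getD 2 []) xWord && certEqB (vW.getD 3 []) (tWord ++ xWord) &&
    (List.range 39).all fun k => certEqB (kW.getD k [] ++ xWord) (xWord ++ kW.getD k []) &&
      (Nat.beq k 2 || (Nat.blt (kRep.getD k 630) 630 &&
        certEqB (certReps.getD (kRep.getD k 630) [] ++ xWord) (kW.getD k [] ++ certReps.getD (kRep.getD k 630) [])))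

theorem conjB_ok : conjB = true := by decide +kernel

theorem base_spec : (∀ l < 4, ∀ k < 39, (gP.getD l []).getD k 0 < 39 ∧ dd l * kk k = kk ((gP.getD l []).getD k 0) * dd l) ∧
    (∀ v < 4, ∀ u < 4, v ^^^ u < 4 ∧
      ev xm (vW.getD v []) * ev xm (vW.getD u []) = ev xm (vW.getD (v ^^^ u) [])) ∧
    (∀ v < 4, ∀ l < 4, Commute (ev xm (vW.getD v [])) (dd l)) ∧
    ∀ l < 4, Commute (dd l) nbr := by
  have h := baseB_ok
  simp only [baseB, Bool.and_eq_true, List.all_eq_true, List.mem_range, Nat.blt_eq] at h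
  obtain ⟨⟨h1, h2⟩, h3⟩ := h
  refine ⟨fun l hl k hk => ⟨(h1 l hl k hk).1, ?_⟩, fun v hv u hu => ⟨((h2 v hv).1 u hu).1, ?_⟩, fun v hv l hl => ?_,
    fun l hl => ?_⟩
  · rw [dd, kk, kk, ← ev_app, ← ev_app]; exact eq_of_eqB (h1 l hl k hk).2
  · rw [← ev_app]; exact eq_of_eqB ((h2 v hv).1 u hu).2
  · show _ * _ = _ * _
    rw [dd, ← ev_app, ← ev_app]; exact eq_of_eqB ((h2 v hv).2 l hl)
  · show _ * _ = _ * _
    rw [dd, nbr, ← ev_app, ← ev_app]; exact eq_of_eqB (h3 l hl)

/-- The moves by one generator. -/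
theorem moves_spec {l : ℕ} (hl : l < 4) {i : ℕ} (hi : i < 1152) :
    (moveAt l i).1 < 1152 ∧ (moveAt l i).2 < 4 ∧
    dd l * ev xm (tWat i) = ev xm (tWat (moveAt l i).1) * ev xm (vW.getD (moveAt l i).2 []) ∧
    (∀ k < 39, pp i k < 39) ∧
    ∀ k < 39, pp (moveAt l i).1 k = (gP.getD l []).getD (pp i k) 0 := by
  have h : movesPartB l (i / 128) = true := by
    interval_cases l
    exacts [moves0_ok _ (by omega), moves1_ok _ (by omega), moves2_ok _ (by omega), moves3_ok _ (by omega)]
  simp only [movesPartB, List.all_eq_true, List.mem_range'_1] at h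
  have h' := h i (by omega)
  simp only [moveB, Bool.and_eq_true, Nat.blt_eq, Nat.beq_eq, decide_eq_true_eq, List.all_eq_true] at h'
  obtain ⟨⟨⟨⟨⟨a1, a2⟩, a3⟩, a4⟩, a5⟩, a6⟩ := h'
  refine ⟨a1, a2, ?_, fun k hk => ?_, fun k hk => ?_⟩
  · rw [dd, ← ev_app, ← ev_app]; exact eq_of_eqB a3
  · rw [pp, List.getD_eq_getElem _ _ (by omega)]
    exact a6 _ (List.getElem_mem _)
  · rw [pp, pp, a4, List.getD_eq_getElem _ _ (by simp only [List.length_map]; omega), List.getElem_map,
      List.getD_eq_getElem (tPat i) 0 (show k < (tPat i).length by omega)]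

theorem pp_lt {i k : ℕ} (hi : i < 1152) (hk : k < 39) : pp i k < 39 := (moves_spec (l := 0) (by norm_num) hi).2.2.2.1 k hk

/-- The conjugates in the list are distinct. -/
noncomputable def distinctB : Bool := decide (kW.map certSig).Nodup && Nat.beq kW.length 39

theorem distinctB_ok : distinctB = true := by decide +kernel

theorem kk_inj {i j : ℕ} (hi : i < 39) (hj : j < 39) (h : kk i = kk j) : i = j := by
  have hd := distinctB_ok
  simp only [distinctB, Bool.and_eq_true, decide_eq_true_eq, Nat.beq_eq] at hd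
  have e := certSig_spec _ _ h
  rw [List.getD_eq_getElem _ _ (by omega), List.getD_eq_getElem _ _ (by omega)] at e
  exact (hd.1.getElem_inj_iff (hi := by simp; omega) (hj := by simp; omega)).1 (by simpa using e)

/-- The table is closed under the generators. -/
theorem table_closure {c : Cm} (hc : c ∈ Subgroup.closure {y | ∃ l < 4, y = dd l}) :
    ∃ i < 1152, ∃ v < 4, c = ev xm (tWat i) * ev xm (vW.getD v []) ∧ Act c i := by
  obtain ⟨-, hW0, hV0, hP0, -⟩ := table_len
  let S : Set Cm := {c | ∃ i < 1152, ∃ v < 4, c = ev xm (tWat i) * ev xm (vW.getD v []) ∧ Act c i}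
  have h1 : (1 : Cm) ∈ S := ⟨0, by norm_num, 0, by norm_num, by rw [hW0, hV0, ev_nil, one_mul], fun k hk => by
    rw [pp, hP0, List.getD_eq_getElem _ _ (by simpa using hk), List.getElem_range, one_mul, mul_one]⟩
  suffices key : ∀ s ∈ S, c * s ∈ S by
    have h := key 1 h1
    rwa [mul_one] at h
  induction hc using Subgroup.closure_induction with
  | mem y hy =>
    obtain ⟨l, hl, rfl⟩ := hy
    rintro s ⟨i, hi, v, hv, rfl, hact⟩
    obtain ⟨b1, b2, b3, b4, b5⟩ := moves_spec hl hi
    obtain ⟨g1, g2, -, -⟩ := base_spec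
    obtain ⟨e1, e2⟩ := g2 _ b2 v hv
    refine ⟨_, b1, _, e1, by rw [← mul_assoc, b3, mul_assoc, e2], fun k hk => ?_⟩
    rw [b5 k hk, mul_assoc (dd l), hact k hk, ← mul_assoc (dd l), (g1 l hl _ (b4 k hk)).2, mul_assoc]
  | one => intro s hs; simpa using hs
  | mul a b _ _ ha hb => intro s hs; rw [mul_assoc]; exact ha _ (hb s hs)
  | inv a _ ha =>
    intro s hs
    have hk : ∀ k : ℕ, a ^ k * s ∈ S := fun k => by
      induction k with
      | zero => simpa using hs
      | succ k ih => rw [pow_succ', mul_assoc]; exact ha _ ih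
    have e : a⁻¹ = a ^ (Nat.card Cm - 1) := by
      refine inv_eq_of_mul_eq_one_right ?_
      rw [← pow_succ', Nat.sub_add_cancel Nat.card_pos, pow_card_eq_one']
    rw [e]; exact hk _

theorem holds_trivial : Holds certEqB certSys xm (1 : Cm →* Unit) () where
  eq _ _ e := certEqB_spec faithful e
  rel _ _ := Subsingleton.elim _ _
  pair _ _ := Subsingleton.elim _ _
  base := rfl

/-- Every element is a representative times a product of the generators. -/
theorem exists_rep (c : Cm) :
    ∃ w ∈ certReps, ∃ d ∈ Subgroup.closure {y | ∃ l < 4, y = dd l}, c = ev xm w * d := by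
  obtain ⟨r, hr, d, hd, rfl⟩ := holds_trivial.mem_reps certComplete c
  refine ⟨certReps.getD r [], ?_, d, ?_, rfl⟩
  · rw [List.getD_eq_getElem _ _ hr]; exact List.getElem_mem hr
  obtain ⟨-, -, -, -, hpairs, -⟩ := table_len
  have h4 : ∀ i < certPairs4.length,
      ((sys4.pairs.getD i ([], [])).1.map xm).prod ∈ Subgroup.closure {y | ∃ l < 4, y = dd l} := by
    intro i hi
    refine Subgroup.subset_closure ⟨i, ?_, ?_⟩
    · have : certPairs4.length = dW.length := by rw [← hpairs, List.length_map]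
      have : dW.length = 4 := rfl
      omega
    · have e : (sys4.pairs.getD i ([], [])).1 = dW.getD i [] := by
        rw [show sys4.pairs = certPairs4 from rfl, ← hpairs, List.getD_eq_getElem _ _ hi,
          List.getD_eq_getElem _ _ (by simpa using hi), List.getElem_map]
      rw [e]; rfl
  refine (Subgroup.closure_le _).2 ?_ hd
  rintro _ ⟨i, hi, rfl⟩
  rw [List.getD_eq_getElem _ _ hi]
  have hm : certSys.pairs[i] ∈ certPairs4 ++ certDeriv.map fun e => (e.2.1, e.2.2) := List.getElem_mem hi
  rcases List.mem_append.1 hm with hm | hm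
  · obtain ⟨j, hj, e⟩ := List.getElem_of_mem hm
    have := h4 j hj
    rw [show sys4.pairs = certPairs4 from rfl, List.getD_eq_getElem _ _ hj, e] at this
    exact this
  · obtain ⟨e, he, e'⟩ := List.mem_map.1 hm
    rw [← e']
    have hB := derivB_ok
    simp only [derivB, List.all_eq_true, Bool.and_eq_true, Nat.blt_eq] at hB
    obtain ⟨⟨hd', hx⟩, -⟩ := hB e he
    rw [SetLike.mem_coe, certEqB_spec faithful hx]
    have hdx := dx_mem_dGrp (Y := sys4) (xm := xm) hd'
    refine (Subgroup.closure_le _).2 ?_ hdx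
    rintro _ ⟨j, hj, rfl⟩
    exact h4 j hj

theorem closure_commute {d : Cm} (hd : d ∈ Subgroup.closure {y | ∃ l < 4, y = dd l}) : Commute d nbr := by
  refine Subgroup.mem_centralizer_singleton_iff.1 ((Subgroup.closure_le _).2 ?_ hd)
  rintro _ ⟨l, hl, rfl⟩
  exact Subgroup.mem_centralizer_singleton_iff.2 (base_spec.2.2.2 l hl)

/-- The centraliser of the neighbour is the table. -/
theorem table_spec {c : Cm} (hc : Commute c nbr) :
    ∃ i < 1152, ∃ v < 4, c = ev xm (tWat i) * ev xm (vW.getD v []) ∧ Act c i := by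
  obtain ⟨w, hw, d, hd, rfl⟩ := exists_rep c
  have h := List.all_eq_true.1 repsB_ok w hw
  simp only [Bool.and_eq_true, Bool.or_eq_true, decide_eq_true_eq, Bool.not_eq_true'] at h
  have hwx : Commute (ev xm w) nbr := by
    have := hc.mul_left (closure_commute hd).inv_left
    rwa [mul_inv_cancel_right] at this
  rcases h.1.1 with rfl | h0
  · rw [ev_nil, one_mul]; exact table_closure hd
  · refine absurd ?_ (ne_of_eqB h0)
    rw [ev_app, ev_app]; exact hwx.eq

theorem conj_spec : ev xm (kW.getD 2 []) = tm ∧ ev xm (kW.getD 3 []) = nbr ∧ ev xm (kW.getD 33 []) = tm * nbr ∧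
    ev xm (vW.getD 1 []) = tm ∧ ev xm (vW.getD 2 []) = nbr ∧ ev xm (vW.getD 3 []) = tm * nbr ∧
    ∀ k < 39, Commute (kk k) nbr ∧ (k = 2 ∨ ∃ r : Cm, r * nbr * r⁻¹ = kk k) := by
  have h := conjB_ok
  simp only [conjB, Bool.and_eq_true, Bool.or_eq_true, List.all_eq_true, List.mem_range, Nat.blt_eq, Nat.beq_eq] at h
  obtain ⟨⟨⟨⟨⟨⟨a1, a2⟩, a3⟩, a4⟩, a5⟩, a6⟩, a7⟩ := h
  refine ⟨eq_of_eqB a1, eq_of_eqB a2, (eq_of_eqB a3).trans (ev_app _ _ _), eq_of_eqB a4, eq_of_eqB a5,
    (eq_of_eqB a6).trans (ev_app _ _ _), fun k hk => ⟨?_, ?_⟩⟩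
  · show _ * _ = _ * _
    rw [kk, nbr, ← ev_app, ← ev_app]; exact eq_of_eqB (a7 k hk).1
  · rcases (a7 k hk).2 with e | ⟨-, e⟩
    · exact Or.inl e
    · refine Or.inr ⟨ev xm (certReps.getD (kRep.getD k 630) []), mul_inv_eq_iff_eq_mul.2 ?_⟩
      rw [kk, nbr, ← ev_app, ← ev_app]; exact eq_of_eqB e

/-- A conjugate of the neighbour commuting with it is in the list. -/
theorem conj_mem (c : Cm) (hc : Commute (c * nbr * c⁻¹) nbr) : ∃ k < 39, kk k = c * nbr * c⁻¹ := by
  obtain ⟨w, hw, d, hd, rfl⟩ := exists_rep c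
  have h := List.all_eq_true.1 repsB_ok w hw
  simp only [Bool.and_eq_true, Bool.or_eq_true, Bool.not_eq_true', List.any_eq_true, List.mem_range,
    List.all_eq_true, Nat.blt_eq] at h
  have e : ev xm w * d * nbr * (ev xm w * d)⁻¹ = ev xm w * nbr * (ev xm w)⁻¹ := by
    rw [mul_inv_rev, mul_assoc (ev xm w), (closure_commute hd).eq]; group
  rw [e] at hc ⊢
  rcases h.1.2 with h0 | ⟨k, hk, hk'⟩
  · refine absurd ?_ (ne_of_eqB h0)
    simp only [ev_app, ev_invWord h.2]
    have := hc.eq
    simp only [← mul_assoc] at this ⊢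
    exact this
  · refine ⟨k, hk, ?_⟩
    rw [eq_mul_inv_iff_mul_eq, kk, nbr, ← ev_app, ← ev_app]
    exact (eq_of_eqB hk').symm

end CfsgLib.CoThreeRec.Rel
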