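import Mathlib

/-!
# Certificates for identities between cosets of a known subgroup

`ι` maps a known group `C`, given by letters `xm`, into a group with a further element `n`.  A point
`(k, u)` is the coset of the image of `C` containing the product of the `k`-th base element and the word `u`.
An identity says where `n` maps a point.  A relator is a list of words `a₁, …, aₘ` with
`n a₁ n a₂ ⋯ n aₘ = 1`, so that no inverse of `n` occurs.
-/

set_option autoImplicit false

namespace CfsgLib.CoThreeRec

/-- An identity: the coset of `(j, c)` times the further element is that of `(k, e)`. -/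
structure Ident where
  /-- The source index. -/
  j : ℕ
  /-- The source word. -/
  c : List ℕ
  /-- The target index. -/
  k : ℕ
  /-- The target word. -/
  e : List ℕ

/-- The witness for the use of an identity. -/
structure Hop where
  /-- The number of the identity. -/
  id : ℕ
  /-- A word at the base point zero; otherwise numbers of stabiliser facts. -/
  s : List ℕ
  /-- Numbers of conjugation pairs. -/
  d : List ℕ

/-- A step of the certificate. -/
inductive Step
  | link (f : Ident)
  | ident (rel rot : ℕ) (start : ℕ × List ℕ) (hops : List Hop) (c : List ℕ)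
  | stab (rel rot : ℕ) (start : ℕ × List ℕ) (hops : List Hop) (last : Hop) (s : List ℕ)
  | comb (j : ℕ) (facts : List ℕ) (s : List ℕ)

/-- The fixed data. -/
structure Sys where
  /-- The relators. -/
  rels : List (List (List ℕ))
  /-- The base elements: the words that stand before each occurrence of the further element. -/
  base : List (List (List ℕ))
  /-- Pairs `(x, y)` of words with `n⁻¹ x n = y`. -/
  pairs : List (List ℕ × List ℕ)

variable (eqb : List ℕ → List ℕ → Bool) (Y : Sys)

/-- The product of the first components of some pairs. -/
def Sys.dx (d : List ℕ) : List ℕ := (d.map fun i => (Y.pairs.getD i ([], [])).1).flatten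

/-- The product of the second components of some pairs. -/
def Sys.dy (d : List ℕ) : List ℕ := (d.map fun i => (Y.pairs.getD i ([], [])).2).flatten

/-- The left factor of a witness at an index. -/
def stabWord (sts : List (ℕ × List ℕ)) (j : ℕ) (s : List ℕ) : Option (List ℕ) :=
  if j = 0 then some s
  else if s.all (fun i => Nat.blt i sts.length && Nat.beq (sts.getD i (0, [])).1 j) then
    some ((s.map fun i => (sts.getD i (0, [])).2).flatten)
  else none

/-- An identity used at a point. -/
def hopB (ids : List Ident) (sts : List (ℕ × List ℕ)) (h : Hop) (P : ℕ × List ℕ) : Option (ℕ × List ℕ) :=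
  match ids[h.id]?, stabWord sts P.1 h.s with
  | some f, some S =>
    if Nat.beq f.j P.1 && h.d.all (fun i => Nat.blt i Y.pairs.length) && eqb P.2 (S ++ f.c ++ Y.dx h.d) then
      some (f.k, f.e ++ Y.dy h.d)
    else none
  | _, _ => none

/-- Words with the further element between them, followed from a point. -/
def walkB (ids : List Ident) (sts : List (ℕ × List ℕ)) :
    List (List ℕ) → List Hop → ℕ × List ℕ → Option (ℕ × List ℕ)
  | [], [], P => some P
  | a :: w, h :: hs, P =>
    match hopB eqb Y ids sts h P with
    | some Q => walkB ids sts w hs (Q.1, Q.2 ++ a)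
    | none => none
  | _, _, _ => none

/-- One step. -/
def stepB (ids : List Ident) (sts : List (ℕ × List ℕ)) : Step → Option (List Ident × List (ℕ × List ℕ))
  | .link f =>
    if decide (f.e = []) && decide (Y.base.getD f.k [] = Y.base.getD f.j [] ++ [f.c]) then
      some (ids ++ [f], sts) else none
  | .ident r rot P hs c =>
    match (Y.rels.getD r []).rotate rot with
    | a :: w =>
      match walkB eqb Y ids sts w hs (P.1, P.2 ++ a) with
      | some Q => if Nat.blt r Y.rels.length && eqb Q.2 c then some (ids ++ [⟨Q.1, c, P.1, P.2⟩], sts) else none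
      | none => none
    | [] => none
  | .stab r rot P hs h s =>
    match (Y.rels.getD r []).rotate rot with
    | a :: w =>
      match walkB eqb Y ids sts w hs (P.1, P.2 ++ a) with
      | some Q =>
        match hopB eqb Y ids sts h Q with
        | some R => if Nat.blt r Y.rels.length && Nat.beq R.1 P.1 && eqb R.2 (s ++ P.2) then
            some (ids, sts ++ [(P.1, s)]) else none
        | none => none
      | none => none
    | [] => none
  | .comb j is s =>
    match stabWord sts j is with
    | some S => if !(Nat.beq j 0) && eqb S s then some (ids, sts ++ [(j, s)]) else none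
    | none => none

/-- All steps. -/
def runB : List Ident → List (ℕ × List ℕ) → List Step → Option (List Ident × List (ℕ × List ℕ))
  | ids, sts, [] => some (ids, sts)
  | ids, sts, e :: es =>
    match stepB eqb Y ids sts e with
    | some r => runB r.1 r.2 es
    | none => none

section Sound

variable {C M : Type*} [Group C] [Group M] (xm : ℕ → C) (ι : C →* M) (n : M)

/-- The image of a word. -/
def cv (w : List ℕ) : M := ι ((w.map xm).prod)

theorem cv_nil : cv xm ι [] = 1 := by simp [cv]

theorem cv_append (u w : List ℕ) : cv xm ι (u ++ w) = cv xm ι u * cv xm ι w := by simp [cv]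

/-- The value of a base element. -/
def baseVal (b : List (List ℕ)) : M := (b.map fun a => cv xm ι a * n).prod

/-- The value of a relator. -/
def relVal (b : List (List ℕ)) : M := (b.map fun a => n * cv xm ι a).prod

/-- Two elements are in the same coset of the image. -/
def SameCoset (a b : M) : Prop := ∃ p : C, a = ι p * b

variable {xm ι n}

theorem SameCoset.refl (a : M) : SameCoset ι a a := ⟨1, by rw [map_one, one_mul]⟩

theorem SameCoset.symm {a b : M} (h : SameCoset ι a b) : SameCoset ι b a := by
  obtain ⟨p, rfl⟩ := h
  exact ⟨p⁻¹, by rw [map_inv, inv_mul_cancel_left]⟩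

theorem SameCoset.trans {a b c : M} (h : SameCoset ι a b) (h' : SameCoset ι b c) : SameCoset ι a c := by
  obtain ⟨p, rfl⟩ := h
  obtain ⟨q, rfl⟩ := h'
  exact ⟨p * q, by rw [map_mul, mul_assoc]⟩

theorem SameCoset.mul_right {a b : M} (h : SameCoset ι a b) (g : M) : SameCoset ι (a * g) (b * g) := by
  obtain ⟨p, rfl⟩ := h
  exact ⟨p, mul_assoc _ _ _⟩

variable (xm ι n)

/-- The element of a point. -/
def Sys.pt (P : ℕ × List ℕ) : M := baseVal xm ι n (Y.base.getD P.1 []) * cv xm ι P.2

/-- What the checks assume. -/
structure Holds : Prop where
  eq : ∀ u v, eqb u v = true → (u.map xm).prod = (v.map xm).prod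
  rel : ∀ r ∈ Y.rels, relVal xm ι n r = 1
  pair : ∀ p ∈ Y.pairs, n⁻¹ * cv xm ι p.1 * n = cv xm ι p.2
  base : Y.base.getD 0 [] = []

/-- The identities and stabiliser facts hold. -/
structure Valid (ids : List Ident) (sts : List (ℕ × List ℕ)) : Prop where
  ident : ∀ f ∈ ids, SameCoset ι (Y.pt xm ι n (f.j, f.c) * n) (Y.pt xm ι n (f.k, f.e))
  stab : ∀ s ∈ sts, SameCoset ι (Y.pt xm ι n s) (Y.pt xm ι n (s.1, []))

variable {eqb Y xm ι n}

theorem pt_eq (P : ℕ × List ℕ) (w : List ℕ) : Y.pt xm ι n (P.1, P.2 ++ w) = Y.pt xm ι n P * cv xm ι w := by
  simp only [Sys.pt, cv_append, mul_assoc]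

theorem valid_nil : Valid Y xm ι n [] [] :=
  ⟨fun _ h => absurd h (by simp), fun _ h => absurd h (by simp)⟩

variable (H : Holds eqb Y xm ι n)

include H

theorem Holds.cv_eq {u v : List ℕ} (h : eqb u v = true) : cv xm ι u = cv xm ι v :=
  congrArg ι (H.eq u v h)

theorem Holds.dxy {d : List ℕ} (hd : ∀ i ∈ d, i < Y.pairs.length) :
    n⁻¹ * cv xm ι (Y.dx d) * n = cv xm ι (Y.dy d) := by
  induction d with
  | nil => simp [Sys.dx, Sys.dy, cv_nil]
  | cons i d ih =>
    have hi : n⁻¹ * cv xm ι (Y.pairs.getD i ([], [])).1 * n = cv xm ι (Y.pairs.getD i ([], [])).2 := by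
      rw [List.getD_eq_getElem _ _ (hd i List.mem_cons_self)]
      exact H.pair _ (List.getElem_mem _)
    have h := ih fun a ha => hd a (List.mem_cons_of_mem _ ha)
    simp only [Sys.dx, Sys.dy] at h
    simp only [Sys.dx, Sys.dy, List.map_cons, List.flatten_cons, cv_append, ← hi, ← h]
    group

theorem Holds.stabWord_spec {ids : List Ident} {sts : List (ℕ × List ℕ)} (hv : Valid Y xm ι n ids sts) {j : ℕ}
    {s S : List ℕ} (h : stabWord sts j s = some S) :
    SameCoset ι (Y.pt xm ι n (j, S)) (Y.pt xm ι n (j, [])) := by
  unfold stabWord at h
  split at h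
  · rename_i hj
    obtain rfl : s = S := Option.some.inj h
    subst hj
    exact ⟨(s.map xm).prod, by simp only [Sys.pt]; rw [H.base]; simp [baseVal, cv]⟩
  · split at h
    · rename_i hall
      obtain rfl : _ = S := Option.some.inj h
      simp only [List.all_eq_true, Bool.and_eq_true, Nat.blt_eq, Nat.beq_eq] at hall
      clear h
      induction s with
      | nil => exact SameCoset.refl _
      | cons i s ih =>
        obtain ⟨hi, hij⟩ := hall i List.mem_cons_self
        have h1 := hv.stab (sts.getD i (0, [])) (by rw [List.getD_eq_getElem _ _ hi]; exact List.getElem_mem hi)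
        have h2 := ih fun a ha => hall a (List.mem_cons_of_mem _ ha)
        simp only [Sys.pt, hij, List.map_cons, List.flatten_cons, cv_append, cv_nil, mul_one] at h1 h2 ⊢
        rw [← mul_assoc]
        exact (h1.mul_right _).trans h2
    · exact absurd h (by simp)

theorem Holds.hop_spec {ids : List Ident} {sts : List (ℕ × List ℕ)} (hv : Valid Y xm ι n ids sts) {h : Hop}
    {P Q : ℕ × List ℕ} (he : hopB eqb Y ids sts h P = some Q) :
    SameCoset ι (Y.pt xm ι n P * n) (Y.pt xm ι n Q) := by
  unfold hopB at he
  split at he
  · rename_i f S hf hS
    split at he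
    · rename_i hc
      simp only [Bool.and_eq_true, List.all_eq_true, Nat.blt_eq, Nat.beq_eq] at hc
      obtain ⟨⟨hj, hd⟩, heq⟩ := hc
      obtain rfl : _ = Q := Option.some.inj he
      have hS' := H.stabWord_spec hv hS
      have hf' := hv.ident f (List.mem_of_getElem? hf)
      rw [hj] at hf'
      simp only [Sys.pt, cv_append, cv_nil, mul_one] at hS' hf' ⊢
      rw [H.cv_eq heq, cv_append, cv_append, ← H.dxy hd]
      have h1 := hS'.mul_right (cv xm ι f.c * cv xm ι (Y.dx h.d) * n)
      have h2 := hf'.mul_right (n⁻¹ * cv xm ι (Y.dx h.d) * n)
      refine SameCoset.trans ?_ (h2.trans ?_)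
      · simpa only [mul_assoc, mul_inv_cancel_left] using h1
      · simpa only [mul_assoc] using SameCoset.refl (ι := ι) _
    · exact absurd he (by simp)
  · exact absurd he (by simp)

theorem Holds.walk_spec {ids : List Ident} {sts : List (ℕ × List ℕ)} (hv : Valid Y xm ι n ids sts) :
    ∀ {w : List (List ℕ)} {hs : List Hop} {P Q : ℕ × List ℕ}, walkB eqb Y ids sts w hs P = some Q →
      SameCoset ι (Y.pt xm ι n P * relVal xm ι n w) (Y.pt xm ι n Q)
  | [], [], P, Q, h => by
    obtain rfl : P = Q := by simpa [walkB] using h
    simpa [relVal] using SameCoset.refl (ι := ι) (Y.pt xm ι n P)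
  | [], _ :: _, P, Q, h => by simp [walkB] at h
  | _ :: _, [], P, Q, h => by simp [walkB] at h
  | a :: w, b :: hs, P, Q, h => by
    unfold walkB at h
    split at h
    · rename_i R hR
      have h1 := ((H.hop_spec hv hR).mul_right (cv xm ι a)).mul_right (relVal xm ι n w)
      rw [← pt_eq] at h1
      have h2 := h1.trans (Holds.walk_spec hv h)
      simpa [relVal, mul_assoc] using h2
    · exact absurd h (by simp)

theorem Holds.rotate {r rot : ℕ} (hr : r < Y.rels.length) : relVal xm ι n ((Y.rels.getD r []).rotate rot) = 1 := by
  have h1 : relVal xm ι n (Y.rels.getD r []) = 1 := H.rel _ (by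
    rw [List.getD_eq_getElem _ _ hr]; exact List.getElem_mem hr)
  induction rot with
  | zero => simpa using h1
  | succ k ih =>
    rw [← List.rotate_rotate _ k 1]
    revert ih
    generalize (Y.rels.getD r []).rotate k = u
    intro ih
    cases u with
    | nil => simpa using ih
    | cons a u =>
      simp only [relVal, List.map_cons, List.prod_cons] at ih
      simp only [List.rotate_cons_succ, List.rotate_zero, relVal, List.map_append, List.prod_append,
        List.map_cons, List.map_nil, List.prod_cons, List.prod_nil, mul_one]
      exact mul_eq_one_comm.1 ih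

theorem Holds.step_spec {ids ids' : List Ident} {sts sts' : List (ℕ × List ℕ)} (hv : Valid Y xm ι n ids sts)
    {e : Step} (h : stepB eqb Y ids sts e = some (ids', sts')) : Valid Y xm ι n ids' sts' := by
  cases e with
  | link f =>
    simp only [stepB] at h
    split at h
    · rename_i hc
      simp only [Bool.and_eq_true, decide_eq_true_eq] at hc
      obtain ⟨he, hw⟩ := hc
      obtain ⟨rfl, rfl⟩ := Prod.mk.injEq _ _ _ _ ▸ Option.some.inj h
      refine ⟨fun a ha => ?_, hv.stab⟩
      rcases List.mem_append.1 ha with ha | ha
      · exact hv.ident a ha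
      · obtain rfl := List.mem_singleton.1 ha
        have e1 : Y.pt xm ι n (a.j, a.c) * n = Y.pt xm ι n (a.k, a.e) := by
          simp only [Sys.pt, hw, he, baseVal, List.map_append, List.prod_append, List.map_cons, List.map_nil,
            List.prod_cons, List.prod_nil, mul_one, cv_nil, mul_assoc]
        rw [e1]
        exact SameCoset.refl _
    · exact absurd h (by simp)
  | ident r rot P hs c =>
    simp only [stepB] at h
    split at h
    · rename_i a w hw
      split at h
      · rename_i Q hQ
        split at h
        · rename_i hc
          simp only [Bool.and_eq_true, Nat.blt_eq] at hc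
          obtain ⟨hr, heq⟩ := hc
          obtain ⟨rfl, rfl⟩ := Prod.mk.injEq _ _ _ _ ▸ Option.some.inj h
          refine ⟨fun b hb => ?_, hv.stab⟩
          rcases List.mem_append.1 hb with hb | hb
          · exact hv.ident b hb
          · obtain rfl := List.mem_singleton.1 hb
            have h1 := H.walk_spec hv hQ
            have h2 := H.rotate (rot := rot) hr
            rw [hw] at h2
            simp only [relVal, List.map_cons, List.prod_cons] at h2
            rw [mul_assoc] at h2
            rw [pt_eq, mul_assoc] at h1
            simp only [relVal] at h1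
            rw [eq_inv_of_mul_eq_one_right h2] at h1
            have h3 := (h1.mul_right n).symm
            rw [inv_mul_cancel_right] at h3
            simp only [Sys.pt, H.cv_eq heq] at h3 ⊢
            exact h3
        · exact absurd h (by simp)
      · exact absurd h (by simp)
    · exact absurd h (by simp)
  | stab r rot P hs b s =>
    simp only [stepB] at h
    split at h
    · rename_i a w hw
      split at h
      · rename_i Q hQ
        split at h
        · rename_i R hR
          split at h
          · rename_i hc
            simp only [Bool.and_eq_true, Nat.blt_eq, Nat.beq_eq] at hc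
            obtain ⟨⟨hr, hk⟩, heq⟩ := hc
            obtain ⟨rfl, rfl⟩ := Prod.mk.injEq _ _ _ _ ▸ Option.some.inj h
            refine ⟨hv.ident, fun x hx => ?_⟩
            rcases List.mem_append.1 hx with hx | hx
            · exact hv.stab x hx
            · obtain rfl := List.mem_singleton.1 hx
              have h1 := H.walk_spec hv hQ
              have h2 := H.rotate (rot := rot) hr
              rw [hw] at h2
              simp only [relVal, List.map_cons, List.prod_cons] at h2
              rw [mul_assoc] at h2
              rw [pt_eq, mul_assoc] at h1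
              simp only [relVal] at h1
              rw [eq_inv_of_mul_eq_one_right h2] at h1
              have h3 := h1.mul_right n
              rw [inv_mul_cancel_right] at h3
              have h4 := (h3.trans (H.hop_spec hv hR)).symm
              simp only [Sys.pt, hk, H.cv_eq heq, cv_append, cv_nil, mul_one, ← mul_assoc] at h4 ⊢
              simpa only [mul_inv_cancel_right] using h4.mul_right (cv xm ι P.2)⁻¹
          · exact absurd h (by simp)
        · exact absurd h (by simp)
      · exact absurd h (by simp)
    · exact absurd h (by simp)
  | comb j is s =>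
    simp only [stepB] at h
    split at h
    · rename_i S hS
      split at h
      · rename_i hc
        simp only [Bool.and_eq_true] at hc
        obtain ⟨rfl, rfl⟩ := Prod.mk.injEq _ _ _ _ ▸ Option.some.inj h
        refine ⟨hv.ident, fun x hx => ?_⟩
        rcases List.mem_append.1 hx with hx | hx
        · exact hv.stab x hx
        · obtain rfl := List.mem_singleton.1 hx
          have h1 := H.stabWord_spec hv hS
          simp only [Sys.pt, H.cv_eq hc.2] at h1 ⊢
          exact h1
      · exact absurd h (by simp)
    · exact absurd h (by simp)

theorem Holds.run_spec : ∀ {es : List Step} {ids ids' : List Ident} {sts sts' : List (ℕ × List ℕ)},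
    Valid Y xm ι n ids sts → runB eqb Y ids sts es = some (ids', sts') → Valid Y xm ι n ids' sts'
  | [], ids, ids', sts, sts', hv, h => by
    obtain ⟨rfl, rfl⟩ := Prod.mk.injEq _ _ _ _ ▸ Option.some.inj h
    exact hv
  | e :: es, ids, ids', sts, sts', hv, h => by
    unfold runB at h
    split at h
    · rename_i r hr
      exact Holds.run_spec (H.step_spec hv hr) h
    · exact absurd h (by simp)

end Sound

end CfsgLib.CoThreeRec
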